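import Cfsg.Agent.Lib.BlocksCore.WeakOrth
import Cfsg.Agent.Lib.CharClifford.Central
import Cfsg.Agent.Lib.CharCore.Basic
import Mathlib.GroupTheory.Sylow

/-!
# Defect zero blocks
-/

set_option linter.unusedSectionVars false

namespace Cfsg.Agent.BlocksCore

open scoped ComplexConjugate

variable {G : Type*} [Group G] [Fintype G] {p : ℕ} {M : Ideal AlgInt}

theorem charDegree_dvd_card (χ : IrrCharacter G) : charDegree (χ : G → ℂ) ∣ Nat.card G := by
  obtain ⟨d, -, hd, h⟩ := CharClifford.exists_degree_dvd_card χ.2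
  have : charDegree (χ : G → ℂ) = d := by
    have := irr_one_eq χ
    rw [h] at this
    exact_mod_cast this.symm
  rwa [this]

theorem blockCoeff_singleton (χ : IrrCharacter G) (g : G) :
    blockCoeff ({χ} : Set (IrrCharacter G)) g =
      (Nat.card G : ℂ)⁻¹ * ((χ : G → ℂ) 1 * conj ((χ : G → ℂ) g)) := by
  rw [blockCoeff, finsum_mem_singleton]

/-- A character of `p`-defect zero forms a block by itself. -/
theorem blockOf_eq_singleton_of_not_dvd (hM : IsPModular p M) (χ : IrrCharacter G)
    (h : ¬ p ∣ Nat.card G / charDegree (χ : G → ℂ)) :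
    blockOf M (χ : G → ℂ) = {χ} := by
  have := isPrime hM
  refine Set.Subset.antisymm (blockOf_subset_of_integral hM (fun g => ?_) rfl)
    (Set.singleton_subset_iff.mpr (mem_blockOf_self χ))
  rw [blockCoeff_singleton, irr_one_eq, ← mul_assoc]
  have hd : ((Nat.card G : ℂ)⁻¹ * (charDegree (χ : G → ℂ) : ℂ)) =
      ((Nat.card G / charDegree (χ : G → ℂ) : ℕ) : ℂ)⁻¹ := by
    rw [Nat.cast_div (charDegree_dvd_card χ) (by exact_mod_cast (charDegree_pos χ).ne'), inv_div,
      div_eq_inv_mul]
  rw [hd, conj_irr]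
  exact (localRing M).mul_mem (memLocalRing_natCast_inv hM h)
    (memLocalRing_of_isIntegral (isIntegral_irr χ _))

/-- A character alone in its block vanishes at `p`-singular elements. -/
theorem eq_zero_of_blockOf_eq_singleton (hM : IsPModular p M) (χ : IrrCharacter G)
    (h : blockOf M (χ : G → ℂ) = {χ}) {g : G} (hg : p ∣ orderOf g) : (χ : G → ℂ) g = 0 := by
  have h0 := blockCoeff_eq_zero_of_dvd_orderOf hM (isPBlock_blockOf χ)
    (g := g⁻¹) (by rwa [orderOf_inv])
  rw [h, blockCoeff_singleton, conj_irr, inv_inv] at h0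
  simpa [Nat.card_pos.ne', irr_one_ne_zero χ] using h0

/-- A character vanishing at the nontrivial `p`-elements has full `p`-part in its degree. -/
theorem not_dvd_of_vanishes [hp : Fact p.Prime] (χ : IrrCharacter G)
    (h : ∀ g : G, g ≠ 1 → (∃ k, orderOf g = p ^ k) → (χ : G → ℂ) g = 0) :
    ¬ p ∣ Nat.card G / charDegree (χ : G → ℂ) := by
  classical
  let P : Sylow p G := default
  obtain ⟨k, hk⟩ := CharCore.IsCharacter.exists_classInner_eq_natCast
    (CharCore.isCharacter_restrict (CharCore.irr_isCharacter χ) (P : Subgroup G))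
    (CharCore.isCharacter_one (G := (P : Subgroup G)))
  rw [CharCore.classInner_def, Finset.sum_eq_single 1] at hk
  · simp only [Pi.one_apply, map_one, mul_one, OneMemClass.coe_one, irr_one_eq] at hk
    have hP0 : (Nat.card (P : Subgroup G) : ℂ) ≠ 0 := by exact_mod_cast Nat.card_pos.ne'
    rw [inv_mul_eq_iff_eq_mul₀ hP0] at hk
    have hk' : charDegree (χ : G → ℂ) = Nat.card (P : Subgroup G) * k := by exact_mod_cast hk
    intro hdvd
    obtain ⟨q, hq⟩ := hdvd
    have h1 := Nat.div_mul_cancel (charDegree_dvd_card χ)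
    rw [hq, hk', Sylow.card_eq_multiplicity] at h1
    have : p ^ ((Nat.card G).factorization p + 1) ∣ Nat.card G := ⟨q * k, h1.symm.trans (by ring)⟩
    exact Nat.pow_succ_factorization_not_dvd Nat.card_pos.ne' hp.out this
  · intro g _ hg
    rw [h g (by simpa using hg), zero_mul]
    obtain ⟨j, hj⟩ := IsPGroup.iff_orderOf.mp P.2 g
    exact ⟨j, by simpa using hj⟩
  · exact fun h => absurd (Finset.mem_univ _) h

theorem blockOf_eq_singleton_iff [Fact p.Prime] (hM : IsPModular p M) (χ : IrrCharacter G) :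
    blockOf M (χ : G → ℂ) = {χ} ↔ ¬ p ∣ Nat.card G / charDegree (χ : G → ℂ) := by
  refine ⟨fun h => not_dvd_of_vanishes χ fun g hg ⟨k, hk⟩ => ?_,
    blockOf_eq_singleton_of_not_dvd hM χ⟩
  refine eq_zero_of_blockOf_eq_singleton hM χ h ?_
  rcases Nat.eq_zero_or_pos k with rfl | hk0
  · exact absurd (orderOf_eq_one_iff.mp (by simpa using hk)) hg
  · exact hk ▸ dvd_pow_self p hk0.ne'

end Cfsg.Agent.BlocksCore
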