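import Cfsg.Prelude.Def_Blocks
import Mathlib.GroupTheory.OrderOfElement
import Mathlib.RingTheory.Int.Basic

/-!
# The `p`-part of an element
-/

namespace Cfsg.Agent.BlocksCore

variable {G : Type*} [Group G] {p : ℕ}

/-- An exponent projecting a commuting product onto its `p`-part. -/
theorem zpow_mul_eq {x y : G} (h : Commute x y) {K m : ℕ} (hx : x ^ p ^ K = 1) (hy : y ^ m = 1)
    {a b : ℤ} (hab : a * (p ^ K : ℕ) + b * m = 1) :
    (x * y) ^ (b * m) = x ∧ (x * y) ^ (a * (p ^ K : ℕ)) = y := by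
  constructor
  · rw [h.mul_zpow, show b * (m : ℤ) = 1 - a * (p ^ K : ℕ) by linarith, zpow_sub, zpow_one,
      mul_comm a, zpow_mul, zpow_natCast, hx, one_zpow,
      show (1 : ℤ) - (p ^ K : ℕ) * a = b * m by linarith, mul_comm b, zpow_mul, zpow_natCast, hy,
      one_zpow]
    simp
  · rw [h.mul_zpow, show a * ((p ^ K : ℕ) : ℤ) = 1 - b * m by linarith, zpow_sub, zpow_sub,
      zpow_one, zpow_one, mul_comm b, zpow_mul y, zpow_natCast, hy, one_zpow,
      show x ^ ((m : ℤ) * b) = x by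
        rw [show (m : ℤ) * b = 1 - (p ^ K : ℕ) * a by linarith, zpow_sub, zpow_one, zpow_mul,
          zpow_natCast, hx, one_zpow, inv_one, mul_one]]
    simp

theorem isPPart_unique (hp : p.Prime) {g x x' : G} (h : IsPPart p g x) (h' : IsPPart p g x') :
    x = x' := by
  obtain ⟨y, hy, hc, ⟨k, hk⟩, hm⟩ := h
  obtain ⟨y', hy', hc', ⟨k', hk'⟩, hm'⟩ := h'
  have hcop : IsCoprime ((p ^ (k + k') : ℕ) : ℤ) ((orderOf y * orderOf y' : ℕ) : ℤ) := by
    rw [Int.isCoprime_iff_gcd_eq_one]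
    exact Nat.Coprime.pow_left _ ((hp.coprime_iff_not_dvd).mpr fun hd =>
      (hp.dvd_mul.mp hd).elim hm hm')
  obtain ⟨a, b, hab⟩ := hcop
  have h1 := (zpow_mul_eq hc (K := k + k') (m := orderOf y * orderOf y')
    (orderOf_dvd_iff_pow_eq_one.mp (hk ▸ pow_dvd_pow p (Nat.le_add_right k k')))
    (orderOf_dvd_iff_pow_eq_one.mp (dvd_mul_right _ _)) hab).1
  have h2 := (zpow_mul_eq hc' (K := k + k') (m := orderOf y * orderOf y')
    (orderOf_dvd_iff_pow_eq_one.mp (hk' ▸ pow_dvd_pow p (Nat.le_add_left k' k)))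
    (orderOf_dvd_iff_pow_eq_one.mp (dvd_mul_left _ _)) hab).1
  rw [hy] at h1
  rw [hy', h1] at h2
  exact h2

variable [Finite G]

theorem exists_isPPart (hp : p.Prime) (g : G) :
    ∃ x y : G, x * y = g ∧ Commute x y ∧ (∃ k : ℕ, orderOf x = p ^ k) ∧ ¬ p ∣ orderOf y ∧
      x ∈ Subgroup.zpowers g ∧ y ∈ Subgroup.zpowers g := by
  obtain ⟨v, m, hm, hn⟩ := Nat.exists_eq_pow_mul_and_not_dvd (orderOf_pos g).ne' p hp.ne_one
  have hcop : IsCoprime ((p ^ v : ℕ) : ℤ) (m : ℤ) := by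
    rw [Int.isCoprime_iff_gcd_eq_one]
    exact Nat.Coprime.pow_left _ ((hp.coprime_iff_not_dvd).mpr hm)
  obtain ⟨a, b, hab⟩ := hcop
  refine ⟨g ^ (b * m), g ^ (a * (p ^ v : ℕ)), ?_, (Commute.refl g).zpow_zpow _ _, ?_, ?_,
    Subgroup.zpow_mem_zpowers g _, Subgroup.zpow_mem_zpowers g _⟩
  · rw [← zpow_add, add_comm, hab, zpow_one]
  · have h1 : (g ^ (b * m)) ^ (p ^ v) = 1 := by
      rw [← zpow_natCast, ← zpow_mul, show b * (m : ℤ) * (p ^ v : ℕ) = (orderOf g : ℕ) * b by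
        rw [hn]; push_cast; ring, zpow_mul, zpow_natCast, pow_orderOf_eq_one, one_zpow]
    obtain ⟨k, -, hk⟩ := (Nat.dvd_prime_pow hp).mp (orderOf_dvd_of_pow_eq_one h1)
    exact ⟨k, hk⟩
  · have h1 : (g ^ (a * (p ^ v : ℕ))) ^ m = 1 := by
      rw [← zpow_natCast, ← zpow_mul, show a * (p ^ v : ℕ) * (m : ℤ) = (orderOf g : ℕ) * a by
        rw [hn]; push_cast; ring, zpow_mul, zpow_natCast, pow_orderOf_eq_one, one_zpow]
    exact fun hd => hm (hd.trans (orderOf_dvd_of_pow_eq_one h1))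

theorem exists_pPart (hp : p.Prime) (g : G) : ∃ x, IsPPart p g x := by
  obtain ⟨x, y, h1, h2, h3, h4, -, -⟩ := exists_isPPart hp g
  exact ⟨x, y, h1, h2, h3, h4⟩

theorem isPPart_conj {g x : G} (h : IsPPart p g x) (c : G) :
    IsPPart p (c * g * c⁻¹) (c * x * c⁻¹) := by
  obtain ⟨y, hy, hc, hk, hm⟩ := h
  refine ⟨c * y * c⁻¹, by rw [← hy]; group, hc.map (MulAut.conj c).toMonoidHom, ?_, ?_⟩
  · simpa using (MulEquiv.orderOf_eq (MulAut.conj c) x).trans hk.choose_spec |> fun h => ⟨_, h⟩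
  · rwa [← MulAut.conj_apply, MulEquiv.orderOf_eq]

end Cfsg.Agent.BlocksCore
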