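import Cfsg.Agent.Lib.BlocksCore.Ring

/-!
# Multiplicative functionals modulo the local ideal belong to blocks
-/

set_option linter.unusedSectionVars false

namespace Cfsg.Agent.BlocksCore

variable {G : Type*} [Group G] [Fintype G] {p : ℕ} {M : Ideal AlgInt}

/-- A functional on integral class functions which modulo the local ideal is linear and
multiplicative is the central character of a unique block. -/
theorem exists_block_of_functional (hM : IsPModular p M) (φ : (G → ℂ) → ℂ)
    (hint : ∀ a, IsIntClassFun M a → MemLocalRing M (φ a))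
    (hadd : ∀ a b, IsIntClassFun M a → IsIntClassFun M b →
      MemLocalIdeal M (φ (a + b) - (φ a + φ b)))
    (hsmul : ∀ c a, MemLocalRing M c → IsIntClassFun M a → MemLocalIdeal M (φ (c • a) - c * φ a))
    (hmul : ∀ a b, IsIntClassFun M a → IsIntClassFun M b →
      MemLocalIdeal M (φ (conv a b) - φ a * φ b))
    (hone : MemLocalIdeal M (φ (classInd 1) - 1)) :
    ∃ B : Set (IrrCharacter G), IsPBlock M B ∧
      ∀ χ ∈ B, ∀ a, IsIntClassFun M a → MemLocalIdeal M (φ a - omega (χ : G → ℂ) a) := by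
  classical
  have := isPrime hM
  haveI := finite_irr (G := G)
  haveI := Fintype.ofFinite (IrrCharacter G)
  let q := Ideal.Quotient.mk (localIdeal M)
  have hfun : ∀ v : omegaRing (G := G) M, ∃ a, IsIntClassFun M a ∧
      ∀ χ : IrrCharacter G, omega (χ : G → ℂ) a = v.1 χ := fun v => v.2
  choose av hav hval using hfun
  have huniq : ∀ (v : omegaRing (G := G) M) (a : G → ℂ), IsIntClassFun M a →
      (∀ χ : IrrCharacter G, omega (χ : G → ℂ) a = v.1 χ) → av v = a := fun v a ha h =>
    eq_of_omega_eq (hav v).1 ha.1 fun χ => by rw [hval, h]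
  let Φ : omegaRing (G := G) M → (localRing M ⧸ localIdeal M) :=
    fun v => q ⟨φ (av v), hint _ (hav v)⟩
  have hΦmul : ∀ v w, Φ (v * w) = Φ v * Φ w := by
    intro v w
    have h := huniq (v * w) (conv (av v) (av w)) (isIntClassFun_conv (hav v) (hav w))
      fun χ => by rw [omega_conv χ (hav v).1 (hav w).1, hval, hval]; rfl
    show q _ = q _ * q _
    rw [← map_mul]
    refine Ideal.Quotient.eq.mpr ?_
    show MemLocalIdeal M (φ (av (v * w)) - φ (av v) * φ (av w))
    rw [h]
    exact hmul _ _ (hav v) (hav w)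
  have hΦconst : ∀ c : localRing M, Φ ⟨fun _ => c.1, const_mem_omegaRing c.2⟩ = q c := by
    intro c
    have h := huniq ⟨fun _ => c.1, const_mem_omegaRing c.2⟩ ((c : ℂ) • classInd 1)
      (isIntClassFun_smul (isIntClassFun_classInd 1) c.2)
      fun χ => by rw [omega_smul, omega_classInd_one, mul_one]
    refine Ideal.Quotient.eq.mpr ?_
    show MemLocalIdeal M (φ (av _) - (c : ℂ))
    rw [h, show φ ((c : ℂ) • classInd 1) - (c : ℂ) =
      (φ ((c : ℂ) • classInd 1) - c * φ (classInd 1)) + c * (φ (classInd 1) - 1) by ring]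
    exact memLocalIdeal_add (hsmul _ _ c.2 (isIntClassFun_classInd 1))
      (memLocalIdeal_mul_left c.2 hone)
  have hΦsub : ∀ v w, Φ (v - w) = Φ v - Φ w := by
    intro v w
    rw [eq_sub_iff_add_eq]
    have h := huniq v (av (v - w) + av w) (isIntClassFun_add (hav _) (hav w))
      fun χ => by rw [omega_add, hval, hval]; simp
    show q _ + q _ = q _
    rw [← map_add]
    refine (Ideal.Quotient.eq.mpr ?_).symm
    show MemLocalIdeal M (φ (av v) - (φ (av (v - w)) + φ (av w)))
    rw [h]
    exact hadd _ _ (hav _) (hav w)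
  suffices ∃ χ : IrrCharacter G, ∀ v : omegaRing (G := G) M,
      Φ v = q ⟨v.1 χ, omegaRing_apply_memLocalRing v.2 χ⟩ by
    obtain ⟨χ, hχ⟩ := this
    refine ⟨blockOf M (χ : G → ℂ), isPBlock_blockOf χ, fun ψ hψ a ha => ?_⟩
    have h1 := hχ ⟨_, omega_mem_omegaRing ha⟩
    have h2 : MemLocalIdeal M (φ (av ⟨_, omega_mem_omegaRing ha⟩) - omega (χ : G → ℂ) a) :=
      Ideal.Quotient.eq.mp h1
    rw [huniq _ a ha fun _ => rfl] at h2
    rw [← sub_add_sub_cancel _ (omega (χ : G → ℂ) a)]
    exact memLocalIdeal_add h2 (omega_sub_memLocalIdeal hψ ha)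
  by_contra hne
  push Not at hne
  choose v hv using hne
  let w : IrrCharacter G → omegaRing (G := G) M := fun χ =>
    v χ - ⟨fun _ => (v χ).1 χ, const_mem_omegaRing (omegaRing_apply_memLocalRing (v χ).2 χ)⟩
  have hw : ∀ χ, Φ (w χ) ≠ 0 := fun χ h => hv χ (by
    rw [hΦsub, sub_eq_zero] at h
    exact h.trans (hΦconst ⟨(v χ).1 χ, omegaRing_apply_memLocalRing (v χ).2 χ⟩))
  have hprod : ∏ χ, w χ = ⟨fun _ => (0 : ℂ), const_mem_omegaRing (localRing M).zero_mem⟩ := by
    apply Subtype.ext
    funext ψ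
    rw [SubmonoidClass.coe_finset_prod, Finset.prod_apply]
    exact Finset.prod_eq_zero (Finset.mem_univ ψ) (sub_self _)
  have hΦone : Φ 1 = 1 := (hΦconst 1).trans (map_one q)
  let Φm : omegaRing (G := G) M →* (localRing M ⧸ localIdeal M) := ⟨⟨Φ, hΦone⟩, hΦmul⟩
  have h1 : ∏ χ, Φm (w χ) = 0 := by
    rw [← map_prod, hprod]
    exact (hΦconst 0).trans (map_zero q)
  obtain ⟨χ, -, hχ⟩ := Finset.prod_eq_zero_iff.mp h1
  exact hw χ hχ

end Cfsg.Agent.BlocksCore
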