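import Cfsg.Agent.Lib.BlocksCore.Inflate
import Cfsg.Agent.Lib.BlocksCore.Functional
import Cfsg.Agent.Lib.BlocksDefect.Congruence
import Cfsg.Agent.Lib.BlocksDefect.Induced

/-!
# Brauer homomorphism and definedness of induced blocks
-/

set_option linter.unusedSectionVars false

namespace Cfsg.Agent.BlocksCore

open BlocksDefect

variable {G : Type*} [Group G] [Fintype G] {p : ℕ} [Fact p.Prime] {M : Ideal AlgInt}

/-- The Brauer restriction: keep only the points centralising `P`, as a function on `H`. -/
noncomputable def brRes (P H : Subgroup G) (a : G → ℂ) : H → ℂ :=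
  {h : H | (h : G) ∈ Subgroup.centralizer (P : Set G)}.indicator fun h => a (h : G)

theorem brRes_of_mem {P H : Subgroup G} {h : H} (a : G → ℂ)
    (hh : (h : G) ∈ Subgroup.centralizer (P : Set G)) : brRes P H a h = a h :=
  Set.indicator_of_mem
    (show h ∈ {h : H | (h : G) ∈ Subgroup.centralizer (P : Set G)} from hh) _

theorem brRes_of_notMem {P H : Subgroup G} {h : H} (a : G → ℂ)
    (hh : (h : G) ∉ Subgroup.centralizer (P : Set G)) : brRes P H a h = 0 :=
  Set.indicator_of_notMem
    (show h ∉ {h : H | (h : G) ∈ Subgroup.centralizer (P : Set G)} from hh) _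

theorem omega_brRes_classInd (P H : Subgroup G) (ξ : H → ℂ) (g : G) :
    omega ξ (brRes P H (classInd g)) = brauerCentralChar P H ξ g := by
  classical
  rw [brauerCentralChar, finsum_mem_def, finsum_eq_sum_of_fintype, omega_eq_sum, Finset.sum_div]
  refine Finset.sum_congr rfl fun h _ => ?_
  by_cases hh : IsConj g (h : G) ∧ (h : G) ∈ Subgroup.centralizer (P : Set G)
  · rw [brRes_of_mem _ hh.2, classInd_apply_of_isConj hh.1, one_mul,
      Set.indicator_of_mem (by exact hh)]
  · rw [Set.indicator_of_notMem (by exact hh)]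
    by_cases hc : (h : G) ∈ Subgroup.centralizer (P : Set G)
    · rw [brRes_of_mem _ hc, classInd_apply_of_not_isConj fun hg => hh ⟨hg, hc⟩, zero_mul, zero_div]
    · rw [brRes_of_notMem _ hc, zero_mul, zero_div]

theorem conj_mem_centralizer_iff {P : Subgroup G} {k : G}
    (hk : k ∈ Subgroup.normalizer (P : Set G)) {x : G} :
    k * x * k⁻¹ ∈ Subgroup.centralizer (P : Set G) ↔ x ∈ Subgroup.centralizer (P : Set G) := by
  have key : ∀ k ∈ Subgroup.normalizer (P : Set G), ∀ x ∈ Subgroup.centralizer (P : Set G),
      k * x * k⁻¹ ∈ Subgroup.centralizer (P : Set G) := by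
    intro k hk x hx
    rw [Subgroup.mem_centralizer_iff] at hx ⊢
    intro u hu
    have hu' : k⁻¹ * u * k ∈ (P : Set G) := by
      have := (Subgroup.mem_normalizer_iff.mp (inv_mem hk) u).mp hu
      rwa [inv_inv] at this
    calc u * (k * x * k⁻¹) = k * ((k⁻¹ * u * k) * x) * k⁻¹ := by group
      _ = k * (x * (k⁻¹ * u * k)) * k⁻¹ := by rw [hx _ hu']
      _ = k * x * k⁻¹ * u := by group
  refine ⟨fun h => ?_, key k hk x⟩
  have := key k⁻¹ (inv_mem hk) _ h
  simpa [mul_assoc] using this

theorem isIntClassFun_brRes [M.IsPrime] {P H : Subgroup G}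
    (hHN : H ≤ Subgroup.normalizer (P : Set G)) {a : G → ℂ} (ha : IsIntClassFun M a) :
    IsIntClassFun M (brRes P H a) := by
  refine ⟨fun h k => ?_, fun h => ?_⟩
  · by_cases hc : (h : G) ∈ Subgroup.centralizer (P : Set G)
    · rw [brRes_of_mem _ hc, brRes_of_mem _ (by
        simpa using (conj_mem_centralizer_iff (hHN k.2)).mpr hc)]
      simpa using ha.1 (h : G) (k : G)
    · rw [brRes_of_notMem _ hc, brRes_of_notMem _ fun h' => hc
        ((conj_mem_centralizer_iff (hHN k.2)).mp (by simpa using h'))]
  · by_cases hc : (h : G) ∈ Subgroup.centralizer (P : Set G)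
    · rw [brRes_of_mem _ hc]; exact ha.2 _
    · rw [brRes_of_notMem _ hc]; exact (localRing M).zero_mem

/-- Restriction and Brauer restriction have congruent central character values. -/
theorem omega_res_sub_brRes (hM : IsPModular p M) {P H : Subgroup G} [Fintype H]
    (hP : IsPGroup p P) (hPH : P ≤ H) (hHN : H ≤ Subgroup.normalizer (P : Set G))
    (ξ : IrrCharacter H) {a : G → ℂ} (ha : IsIntClassFun M a) :
    MemLocalIdeal M (omega (ξ : H → ℂ) (res H a) - omega (ξ : H → ℂ) (brRes P H a)) := by
  classical
  have := isPrime hM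
  set N := P.subgroupOf H with hN
  haveI : N.Normal := Subgroup.normal_subgroupOf_of_le_normalizer hHN
  have hNp : IsPGroup p N := hP.of_equiv (Subgroup.subgroupOfEquivOfLe hPH).symm
  set d : H → ℂ := res H a - brRes P H a with hd
  have hdI : IsIntClassFun M d := by
    rw [hd, sub_eq_add_neg]
    exact isIntClassFun_add (isIntClassFun_res H ha)
      (isIntClassFun_neg (isIntClassFun_brRes hHN ha))
  have h1 : omega (ξ : H → ℂ) (res H a) - omega (ξ : H → ℂ) (brRes P H a) = omega (ξ : H → ℂ) d := by
    rw [hd, sub_eq_add_neg (res H a), omega_add, omega_neg, sub_eq_add_neg]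
  rw [h1]
  refine omega_memLocalIdeal_of_pushFun hM ξ N hNp hdI fun q => ?_
  rw [pushFun_apply]
  let _ : MulAction N H :=
    { smul := fun u h => (u : H) * h * (u : H)⁻¹
      one_smul := fun h => by
        change ((1 : N) : H) * h * ((1 : N) : H)⁻¹ = h
        simp
      mul_smul := fun u v h => by
        change ((u * v : N) : H) * h * ((u * v : N) : H)⁻¹ =
          (u : H) * ((v : H) * h * (v : H)⁻¹) * (u : H)⁻¹
        simp [mul_assoc] }
  have key := memLocalIdeal_sum_sub_fixed (α := H) (P := N) hM hNp
    (fun h => if QuotientGroup.mk' N h = q then d h else 0) ?_ ?_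
  · rw [Finset.sum_eq_zero (s := Finset.univ.filter (· ∈ MulAction.fixedPoints N H)) ?_,
      sub_zero] at key
    · exact key
    · intro h hh
      have hc : (h : G) ∈ Subgroup.centralizer (P : Set G) := by
        rw [Subgroup.mem_centralizer_iff]
        intro u hu
        have := congrArg (Subtype.val : H → G)
          ((Finset.mem_filter.mp hh).2 ⟨⟨u, hPH hu⟩, hu⟩)
        exact mul_inv_eq_iff_eq_mul.mp this
      split_ifs
      · rw [hd, Pi.sub_apply, brRes_of_mem _ hc, res, sub_self]
      · rfl
  · intro u h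
    change (if QuotientGroup.mk' N ((u : H) * h * (u : H)⁻¹) = q then
      d ((u : H) * h * (u : H)⁻¹) else 0) = _
    rw [map_mul, map_mul, map_inv, show QuotientGroup.mk' N (u : H) = 1 from
      (QuotientGroup.eq_one_iff _).mpr u.2, one_mul, inv_one, mul_one, hdI.1]
  · intro h
    split_ifs
    · exact hdI.2 h
    · exact (localRing M).zero_mem

/-- The Brauer restriction is multiplicative modulo the local ideal. -/
theorem conv_brRes_sub (hM : IsPModular p M) {P H : Subgroup G} [Fintype H] (hP : IsPGroup p P)
    (hCH : Subgroup.centralizer (P : Set G) ≤ H) (hHN : H ≤ Subgroup.normalizer (P : Set G))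
    {a b : G → ℂ} (ha : IsIntClassFun M a) (hb : IsIntClassFun M b) (h : H) :
    MemLocalIdeal M (brRes P H (conv a b) h - conv (brRes P H a) (brRes P H b) h) := by
  classical
  have := isPrime hM
  by_cases hc : (h : G) ∈ Subgroup.centralizer (P : Set G)
  · have h1 := memLocalIdeal_convSum_sub hM hP a b (fun u _ y => ha.1 y u) (fun u _ y => hb.1 y u)
      ha.2 hb.2 hc
    rw [brRes_of_mem _ hc, conv_apply, conv_apply]
    convert h1 using 2
    rw [Finset.sum_filter]
    symm
    refine Eq.trans ?_ (Finset.sum_subtype_eq_sum_filter (s := Finset.univ)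
      (p := fun y : G => y ∈ H) (f := fun y : G =>
        if y ∈ Subgroup.centralizer (P : Set G) then a y * b (y⁻¹ * h) else 0)).symm |>.trans ?_
    · rw [Finset.sum_filter]
      refine Finset.sum_congr rfl fun y _ => ?_
      by_cases hy : y ∈ Subgroup.centralizer (P : Set G)
      · rw [if_pos hy, if_pos (hCH hy)]
      · rw [if_neg hy]; split_ifs <;> rfl
    · rw [Finset.subtype_univ]
      refine Finset.sum_congr rfl fun y _ => ?_
      by_cases hy : (y : G) ∈ Subgroup.centralizer (P : Set G)
      · rw [if_pos hy, brRes_of_mem _ hy, brRes_of_mem _ (by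
          simpa using mul_mem (inv_mem hy) hc)]
        simp
      · rw [if_neg hy, brRes_of_notMem _ hy, zero_mul]
  · rw [brRes_of_notMem _ hc, conv_apply]
    rw [Finset.sum_eq_zero, sub_zero]
    · exact memLocalIdeal_zero
    · intro y _
      by_cases hy : (y : G) ∈ Subgroup.centralizer (P : Set G)
      · rw [brRes_of_notMem (P := P) b (h := y⁻¹ * h), mul_zero]
        intro h'
        have h2 : (y : G)⁻¹ * (h : G) ∈ Subgroup.centralizer (P : Set G) := by simpa using h'
        exact hc (by simpa using (mul_mem_cancel_left (inv_mem hy)).mp h2)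
      · rw [brRes_of_notMem _ hy, zero_mul]

/-- Induced blocks are defined for `P ≤ H`, `C(P) ≤ H ≤ N(P)`. -/
theorem inducedBlockDefined (hM : IsPModular p M) {P H : Subgroup G} (hP : IsPGroup p P)
    (hPH : P ≤ H) (hCH : Subgroup.centralizer (P : Set G) ≤ H)
    (hHN : H ≤ Subgroup.normalizer (P : Set G)) {b : Set (IrrCharacter H)} (hb : IsPBlock M b) :
    InducedBlockDefined M H b := by
  classical
  have := isPrime hM
  haveI := Fintype.ofFinite H
  obtain ⟨ξ, hξ⟩ := isPBlock_nonempty hb
  have hbr : ∀ a, IsIntClassFun M a → IsIntClassFun M (brRes P H a) := fun a ha =>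
    isIntClassFun_brRes hHN ha
  obtain ⟨B, hB, hBφ⟩ := exists_block_of_functional hM
    (fun a => omega (ξ : H → ℂ) (brRes P H a))
    (fun a ha => omega_memLocalRing ξ (hbr a ha))
    (fun a b _ _ => by
      have : brRes P H (a + b) = brRes P H a + brRes P H b := by
        funext h
        by_cases hc : (h : G) ∈ Subgroup.centralizer (P : Set G) <;>
          simp [brRes_of_mem, brRes_of_notMem, hc]
      rw [this, omega_add, sub_self]; exact memLocalIdeal_zero)
    (fun c a _ _ => by
      have : brRes P H (c • a) = c • brRes P H a := by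
        funext h
        by_cases hc : (h : G) ∈ Subgroup.centralizer (P : Set G) <;>
          simp [brRes_of_mem, brRes_of_notMem, hc]
      rw [this, omega_smul, sub_self]; exact memLocalIdeal_zero)
    (fun a b ha hb' => by
      rw [← omega_conv ξ (hbr a ha).1 (hbr b hb').1, sub_eq_add_neg, ← omega_neg, ← omega_add]
      refine omega_memLocalIdeal ξ ?_ fun h => ?_
      · exact (isIntClassFun_add (hbr _ (isIntClassFun_conv ha hb'))
          (isIntClassFun_neg (isIntClassFun_conv (hbr a ha) (hbr b hb')))).1
      · rw [Pi.add_apply, Pi.neg_apply, ← sub_eq_add_neg]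
        exact conv_brRes_sub hM hP hCH hHN ha hb' h)
    (by
      have : brRes P H (classInd (1 : G)) = classInd (1 : H) := by
        funext h
        by_cases h1 : h = 1
        · subst h1
          rw [brRes_of_mem _ (by simp [one_mem]),
            classInd_apply_of_isConj (by simp), classInd_apply_of_isConj (IsConj.refl 1)]
        · rw [classInd_apply_of_not_isConj (g := (1 : H)) fun h' => h1 (isConj_one_right.mp h')]
          by_cases hc : (h : G) ∈ Subgroup.centralizer (P : Set G)
          · rw [brRes_of_mem _ hc, classInd_apply_of_not_isConj fun h' => h1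
              (Subtype.ext (isConj_one_right.mp h'))]
          · exact brRes_of_notMem _ hc
      rw [this, omega_classInd_one, sub_self]; exact memLocalIdeal_zero)
  refine ⟨B, hb, hB, fun η hη χ hχ g => ?_⟩
  rw [← omega_res_classInd, ← omega_classInd (irr_class χ)]
  have h1 := omega_sub_memLocalIdeal (sameBlock_of_mem hb hη hξ)
    (isIntClassFun_res H (isIntClassFun_classInd (M := M) g))
  have h2 := omega_res_sub_brRes hM hP hPH hHN ξ (isIntClassFun_classInd (M := M) g)
  have h3 := hBφ χ hχ (classInd g) (isIntClassFun_classInd g)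
  have := memLocalIdeal_add (memLocalIdeal_add h1 h2) h3
  rw [sub_add_sub_cancel, sub_add_sub_cancel] at this
  exact this

/-- Induced blocks through the Brauer restriction. -/
theorem isInducedBlock_iff_brauer (hM : IsPModular p M) {P H : Subgroup G} (hP : IsPGroup p P)
    (hPH : P ≤ H) (hHN : H ≤ Subgroup.normalizer (P : Set G))
    {b : Set (IrrCharacter H)} (hb : IsPBlock M b) {B : Set (IrrCharacter G)}
    (hB : IsPBlock M B) :
    IsInducedBlock M H b B ↔ ∀ ξ ∈ b, ∀ χ ∈ B, ∀ g : G,
      MemLocalIdeal M (brauerCentralChar P H (ξ : H → ℂ) g - centralChar (χ : G → ℂ) g) := by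
  classical
  have := isPrime hM
  haveI := Fintype.ofFinite H
  have key : ∀ (ξ : IrrCharacter H) (g : G),
      MemLocalIdeal M (inducedCentralChar H (ξ : H → ℂ) g - brauerCentralChar P H (ξ : H → ℂ) g) :=
    fun ξ g => by
      rw [← omega_res_classInd, ← omega_brRes_classInd]
      exact omega_res_sub_brRes hM hP hPH hHN ξ (isIntClassFun_classInd g)
  refine ⟨fun h ξ hξ χ hχ g => ?_, fun h => ⟨hb, hB, fun ξ hξ χ hχ g => ?_⟩⟩
  · have := memLocalIdeal_sub (h.2.2 ξ hξ χ hχ g) (key ξ g)
    rwa [sub_sub_sub_cancel_left] at this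
  · have := memLocalIdeal_add (key ξ g) (h ξ hξ χ hχ g)
    rwa [sub_add_sub_cancel] at this

end Cfsg.Agent.BlocksCore
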