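import Cfsg.Agent.Lib.BlocksCore.PermTrace
import Cfsg.Agent.Lib.BlocksCore.PPart
import Cfsg.Agent.Lib.BlocksCore.Brauer

/-!
# Brauer's second main theorem and block orthogonality between sections
-/

set_option linter.unusedSectionVars false

namespace Cfsg.Agent.BlocksCore

open scoped ComplexConjugate
open BlocksDefect

variable {G : Type*} [Group G] [Fintype G] {p : ℕ} [Fact p.Prime] {M : Ideal AlgInt}

/-- Traces of translations twisted by an idempotent function. -/
theorem sum_translate_eq_zero (hM : IsPModular p M) {F : G → ℂ}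
    (hFint : ∀ x, MemLocalRing M (F x)) (hFidem : conv F F = F) {z y w v : G} {k : ℕ}
    (hzy : Commute z y) (hwv : Commute w v) (hz : z ^ p ^ k = 1) (hw : w ^ p ^ k = 1)
    (hy : ¬ p ∣ orderOf y) (hv : ¬ p ∣ orderOf v)
    (hFz : ∀ x, F (z * x * z⁻¹) = F x) (hFy : ∀ x, F (y * x * y⁻¹) = F x)
    (hfix : ∀ a, z * a = a * w → ∀ c ∈ Subgroup.centralizer ({z} : Set G), MemLocalIdeal M (F c)) :
    ∑ a : G, F (a * (w * v) * a⁻¹ * (z * y)⁻¹) = 0 := by
  classical
  have := isPrime hM
  set m := orderOf y * orderOf v with hm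
  have hm0 : m ≠ 0 := Nat.mul_ne_zero (orderOf_pos y).ne' (orderOf_pos v).ne'
  haveI : NeZero m := ⟨hm0⟩
  have hpm : ¬ p ∣ m := fun hd => (hM.1.dvd_mul.mp hd).elim hy hv
  have hym : y ^ m = 1 := orderOf_dvd_iff_pow_eq_one.mp (dvd_mul_right _ _)
  have hvm : v ^ m = 1 := orderOf_dvd_iff_pow_eq_one.mp (dvd_mul_left _ _)
  let ψ : AddChar (ZMod m) ℂ := ZMod.stdAddChar
  let Q : ZMod m → G → G := fun i b => (y ^ i.val)⁻¹ * b * v ^ i.val
  have hQadd : ∀ i j b, Q (i + j) b = Q i (Q j b) := fun i j b => by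
    simp only [Q, ZMod.val_add, ← pow_eq_pow_mod _ hym, ← pow_eq_pow_mod _ hvm, pow_add]
    rw [((Commute.refl v).pow_pow i.val j.val).eq, ((Commute.refl y).pow_pow i.val j.val).eq]
    group
  have hQ1 : ∀ b, Q 1 b = y⁻¹ * b * v := fun b => by
    have h : (1 : ZMod m) = ((1 : ℕ) : ZMod m) := Nat.cast_one.symm
    simp only [Q]
    rw [h, ZMod.val_natCast, ← pow_eq_pow_mod _ hym, ← pow_eq_pow_mod _ hvm, pow_one, pow_one]
  have hFpow : ∀ (q : ℕ) x, F ((y ^ q)⁻¹ * x * y ^ q) = F x := by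
    intro q
    induction q with
    | zero => intro x; simp
    | succ q ih =>
      intro x
      rw [← ih x, ← hFy ((y ^ (q + 1))⁻¹ * x * y ^ (q + 1))]
      congr 1
      rw [pow_succ]
      group
  let K : G → G → ℂ := fun a b => F (b * a⁻¹)
  have hKQ : ∀ i a b, K (Q i a) (Q i b) = K a b := fun i a b => by
    simp only [K, Q]
    rw [← hFpow i.val (b * a⁻¹)]
    congr 1
    group
  have hKK : ∀ a c, ∑ b, K a b * K b c = K a c := by
    intro a c
    simp only [K]
    calc ∑ b, F (b * a⁻¹) * F (c * b⁻¹) = ∑ y' : G, F y' * F (y'⁻¹ * (c * a⁻¹)) := by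
          refine Fintype.sum_equiv ((Equiv.inv G).trans (Equiv.mulLeft c)) _ _ fun b => ?_
          simp only [Equiv.trans_apply, Equiv.inv_apply, Equiv.coe_mulLeft]
          rw [mul_comm]
          congr 2
          group
      _ = F (c * a⁻¹) := by rw [← conv_apply, hFidem]
  let E : ZMod m → G → G → ℂ := fun l a b => (m : ℂ)⁻¹ * ∑ i, ψ (i * l) * K a (Q i b)
  have hψi : ∀ a, MemLocalRing M (ψ a) := fun a => memLocalRing_of_isIntegral <|
    IsIntegral.of_pow (n := m) (Nat.pos_of_ne_zero hm0) (by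
      rw [← AddChar.map_nsmul_eq_pow, ZModModule.char_nsmul_eq_zero, AddChar.map_zero_eq_one]
      exact isIntegral_one)
  have hEi : ∀ l a b, MemLocalRing M (E l a b) := fun l a b =>
    (localRing M).mul_mem (memLocalRing_natCast_inv hM hpm)
      (memLocalRing_sum fun i _ => (localRing M).mul_mem (hψi _) (hFint _))
  have hEidem : ∀ l a c, ∑ b, E l a b * E l b c = E l a c := by
    intro l a c
    have h2 : ∀ i j : ZMod m, ∑ b, K a (Q i b) * K b (Q j c) = K a (Q (i + j) c) := by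
      intro i j
      rw [hQadd, ← hKK a]
      let e : G ≃ G := (Equiv.mulLeft (y ^ i.val)⁻¹).trans (Equiv.mulRight (v ^ i.val))
      refine Fintype.sum_equiv e _ _ fun b => ?_
      rw [← hKQ i b (Q j c)]
      rfl
    simp only [E, Finset.mul_sum, Finset.sum_mul]
    rw [Finset.sum_comm]
    calc ∑ j, ∑ b, ∑ i, (m : ℂ)⁻¹ * (ψ (i * l) * K a (Q i b)) *
          ((m : ℂ)⁻¹ * (ψ (j * l) * K b (Q j c)))
        = ∑ j : ZMod m, ∑ i : ZMod m,
            (m : ℂ)⁻¹ * (m : ℂ)⁻¹ * (ψ ((i + j) * l) * K a (Q (i + j) c)) := by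
          refine Finset.sum_congr rfl fun j _ => ?_
          rw [Finset.sum_comm]
          refine Finset.sum_congr rfl fun i _ => ?_
          rw [← h2, add_mul, AddChar.map_add_eq_mul, Finset.mul_sum, Finset.mul_sum]
          refine Finset.sum_congr rfl fun b _ => ?_
          ring
      _ = ∑ _j : ZMod m, ∑ d : ZMod m, (m : ℂ)⁻¹ * (m : ℂ)⁻¹ * (ψ (d * l) * K a (Q d c)) :=
          Finset.sum_congr rfl fun j _ =>
            Fintype.sum_equiv (Equiv.addRight j) _ _ fun i => rfl
      _ = _ := by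
          rw [Finset.sum_const, Finset.card_univ, ZMod.card, nsmul_eq_mul, Finset.mul_sum]
          refine Finset.sum_congr rfl fun d _ => ?_
          field_simp [hm0]
  let u : Equiv.Perm G := (Equiv.mulLeft z⁻¹).trans (Equiv.mulRight w)
  have hu : u ^ p ^ k = 1 := by
    have : ∀ (q : ℕ) a, (u ^ q) a = (z ^ q)⁻¹ * a * w ^ q := by
      intro q
      induction q with
      | zero => intro a; simp
      | succ q ih =>
        intro a
        rw [pow_succ' u, Equiv.Perm.mul_apply, ih]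
        simp only [u, Equiv.trans_apply, Equiv.coe_mulLeft, Equiv.coe_mulRight]
        rw [pow_succ w, pow_succ z]
        group
    refine Equiv.ext fun a => ?_
    rw [this, hz, hw]
    simp
  have hQu : ∀ i b, Q i (z⁻¹ * b * w) = z⁻¹ * Q i b * w := fun i b => by
    simp only [Q]
    calc (y ^ i.val)⁻¹ * (z⁻¹ * b * w) * v ^ i.val
        = ((y ^ i.val)⁻¹ * z⁻¹) * b * (w * v ^ i.val) := by group
      _ = (z⁻¹ * (y ^ i.val)⁻¹) * b * (v ^ i.val * w) := by
        rw [(hwv.pow_right i.val).eq, ← mul_inv_rev, (hzy.pow_right i.val).eq, mul_inv_rev]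
      _ = z⁻¹ * ((y ^ i.val)⁻¹ * b * v ^ i.val) * w := by group
  have hFz' : ∀ x, F (z⁻¹ * x * z) = F x := fun x => by
    rw [← hFz (z⁻¹ * x * z)]
    congr 1
    group
  have hEinv : ∀ l a b, E l (u a) (u b) = E l a b := by
    intro l a b
    simp only [E, u, Equiv.trans_apply, Equiv.coe_mulLeft, Equiv.coe_mulRight]
    congr 1
    refine Finset.sum_congr rfl fun i _ => ?_
    congr 1
    rw [hQu]
    simp only [K]
    rw [← hFz' (Q i b * a⁻¹)]
    congr 1
    group
  have hzero : ∀ l, ∑ a, E l a (u a) = 0 := by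
    intro l
    refine sum_perm_idempotent_eq_zero hM u hu (E l) (hEi l) (hEidem l) (hEinv l)
      fun a b ha hb => memLocalIdeal_mul_left (memLocalRing_natCast_inv hM hpm)
        (memLocalIdeal_sum fun i _ => memLocalIdeal_mul_left (hψi _) ?_)
    simp only [u, Equiv.trans_apply, Equiv.coe_mulLeft, Equiv.coe_mulRight] at ha hb
    have h1 : ∀ c, z⁻¹ * c * w = c → z * c = c * w := fun c hc => by
      conv_lhs => rw [← hc]
      group
    refine hfix a (h1 a ha) _ (Subgroup.mem_centralizer_singleton_iff.mpr ?_)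
    have hQb : z⁻¹ * Q i b * w = Q i b := by rw [← hQu, hb]
    have e1 := h1 _ hQb
    have e2 : w * a⁻¹ = a⁻¹ * z := by
      rw [eq_inv_mul_iff_mul_eq, ← mul_assoc, ← h1 a ha, mul_assoc, mul_inv_cancel, mul_one]
    calc Q i b * a⁻¹ * z = Q i b * (w * a⁻¹) := by rw [e2, mul_assoc]
      _ = z * (Q i b * a⁻¹) := by rw [← mul_assoc, ← e1, mul_assoc]
  have hsum : ∑ a, K a (Q 1 (u a)) = 0 := by
    have hcol : ∀ a i, ∑ l : ZMod m, ψ (-l) * ((m : ℂ)⁻¹ * (ψ (i * l) * K a (Q i (u a)))) =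
        (if i - 1 = 0 then (m : ℂ) else 0) * ((m : ℂ)⁻¹ * K a (Q i (u a))) := by
      intro a i
      have h := AddChar.sum_mulShift (i - 1) (ZMod.isPrimitive_stdAddChar m)
      rw [ZMod.card] at h
      push_cast at h
      rw [← h, Finset.sum_mul]
      refine Finset.sum_congr rfl fun l _ => ?_
      rw [show l * (i - 1) = -l + i * l by ring, AddChar.map_add_eq_mul]
      ring
    have h : ∑ l : ZMod m, ψ (-l) * ∑ a, E l a (u a) = ∑ a, K a (Q 1 (u a)) := by
      simp only [E, Finset.mul_sum]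
      rw [Finset.sum_comm]
      refine Finset.sum_congr rfl fun a _ => ?_
      rw [Finset.sum_comm, Finset.sum_congr rfl fun i _ => hcol a i, Finset.sum_eq_single 1]
      · rw [sub_self, if_pos rfl, ← mul_assoc, mul_inv_cancel₀ (Nat.cast_ne_zero.mpr hm0), one_mul]
      · intro i _ hi
        rw [if_neg (sub_ne_zero.mpr hi), zero_mul]
      · exact fun h => absurd (Finset.mem_univ _) h
    rw [← h]
    exact Finset.sum_eq_zero fun l _ => by rw [hzero, mul_zero]
  rw [← hsum]
  refine Finset.sum_congr rfl fun a _ => ?_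
  simp only [K, hQ1, u, Equiv.trans_apply, Equiv.coe_mulLeft, Equiv.coe_mulRight]
  rw [← hFz (y⁻¹ * (z⁻¹ * a * w) * v * a⁻¹), ← hFy (z * (y⁻¹ * (z⁻¹ * a * w) * v * a⁻¹) * z⁻¹)]
  congr 1
  calc a * (w * v) * a⁻¹ * (z * y)⁻¹
      = (z * y) * ((z * y)⁻¹ * a * (w * v) * a⁻¹) * (z * y)⁻¹ := by group
    _ = (y * z) * (y⁻¹ * (z⁻¹ * a * w) * v * a⁻¹) * (y * z)⁻¹ := by
        rw [hzy.eq, show (y * z)⁻¹ * a = z⁻¹ * y⁻¹ * a by group,
          show z⁻¹ * y⁻¹ = y⁻¹ * z⁻¹ by rw [← mul_inv_rev, ← hzy.eq, mul_inv_rev]]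
        group
    _ = y * (z * (y⁻¹ * (z⁻¹ * a * w) * v * a⁻¹) * z⁻¹) * y⁻¹ := by group

theorem blockCoeff_mul_comm (A : Set (IrrCharacter G)) (a b : G) :
    blockCoeff A (a * b) = blockCoeff A (b * a) := by
  have := isClassFunction_blockCoeff A (b * a) a
  rwa [show a * (b * a) * a⁻¹ = a * b by group] at this

theorem conv_assoc (a b c : G → ℂ) : conv (conv a b) c = conv a (conv b c) := by
  funext x
  simp only [conv_apply, Finset.sum_mul, Finset.mul_sum]
  rw [Finset.sum_comm]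
  refine Finset.sum_congr rfl fun i _ => ?_
  refine Fintype.sum_equiv (Equiv.mulLeft i⁻¹) _ _ fun j => ?_
  simp only [Equiv.coe_mulLeft]
  rw [mul_assoc]
  congr 3
  group

theorem conv_comm_of_isClassFunction (a : G → ℂ) {b : G → ℂ} (hb : IsClassFunction G b) :
    conv b a = conv a b := by
  funext x
  simp only [conv_apply]
  refine Fintype.sum_equiv ((Equiv.inv G).trans (Equiv.mulRight x)) _ _ fun y => ?_
  simp only [Equiv.trans_apply, Equiv.inv_apply, Equiv.coe_mulRight, mul_inv_rev, inv_inv]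
  rw [mul_comm]
  congr 1
  have := hb y x⁻¹
  rw [inv_inv] at this
  exact this.symm

theorem conv_conv_idem {f e : G → ℂ} (he : IsClassFunction G e) (hf2 : conv f f = f)
    (he2 : conv e e = e) : conv (conv f e) (conv f e) = conv f e := by
  rw [conv_assoc f e, ← conv_assoc e f e, conv_comm_of_isClassFunction f he, conv_assoc f e e,
    he2, ← conv_assoc, hf2]

theorem conv_conj_invariant {f e : G → ℂ} (he : IsClassFunction G e) {t : G}
    (hf : ∀ x, f (t * x * t⁻¹) = f x) (x : G) : conv f e (t * x * t⁻¹) = conv f e x := by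
  simp only [conv_apply]
  refine (Fintype.sum_equiv ((Equiv.mulLeft t).trans (Equiv.mulRight t⁻¹)) _ _ fun k => ?_).symm
  simp only [Equiv.trans_apply, Equiv.coe_mulLeft, Equiv.coe_mulRight]
  rw [hf, show (t * k * t⁻¹)⁻¹ * (t * x * t⁻¹) = t * (k⁻¹ * x) * t⁻¹ by group, he]

/-- Traces of block projections: the general vanishing statement. -/
theorem sum_block_mul_eq_zero (hM : IsPModular p M) {B : Set (IrrCharacter G)} (hB : IsPBlock M B)
    {f : G → ℂ} (hf : ∀ x, MemLocalRing M (f x)) (hf2 : conv f f = f) {h g z w : G}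
    (hz : IsPPart p h z) (hfh : ∀ x, f (h * x * h⁻¹) = f x) (hfz : ∀ x, f (z * x * z⁻¹) = f x)
    (hw : IsPPart p g w)
    (hfix : ∀ a, z * a = a * w → ∀ c ∈ Subgroup.centralizer ({z} : Set G),
      MemLocalIdeal M (conv f (blockCoeff B) c)) :
    ∑ᶠ χ ∈ B, (∑ k : G, f k * (χ : G → ℂ) (k * h)) * (χ : G → ℂ) g⁻¹ = 0 := by
  classical
  have := isPrime hM
  haveI := finite_irr (G := G)
  haveI := Fintype.ofFinite (IrrCharacter G)
  obtain ⟨y, hzy, hzyc, ⟨k₁, hk₁⟩, hy⟩ := hz
  obtain ⟨v, hwv, hwvc, ⟨k₂, hk₂⟩, hv⟩ := hw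
  have he := isIntClassFun_blockCoeff hM hB
  set e := blockCoeff B with hedef
  set F := conv f e with hFdef
  have hFz : ∀ x, F (z * x * z⁻¹) = F x := conv_conj_invariant he.1 hfz
  have hfy : ∀ x, f (y * x * y⁻¹) = f x := fun x => by
    rw [← hfz (y * x * y⁻¹), ← hfh x, ← hzy]
    congr 1
    group
  have key := sum_translate_eq_zero hM (F := F) (z := z) (y := y) (w := w) (v := v)
    (k := k₁ + k₂) (fun x => by
      rw [hFdef, conv_apply]
      exact memLocalRing_sum fun a _ => (localRing M).mul_mem (hf a) (he.2 _))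
    (conv_conv_idem he.1 hf2 (conv_blockCoeff_self B)) hzyc hwvc
    (orderOf_dvd_iff_pow_eq_one.mp (hk₁ ▸ pow_dvd_pow p (Nat.le_add_right _ _)))
    (orderOf_dvd_iff_pow_eq_one.mp (hk₂ ▸ pow_dvd_pow p (Nat.le_add_left _ _)))
    hy hv hFz (conv_conj_invariant he.1 hfy) hfix
  rw [hzy, hwv] at key
  rw [← key, finsum_mem_def, finsum_eq_sum_of_fintype]
  have hexp : ∀ k' : G, ∑ a : G, e (k'⁻¹ * (a * g * a⁻¹ * h⁻¹)) =
      ∑ χ : IrrCharacter G, B.indicator 1 χ * ((χ : G → ℂ) (k' * h) * (χ : G → ℂ) g⁻¹) := by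
    intro k'
    simp only [hedef, blockCoeff_eq_sum, Finset.mul_sum]
    rw [Finset.sum_comm]
    refine Finset.sum_congr rfl fun χ _ => ?_
    simp only [← Finset.mul_sum]
    have h4 : ∀ a : G, (χ : G → ℂ) ((k'⁻¹ * (a * g * a⁻¹ * h⁻¹))⁻¹) =
        (χ : G → ℂ) (a⁻¹ * (k' * h) * a * g⁻¹) := by
      intro a
      rw [show (k'⁻¹ * (a * g * a⁻¹ * h⁻¹))⁻¹ =
        (h * a) * (g⁻¹ * (a⁻¹ * (k' * h) * a)) * (h * a)⁻¹ by group, irr_class χ]
      have h7 := irr_class χ (g⁻¹ * (a⁻¹ * (k' * h) * a)) g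
      rw [← h7]
      congr 1
      group
    simp only [h4, sum_char_conj_mul]
    field_simp [irr_one_ne_zero χ, Nat.cast_ne_zero.mpr (Nat.card_pos (α := G)).ne']
  symm
  calc ∑ a : G, F (a * g * a⁻¹ * h⁻¹)
      = ∑ k' : G, f k' * ∑ a : G, e (k'⁻¹ * (a * g * a⁻¹ * h⁻¹)) := by
        simp only [hFdef, conv_apply, Finset.mul_sum]
        exact Finset.sum_comm
    _ = _ := by
        simp only [hexp, Finset.mul_sum]
        rw [Finset.sum_comm]
        refine Finset.sum_congr rfl fun χ _ => ?_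
        by_cases hχ : χ ∈ B
        · rw [Set.indicator_of_mem hχ, Set.indicator_of_mem hχ, Finset.sum_mul]
          refine Finset.sum_congr rfl fun k' _ => ?_
          simp only [Pi.one_apply]
          ring
        · rw [Set.indicator_of_notMem hχ]
          simp [Set.indicator_of_notMem hχ]

/-- If a Brauer image is trivial, the corresponding values of the characters of `B` vanish. -/
theorem sum_mul_char_eq_zero (hM : IsPModular p M) {B : Set (IrrCharacter G)} (hB : IsPBlock M B)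
    {f : G → ℂ} (hf : ∀ x, MemLocalRing M (f x)) (hf2 : conv f f = f) {h z : G}
    (hz : IsPPart p h z) (hfh : ∀ x, f (h * x * h⁻¹) = f x) (hfz : ∀ x, f (z * x * z⁻¹) = f x)
    (hbr : ∀ c ∈ Subgroup.centralizer ({z} : Set G), MemLocalIdeal M (conv f (blockCoeff B) c))
    {χ : IrrCharacter G} (hχ : χ ∈ B) : ∑ k : G, f k * (χ : G → ℂ) (k * h) = 0 := by
  classical
  haveI := finite_irr (G := G)
  haveI := Fintype.ofFinite (IrrCharacter G)
  have h0 : ∀ g : G,
      ∑ᶠ φ ∈ B, (∑ k : G, f k * (φ : G → ℂ) (k * h)) * (φ : G → ℂ) g⁻¹ = 0 := fun g => by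
    obtain ⟨w, hw⟩ := exists_pPart hM.1 g
    exact sum_block_mul_eq_zero hM hB hf hf2 hz hfh hfz hw fun _ _ => hbr
  have h1 : ∑ g : G, (χ : G → ℂ) g *
      (∑ᶠ φ ∈ B, (∑ k : G, f k * (φ : G → ℂ) (k * h)) * (φ : G → ℂ) g⁻¹) = 0 := by simp [h0]
  simp only [finsum_mem_eq_finite_toFinset_sum _ (Set.toFinite B), Finset.mul_sum] at h1
  rw [Finset.sum_comm, Finset.sum_eq_single χ] at h1
  · simp only [mul_left_comm ((χ : G → ℂ) _), ← Finset.mul_sum] at h1
    rw [sum_char_mul_inv, if_pos rfl] at h1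
    exact (mul_eq_zero.mp h1).resolve_right (Nat.cast_ne_zero.mpr Nat.card_pos.ne')
  · intro φ _ hφ
    simp only [mul_left_comm ((χ : G → ℂ) _), ← Finset.mul_sum]
    rw [sum_char_mul_inv, if_neg (Ne.symm hφ), mul_zero]
  · exact fun hn => absurd ((Set.Finite.mem_toFinset _).mpr hχ) hn

theorem conv_delta_delta [M.IsPrime] :
    conv (classInd (1 : G)) (classInd 1) = classInd 1 :=
  eq_of_omega_eq (isClassFunction_conv (isClassFunction_classInd 1) (isClassFunction_classInd 1))
    (isClassFunction_classInd 1) fun χ => by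
      rw [omega_conv χ (isClassFunction_classInd 1) (isClassFunction_classInd 1),
        omega_classInd_one, mul_one]

theorem conv_delta (e : G → ℂ) : conv (classInd (1 : G)) e = e := by
  funext x
  rw [conv_apply, Finset.sum_eq_single 1]
  · rw [classInd_apply_of_isConj (IsConj.refl 1), inv_one, one_mul, one_mul]
  · intro y _ hy
    rw [classInd_apply_of_not_isConj fun h => hy (isConj_one_right.mp h), zero_mul]
  · exact fun h => absurd (Finset.mem_univ _) h

theorem sum_delta_mul (φ : G → ℂ) (h : G) :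
    ∑ k : G, classInd (1 : G) k * φ (k * h) = φ h := by
  rw [Finset.sum_eq_single 1]
  · rw [classInd_apply_of_isConj (IsConj.refl 1), one_mul, one_mul]
  · intro y _ hy
    rw [classInd_apply_of_not_isConj fun h => hy (isConj_one_right.mp h), zero_mul]
  · exact fun h => absurd (Finset.mem_univ _) h

/-- Orthogonality between different `p`-sections within a block. -/
theorem blockOrth_sections (hM : IsPModular p M) {B : Set (IrrCharacter G)} (hB : IsPBlock M B)
    {g h x y : G} (hx : IsPPart p g x) (hy : IsPPart p h y) (hxy : ¬ IsConj x y) :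
    ∑ᶠ χ ∈ B, (χ : G → ℂ) g * (χ : G → ℂ) h⁻¹ = 0 := by
  have := isPrime hM
  have h1 := sum_block_mul_eq_zero hM hB (f := classInd (1 : G))
    (fun x => (isIntClassFun_classInd 1).2 x) (conv_delta_delta (M := M)) hx
    (fun t => isClassFunction_classInd 1 t g) (fun t => isClassFunction_classInd 1 t x) hy
    (fun a ha => absurd (isConj_iff.mpr ⟨a⁻¹, by rw [inv_inv, mul_assoc, ha, inv_mul_cancel_left]⟩)
      hxy)
  simpa [sum_delta_mul] using h1

/-- Members of a block vanish outside the sections meeting the Brauer support of the block. -/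
theorem char_eq_zero_of_brauer (hM : IsPModular p M) {B : Set (IrrCharacter G)} (hB : IsPBlock M B)
    {χ : IrrCharacter G} (hχ : χ ∈ B) {g x : G} (hx : IsPPart p g x)
    (hbr : ∀ c ∈ Subgroup.centralizer ({x} : Set G), MemLocalIdeal M (blockCoeff B c)) :
    (χ : G → ℂ) g = 0 := by
  have := isPrime hM
  have h1 := sum_mul_char_eq_zero hM hB (f := classInd (1 : G))
    (fun x => (isIntClassFun_classInd 1).2 x) (conv_delta_delta (M := M)) hx
    (fun t => isClassFunction_classInd 1 t g) (fun t => isClassFunction_classInd 1 t x)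
    (fun c hc => by rw [conv_delta]; exact hbr c hc) hχ
  rwa [sum_delta_mul] at h1

end Cfsg.Agent.BlocksCore
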