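import Cfsg.Agent.Lib.BlocksCore.FirstMain
import Cfsg.Agent.Lib.BlocksCore.PPart
import Cfsg.Agent.S0924

/-!
# Classes with unit central character and the defect group
-/

set_option linter.unusedSectionVars false

namespace Cfsg.Agent.BlocksCore

open BlocksDefect

variable {G : Type*} [Group G] [Fintype G] {p : ℕ} [Fact p.Prime] {M : Ideal AlgInt}

theorem exists_conj_mem_centralizer_defectGroup (hM : IsPModular p M) {B : Set (IrrCharacter G)}
    (hB : IsPBlock M B) {P : Subgroup G} (hP : IsDefectGroup p M B P) {χ : IrrCharacter G}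
    (hχ : χ ∈ B) {g : G} (hu : ¬ MemLocalIdeal M (centralChar (χ : G → ℂ) g)) :
    ∃ x : G, IsConj g x ∧ x ∈ Subgroup.centralizer (P : Set G) ∧
      ∀ z : G, IsPPart p x z → z ∈ P ∧ ∀ w ∈ P, z * w = w * z := by
  classical
  have := isPrime hM
  have hPp := isPGroup_of_isDefectGroup hP
  obtain ⟨b, hb, hbP, hind⟩ := exists_inducing_normalizer hM hPp hB hP
  set N := Subgroup.normalizer (P : Set G) with hN
  haveI : (P.subgroupOf N).Normal := Subgroup.normal_in_normalizer
  obtain ⟨ξ, hξ⟩ := isPBlock_nonempty hb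
  have hcong : MemLocalIdeal M
      (omega (ξ : N → ℂ) (brRes P N (classInd g)) - centralChar (χ : G → ℂ) g) := by
    rw [omega_brRes_classInd]
    exact (isInducedBlock_iff_brauer hM hPp Subgroup.le_normalizer le_rfl hb hB).mp
      hind ξ hξ χ hχ g
  have hu' : ¬ MemLocalIdeal M (omega (ξ : N → ℂ) (brRes P N (classInd g))) := fun h =>
    hu (by simpa using memLocalIdeal_sub h hcong)
  obtain ⟨z, hz1, hz2⟩ := exists_unit_class hM ξ
    (isIntClassFun_brRes le_rfl (isIntClassFun_classInd g)) hu'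
  have hzC : (z : G) ∈ Subgroup.centralizer (P : Set G) := by
    by_contra hn; exact hz1 (by rw [brRes_of_notMem _ hn]; exact memLocalIdeal_zero)
  have hzg : IsConj g (z : G) := by
    by_contra hn
    exact hz1 (by rw [brRes_of_mem _ hzC, classInd_apply_of_not_isConj hn]; exact memLocalIdeal_zero)
  refine ⟨z, hzg, hzC, fun w hw => ?_⟩
  obtain ⟨w', y, hwy, hc, hk, hm, hw'z, hyz⟩ := exists_isPPart hM.1 (z : G)
  obtain rfl : w' = w := isPPart_unique hM.1 ⟨y, hwy, hc, hk, hm⟩ hw
  have hwC : w' ∈ Subgroup.centralizer (P : Set G) :=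
    (Subgroup.zpowers_le.mpr hzC) hw'z
  refine ⟨?_, fun v hv => (Subgroup.mem_centralizer_iff.mp hwC v hv).symm⟩
  by_contra hnot
  have hwN : w' ∈ N := centralizer_le_normalizer' P hwC
  have hyN : y ∈ N := centralizer_le_normalizer' P ((Subgroup.zpowers_le.mpr hzC) hyz)
  have hpart : IsPPart p z ⟨w', hwN⟩ := by
    refine ⟨⟨y, hyN⟩, Subtype.ext hwy, Subtype.ext hc, ?_, ?_⟩
    · rw [Subgroup.orderOf_mk]; exact hk
    · rw [Subgroup.orderOf_mk]; exact hm
  have h0 := Cfsg.Agent.S0924.result p M hM ξ z ⟨w', hwN⟩ hpart fun D hD => by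
    rw [← isPBlock_eq_blockOf hb hξ] at hD
    obtain ⟨x, rfl⟩ := isConj_defectGroup hM hb hbP hD
    intro hmem
    rw [map_conj_mem_iff] at hmem
    have h1 := Subgroup.Normal.conj_mem inferInstance _ hmem x
    exact hnot (by simpa [mul_assoc, Subgroup.mem_subgroupOf] using h1)
  refine hz2 ?_
  rw [centralChar, h0, mul_zero, zero_div]
  exact memLocalIdeal_zero

end Cfsg.Agent.BlocksCore
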