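import Cfsg.Agent.Lib.BlocksCore.Omega
import Cfsg.Agent.Lib.CharCore.Basic

/-!
# Orthogonality in the form used for blocks
-/

namespace Cfsg.Agent.BlocksCore

open scoped ComplexConjugate

variable {G : Type*} [Group G] [Fintype G]

theorem finite_irr : Finite (IrrCharacter G) := CharCore.finite_irrCharacter

open Classical in
theorem sum_char_mul_inv (χ ψ : IrrCharacter G) :
    ∑ g : G, (χ : G → ℂ) g * (ψ : G → ℂ) g⁻¹ = if χ = ψ then (Nat.card G : ℂ) else 0 := by
  have h := CharCore.classInner_irr χ ψ
  rw [CharCore.classInner_eq_inv _ (CharCore.irr_isCharacter ψ)] at h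
  have hne : (Nat.card G : ℂ) ≠ 0 := Nat.cast_ne_zero.mpr Nat.card_pos.ne'
  split_ifs at h ⊢ <;> field_simp at h <;> linear_combination h

/-- A class function orthogonal to all irreducible characters vanishes. -/
theorem classFunction_eq_zero {a : G → ℂ} (ha : IsClassFunction G a)
    (h : ∀ χ : IrrCharacter G, ∑ g : G, a g * (χ : G → ℂ) g = 0) : a = 0 := by
  classical
  let R : Representation ℂ G (G → ℂ) :=
    { toFun := fun g =>
        { toFun := fun f x => f (g⁻¹ * x)
          map_add' := fun _ _ => rfl
          map_smul' := fun _ _ => rfl }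
      map_one' := LinearMap.ext fun f => funext fun x => by simp
      map_mul' := fun g g' => LinearMap.ext fun f => funext fun x => by simp [mul_assoc] }
  have key : ∑ g, a g • R g = 0 := by
    refine CharCore.rep_induction (motive := fun V _ _ ρ => ∑ g, a g • ρ g = 0) ?_ ?_ ?_ _ R
    · intro V _ _ _ ρ hV
      exact LinearMap.ext fun v => Subsingleton.elim _ _
    · intro V _ _ _ ρ hρ
      let e := (Module.finBasis ℂ V).equivFun
      have : (CharCore.transport ρ e).IsIrreducible :=
        CharCore.isIrreducible_of_equiv (CharCore.transportEquiv ρ e) hρ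
      have h1 := sum_smul_eq_omega_smul (CharCore.transport ρ e) ha
      have h2 := h ⟨(CharCore.transport ρ e).character, ⟨_, _, this, rfl⟩⟩
      rw [omega_eq_sum, h2, zero_div, zero_smul] at h1
      apply e.conj.injective
      rw [map_sum, map_zero, ← h1]
      exact Finset.sum_congr rfl fun g _ => by rw [map_smul]; rfl
    · intro V _ _ _ ρ S T hST _ _ hS hT
      refine LinearMap.ext fun v => ?_
      have hv : v ∈ S.toSubmodule ⊔ T.toSubmodule := by rw [hST.sup_eq_top]; trivial
      obtain ⟨s, hs, t, ht, rfl⟩ := Submodule.mem_sup.mp hv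
      have hS' := congrArg Subtype.val (LinearMap.congr_fun hS ⟨s, hs⟩)
      have hT' := congrArg Subtype.val (LinearMap.congr_fun hT ⟨t, ht⟩)
      simp only [LinearMap.sum_apply, LinearMap.smul_apply, LinearMap.zero_apply,
        AddSubmonoidClass.coe_finset_sum, SetLike.val_smul, ZeroMemClass.coe_zero] at hS' hT'
      simp only [LinearMap.sum_apply, LinearMap.smul_apply, LinearMap.zero_apply, map_add,
        smul_add, Finset.sum_add_distrib]
      exact congrArg₂ (· + ·) hS' hT'
  funext x
  have := congrFun (LinearMap.congr_fun key (Pi.single 1 1)) x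
  simpa [R, Finset.sum_apply, Pi.single_apply, inv_mul_eq_one] using this

end Cfsg.Agent.BlocksCore
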