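import Cfsg.Agent.Lib.BlocksCore.SecondMain
import Cfsg.Agent.Lib.CharInd.Basic
import Cfsg.Agent.Lib.CharCore.Complete

/-!
# Brauer's second main theorem
-/

set_option linter.unusedSectionVars false

namespace Cfsg.Agent.BlocksCore

open scoped ComplexConjugate
open BlocksDefect

variable {G : Type*} [Group G] [Fintype G] {p : ℕ} [Fact p.Prime] {M : Ideal AlgInt}

/-- Central elements of the integral group ring with nilpotent central characters have small
powers. -/
theorem exists_small_pow [M.IsPrime] {v : IrrCharacter G → ℂ} (hv : v ∈ omegaRing M)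
    (hm : ∀ χ, MemLocalIdeal M (v χ)) :
    ∃ N : ℕ, ∃ d : G → ℂ, IsClassFunction G d ∧ (∀ g, MemLocalIdeal M (d g)) ∧
      ∀ χ : IrrCharacter G, omega (χ : G → ℂ) d = v χ ^ (N + 1) := by
  classical
  haveI := finite_irr (G := G)
  haveI := Fintype.ofFinite (IrrCharacter G)
  have key : ∀ s : Finset (IrrCharacter G), ∃ d : G → ℂ, IsClassFunction G d ∧
      (∀ g, MemLocalIdeal M (d g)) ∧ ∀ χ : IrrCharacter G,
        omega (χ : G → ℂ) d = v χ ^ s.card - ∏ η ∈ s, (v χ - v η) := by
    intro s
    induction s using Finset.induction with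
    | empty => exact ⟨0, fun _ _ => rfl, fun _ => memLocalIdeal_zero, fun χ => by simp [omega_zero]⟩
    | insert η s hη ih =>
      obtain ⟨d, hd1, hd2, hd3⟩ := ih
      obtain ⟨a, ha, hav⟩ := sub_mem hv (const_mem_omegaRing (memLocalRing_of_memLocalIdeal (hm η)))
      obtain ⟨q, hq, hqv⟩ := pow_mem hv s.card
      refine ⟨conv d a + (v η) • q, ?_, ?_, ?_⟩
      · intro g h
        simp [isClassFunction_conv hd1 ha.1 g h, hq.1 g h]
      · intro g
        refine memLocalIdeal_add ?_ (memLocalIdeal_mul_right (hm η) (hq.2 g))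
        rw [conv_apply]
        exact memLocalIdeal_sum fun y _ => memLocalIdeal_mul_right (hd2 y) (ha.2 _)
      · intro χ
        rw [omega_add, omega_smul, omega_conv χ hd1 ha.1, hd3, hav, hqv, Finset.prod_insert hη,
          Finset.card_insert_of_notMem hη]
        simp only [Pi.sub_apply, Pi.pow_apply]
        ring
  obtain ⟨d, hd1, hd2, hd3⟩ := key Finset.univ
  rcases Nat.eq_zero_or_pos (Finset.univ : Finset (IrrCharacter G)).card with h | h
  · refine ⟨0, d, hd1, hd2, fun χ => ?_⟩
    exact absurd (Finset.mem_univ χ) (by simp [Finset.card_eq_zero.mp h])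
  · refine ⟨(Finset.univ : Finset (IrrCharacter G)).card - 1, d, hd1, hd2, fun χ => ?_⟩
    rw [hd3, Finset.prod_eq_zero (Finset.mem_univ χ) (sub_self _), sub_zero]
    congr 1
    exact (Nat.sub_add_cancel h).symm

theorem centralizer_zpowers (z : G) :
    Subgroup.centralizer ((Subgroup.zpowers z : Subgroup G) : Set G) =
      Subgroup.centralizer ({z} : Set G) := by
  ext c
  rw [Subgroup.mem_centralizer_singleton_iff, Subgroup.mem_centralizer_iff]
  refine ⟨fun h => (h z (Subgroup.mem_zpowers z)).symm, fun h u hu => ?_⟩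
  obtain ⟨i, rfl⟩ := Subgroup.mem_zpowers_iff.mp hu
  exact ((show Commute z c from h.symm).zpow_left i).eq

theorem isPGroup_zpowers {z : G} {k : ℕ} (hz : orderOf z = p ^ k) :
    IsPGroup p (Subgroup.zpowers z) :=
  IsPGroup.of_card (n := k) (by rw [Nat.card_zpowers, hz])

theorem conv_mem_sub_centralizer (hM : IsPModular p M) {z : G} {k : ℕ} (hz : orderOf z = p ^ k)
    (a b : G → ℂ) (ha : ∀ y, a (z * y * z⁻¹) = a y) (hb : ∀ y, b (z * y * z⁻¹) = b y)
    (hra : ∀ y, MemLocalRing M (a y)) (hrb : ∀ y, MemLocalRing M (b y)) {c : G}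
    (hc : c ∈ Subgroup.centralizer ({z} : Set G))
    [DecidablePred (· ∈ Subgroup.centralizer ({z} : Set G))] :
    MemLocalIdeal M (conv a b c -
      ∑ y ∈ Finset.univ.filter (· ∈ Subgroup.centralizer ({z} : Set G)), a y * b (y⁻¹ * c)) := by
  classical
  have hpw : ∀ (f : G → ℂ), (∀ y, f (z * y * z⁻¹) = f y) →
      ∀ u ∈ Subgroup.zpowers z, ∀ y, f (u * y * u⁻¹) = f y := by
    intro f hf u hu
    obtain ⟨q, rfl⟩ := (isOfFinOrder_of_finite z).mem_powers_iff_mem_zpowers.mpr hu
    induction q with
    | zero => intro y; simp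
    | succ q ih =>
      intro y
      have h := hf (z ^ q * y * (z ^ q)⁻¹)
      rw [ih (Subgroup.pow_mem _ (Subgroup.mem_zpowers z) q) y] at h
      rw [← h]
      simp only [pow_succ']
      congr 1
      group
  have h := memLocalIdeal_convSum_sub hM (isPGroup_zpowers hz) a b (hpw a ha) (hpw b hb) hra hrb
    (c := c) (by rw [centralizer_zpowers]; exact hc)
  rw [conv_apply]
  convert h using 2
  refine Finset.sum_congr ?_ fun _ _ => rfl
  ext y
  simp [centralizer_zpowers]

variable {H : Subgroup G} [Fintype H]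

/-- Brauer's second main theorem, idempotent form. -/
theorem sum_blockCoeff_mul_eq_zero (hM : IsPModular p M) {b : Set (IrrCharacter H)}
    (hb : IsPBlock M b) {B : Set (IrrCharacter G)} (hB : IsPBlock M B) (h : H) {z : G}
    (hz : IsPPart p (h : G) z) (hC : Subgroup.centralizer ({z} : Set G) ≤ H)
    (hker : ∀ η ∈ b, MemLocalIdeal M (omega (η : H → ℂ) (res H (blockCoeff B))))
    {χ : IrrCharacter G} (hχ : χ ∈ B) :
    ∑ k : H, blockCoeff b k * (χ : G → ℂ) ((k : G) * h) = 0 := by
  classical
  have := isPrime hM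
  have heb := isIntClassFun_blockCoeff hM hb
  have heB := isIntClassFun_blockCoeff hM hB
  set f := extendByZero H (blockCoeff b) with hfdef
  have hzH : z ∈ H := hC (Subgroup.mem_centralizer_singleton_iff.mpr rfl)
  have hfint : ∀ x, MemLocalRing M (f x) := fun x => by
    by_cases hx : x ∈ H
    · rw [hfdef, CharInd.extendByZero_mem _ hx]; exact heb.2 _
    · rw [hfdef, CharInd.extendByZero_notMem _ hx]; exact (localRing M).zero_mem
  have hf2 : conv f f = f := by
    funext x
    rw [conv_apply, hfdef, CharInd.sum_extendByZero_mul H (blockCoeff b)]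
    by_cases hx : x ∈ H
    · rw [CharInd.extendByZero_mem _ hx]
      have h2 := congrFun (conv_blockCoeff_self b) ⟨x, hx⟩
      rw [conv_apply] at h2
      rw [← h2]
      refine Finset.sum_congr rfl fun k _ => ?_
      rw [CharInd.extendByZero_mem _ (H.mul_mem (H.inv_mem k.2) hx)]
      rfl
    · rw [CharInd.extendByZero_notMem _ hx]
      refine Finset.sum_eq_zero fun k _ => ?_
      rw [CharInd.extendByZero_notMem, mul_zero]
      exact fun h' => hx (by simpa using H.mul_mem k.2 h')
  have hfh : ∀ t ∈ H, ∀ x, f (t * x * t⁻¹) = f x := fun t ht x =>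
    CharInd.extendByZero_conj_mem heb.1 ⟨t, ht⟩ x
  have hgoal : ∑ k : G, f k * (χ : G → ℂ) (k * (h : G)) =
      ∑ k : H, blockCoeff b k * (χ : G → ℂ) ((k : G) * h) :=
    CharInd.sum_extendByZero_mul H (blockCoeff b) fun k => (χ : G → ℂ) (k * (h : G))
  rw [← hgoal]
  refine sum_mul_char_eq_zero hM hB hfint hf2 hz (hfh _ h.2) (hfh z hzH) (fun c hc => ?_) hχ
  obtain ⟨y, -, -, ⟨kz, hkz⟩, -⟩ := hz
  set F := conv f (blockCoeff B) with hFdef
  let zH : H := ⟨z, hzH⟩
  have hzH' : orderOf zH = p ^ kz := by rw [← hkz, Subgroup.orderOf_mk]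
  let a : H → ℂ := conv (blockCoeff b) (res H (blockCoeff B))
  have haI : IsIntClassFun M a := isIntClassFun_conv heb (isIntClassFun_res H heB)
  have haF : ∀ k : H, a k = F k := fun k => by
    rw [hFdef, conv_apply f, hfdef, CharInd.sum_extendByZero_mul H (blockCoeff b)]
    simp only [a, conv_apply, res]
    rfl
  have homega : ∀ η : IrrCharacter H, MemLocalIdeal M (omega (η : H → ℂ) a) := fun η => by
    rw [omega_conv η heb.1 (isClassFunction_res H heB.1), omega_blockCoeff]
    by_cases hη : η ∈ b
    · rw [Set.indicator_of_mem hη, Pi.one_apply, one_mul]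
      exact hker η hη
    · rw [Set.indicator_of_notMem hη, zero_mul]
      exact memLocalIdeal_zero
  obtain ⟨N, d, hd1, hd2, hd3⟩ := exists_small_pow (omega_mem_omegaRing haI) homega
  let P : ℕ → H → ℂ := fun q => Nat.rec a (fun _ w => conv w a) q
  have hP0 : P 0 = a := rfl
  have hPsucc : ∀ q, P (q + 1) = conv (P q) a := fun q => rfl
  have hPI : ∀ q, IsIntClassFun M (P q) := fun q => by
    induction q with
    | zero => exact haI
    | succ q ih => rw [hPsucc]; exact isIntClassFun_conv ih haI
  have hPω : ∀ q (η : IrrCharacter H), omega (η : H → ℂ) (P q) = omega (η : H → ℂ) a ^ (q + 1) := by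
    intro q η
    induction q with
    | zero => rw [hP0, zero_add, pow_one]
    | succ q ih => rw [hPsucc, omega_conv η (hPI q).1 haI.1, ih, pow_succ _ (q + 1)]
  have hPd : P N = d := eq_of_omega_eq (hPI N).1 hd1 fun η => by rw [hPω, hd3]
  have hFI : ∀ x, MemLocalRing M (F x) := fun x => by
    rw [hFdef, conv_apply]
    exact memLocalRing_sum fun y _ => (localRing M).mul_mem (hfint y) (heB.2 _)
  have hFz : ∀ x, F (z * x * z⁻¹) = F x := conv_conj_invariant heB.1 (hfh z hzH)
  have hsumH : ∀ c' : H, (c' : G) ∈ Subgroup.centralizer ({z} : Set G) →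
      ∑ y ∈ Finset.univ.filter (fun y : H => y ∈ Subgroup.centralizer ({zH} : Set H)),
        a y * a (y⁻¹ * c') =
      ∑ y ∈ Finset.univ.filter (fun y : G => y ∈ Subgroup.centralizer ({z} : Set G)),
        F y * F (y⁻¹ * c') := by
    intro c' _
    refine Finset.sum_bij (fun y _ => (y : G)) ?_ ?_ ?_ ?_
    · intro y hy
      simp only [Finset.mem_filter, Finset.mem_univ, true_and,
        Subgroup.mem_centralizer_singleton_iff] at hy ⊢
      exact congrArg (Subtype.val : H → G) hy
    · exact fun y₁ _ y₂ _ h => Subtype.ext h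
    · intro y hy
      simp only [Finset.mem_filter, Finset.mem_univ, true_and] at hy
      refine ⟨⟨y, hC hy⟩, ?_, rfl⟩
      simp only [Finset.mem_filter, Finset.mem_univ, true_and,
        Subgroup.mem_centralizer_singleton_iff] at hy ⊢
      exact Subtype.ext hy
    · intro y _
      rw [haF, haF]
      rfl
  have hzc : ∀ c' : H, (c' : G) ∈ Subgroup.centralizer ({z} : Set G) →
      c' ∈ Subgroup.centralizer ({zH} : Set H) := fun c' hc' => by
    rw [Subgroup.mem_centralizer_singleton_iff] at hc' ⊢
    exact Subtype.ext hc'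
  have hinvH : ∀ (w : H → ℂ), IsIntClassFun M w → ∀ y, w (zH * y * zH⁻¹) = w y :=
    fun w hw y => hw.1 y zH
  have hstep : ∀ q, ∀ c' : H, (c' : G) ∈ Subgroup.centralizer ({z} : Set G) →
      MemLocalIdeal M (P q c' - a c') := by
    intro q
    induction q with
    | zero => intro c' _; rw [hP0, sub_self]; exact memLocalIdeal_zero
    | succ q ih =>
      intro c' hc'
      have h1 := conv_mem_sub_centralizer hM hzH' (P q) a (hinvH _ (hPI q)) (hinvH _ haI)
        (hPI q).2 haI.2 (hzc c' hc')
      have h2 : MemLocalIdeal M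
          (∑ y ∈ Finset.univ.filter (fun y : H => y ∈ Subgroup.centralizer ({zH} : Set H)),
              P q y * a (y⁻¹ * c') -
            ∑ y ∈ Finset.univ.filter (fun y : H => y ∈ Subgroup.centralizer ({zH} : Set H)),
              a y * a (y⁻¹ * c')) := by
        rw [← Finset.sum_sub_distrib]
        refine memLocalIdeal_sum fun y hy => ?_
        rw [← sub_mul]
        refine memLocalIdeal_mul_right (ih y ?_) (haI.2 _)
        simp only [Finset.mem_filter, Finset.mem_univ, true_and,
          Subgroup.mem_centralizer_singleton_iff] at hy ⊢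
        exact congrArg (Subtype.val : H → G) hy
      have h3 := conv_mem_sub_centralizer hM hkz F F hFz hFz hFI hFI hc'
      rw [conv_conv_idem heB.1 hf2 (conv_blockCoeff_self B), ← hFdef, ← hsumH c' hc', ← haF] at h3
      have h4 := memLocalIdeal_sub (memLocalIdeal_add h1 h2) h3
      convert h4 using 1
      rw [hPsucc]
      ring
  have hcH : c ∈ H := hC hc
  have h5 := memLocalIdeal_sub (hd2 ⟨c, hcH⟩) (hPd ▸ hstep N ⟨c, hcH⟩ hc)
  rw [sub_sub_cancel, haF] at h5
  exact h5

/-- Translated sums of class functions against irreducible characters. -/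
theorem sum_classFun_mul_translate (θ : IrrCharacter G) {a : G → ℂ} (ha : IsClassFunction G a)
    (y : G) :
    ∑ k : G, a k * (θ : G → ℂ) (k * y) = omega (θ : G → ℂ) a * (θ : G → ℂ) y := by
  obtain ⟨f, n, ρ, hρ, rfl⟩ := θ
  have h := congrArg (fun T => LinearMap.trace ℂ (Fin n → ℂ) (T * ρ y))
    (sum_smul_eq_omega_smul ρ ha)
  simp only [Finset.sum_mul, smul_mul_assoc, one_mul, map_sum, map_smul, smul_eq_mul, ← map_mul]
    at h
  exact h

/-- The block part of a class function through the block idempotent. -/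
theorem blockPart_eq_sum_blockCoeff (b : Set (IrrCharacter G)) {f : G → ℂ}
    (hf : IsClassFunction G f) (y : G) :
    blockPart b f y = ∑ k : G, blockCoeff b k * f (k * y) := by
  classical
  conv_rhs => rw [CharCore.eq_sum_classInner hf]
  simp only [Finset.sum_apply, Pi.smul_apply, smul_eq_mul, Finset.mul_sum]
  rw [Finset.sum_comm, Finset.sum_congr rfl fun θ _ => Finset.sum_congr rfl fun k _ =>
    mul_left_comm (blockCoeff b k) _ _]
  simp only [← Finset.mul_sum, sum_classFun_mul_translate _ (isClassFunction_blockCoeff b),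
    omega_blockCoeff]
  rw [blockPart, finsum_mem_def, finsum_eq_sum_of_fintype]
  refine Finset.sum_congr rfl fun θ _ => ?_
  by_cases hθ : θ ∈ b
  · rw [Set.indicator_of_mem hθ, Set.indicator_of_mem hθ, Pi.one_apply, one_mul]
    simp [classInner]
    left
    congr!
  · rw [Set.indicator_of_notMem hθ, Set.indicator_of_notMem hθ, zero_mul, mul_zero]

end Cfsg.Agent.BlocksCore
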