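import Cfsg.Agent.Lib.BlocksCore.Ring
import Mathlib.LinearAlgebra.Matrix.NonsingularInverse
import Mathlib.Analysis.SpecialFunctions.Complex.CircleAddChar
import Mathlib.NumberTheory.LegendreSymbol.AddCharacter
import Mathlib.GroupTheory.Coset.Card
import Mathlib.Data.ZMod.QuotientGroup

/-!
# Osima's theorem and weak block orthogonality
-/

set_option linter.unusedSectionVars false

namespace Cfsg.Agent.BlocksCore

open scoped ComplexConjugate

variable {G : Type*} [Group G] {p : ℕ} {M : Ideal AlgInt}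

/-- Idempotent matrices which are congruent modulo the local ideal have equal traces. -/
theorem trace_eq_of_idempotent_congr [M.IsPrime] {ι : Type*} [Fintype ι] [DecidableEq ι]
    {P Q : Matrix ι ι ℂ} (hP : P * P = P) (hQ : Q * Q = Q)
    (hPi : ∀ i j, MemLocalRing M (P i j)) (hQi : ∀ i j, MemLocalRing M (Q i j))
    (h : ∀ i j, MemLocalIdeal M (P i j - Q i j)) : P.trace = Q.trace := by
  let π := (Ideal.Quotient.mk (localIdeal M)).mapMatrix (m := ι)
  let σ := (localRing M).subtype.mapMatrix (m := ι)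
  let P' : Matrix ι ι (localRing M) := Matrix.of fun i j => ⟨P i j, hPi i j⟩
  let Q' : Matrix ι ι (localRing M) := Matrix.of fun i j => ⟨Q i j, hQi i j⟩
  have hσP : σ P' = P := rfl
  have hσQ : σ Q' = Q := rfl
  have hσ : Function.Injective σ := fun A B hAB => Matrix.ext fun i j =>
    Subtype.ext (congrFun (congrFun hAB i) j)
  have hP' : P' * P' = P' := hσ (by rw [map_mul, hσP, hP])
  have hπ : π P' = π Q' := Matrix.ext fun i j => Ideal.Quotient.eq.mpr (h i j)
  set U : Matrix ι ι (localRing M) := P' * Q' + (1 - P') * (1 - Q') with hU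
  have hU1 : π U = 1 := by
    simp only [hU, map_add, map_mul, map_sub, map_one, ← hπ]
    rw [← map_mul, hP', sub_mul, one_mul, mul_sub, mul_one, ← map_mul, hP']
    abel
  have hdet : (σ U).det ≠ 0 := by
    intro h0
    rw [← RingHom.map_det] at h0
    have h1 : U.det = 0 := Subtype.ext h0
    have h2 := congrArg Matrix.det hU1
    rw [← RingHom.map_det, h1, map_zero, Matrix.det_one] at h2
    exact zero_ne_one h2
  have hcomm : P * σ U = σ U * Q := by
    simp only [hU, map_add, map_mul, map_sub, map_one, hσP, hσQ]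
    have e1 : P * (1 - P) = 0 := by rw [mul_sub, mul_one, hP, sub_self]
    have e2 : (1 - Q) * Q = 0 := by rw [sub_mul, one_mul, hQ, sub_self]
    rw [mul_add, add_mul, ← mul_assoc, ← mul_assoc, hP, e1, zero_mul, add_zero, mul_assoc, hQ,
      mul_assoc, e2, mul_zero, add_zero]
  have hunit : IsUnit (σ U).det := isUnit_iff_ne_zero.mpr hdet
  calc P.trace = (P * (σ U * (σ U)⁻¹)).trace := by rw [Matrix.mul_nonsing_inv _ hunit, mul_one]
    _ = ((σ U)⁻¹ * (σ U * Q)).trace := by
        rw [← mul_assoc, Matrix.trace_mul_comm, hcomm]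
    _ = Q.trace := by rw [← mul_assoc, Matrix.nonsing_inv_mul _ hunit, one_mul]

section Main

variable [Fintype G]

/-- The Hattori-Stallings rank of an idempotent over the local ring vanishes at `p`-singular
elements. -/
theorem sum_conj_idempotent_eq_zero (hM : IsPModular p M) {f : G → ℂ}
    (hf : ∀ g, MemLocalRing M (f g)) (hidem : conv f f = f) {y : G} (hy : p ∣ orderOf y) :
    ∑ h : G, f (h⁻¹ * y * h) = 0 := by
  classical
  have := isPrime hM
  have hn0 : orderOf y ≠ 0 := (orderOf_pos y).ne'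
  haveI : NeZero (orderOf y) := ⟨hn0⟩
  set n := orderOf y with hn
  let E : ZMod n → G := fun i => y ^ i.val
  have hEadd : ∀ a b, E (a + b) = E a * E b := fun a b => by
    simp only [E, ← pow_add, ZMod.val_add, hn, pow_mod_orderOf]
  have hEnat : ∀ k : ℕ, E (k : ZMod n) = y ^ k := fun k => by
    simp only [E, ZMod.val_natCast, hn, pow_mod_orderOf]
  have hE0 : E 0 = 1 := by simpa using hEnat 0
  have hEneg : ∀ a, E (-a) = (E a)⁻¹ := fun a =>
    eq_inv_of_mul_eq_one_left (by rw [← hEadd, neg_add_cancel, hE0])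
  let C := Subgroup.zpowers y
  haveI := Fintype.ofFinite (G ⧸ C)
  let e : (G ⧸ C) × ZMod n ≃ G := Equiv.ofBijective (fun q => q.1.out * E q.2) (by
    refine (Fintype.bijective_iff_surjective_and_card _).mpr ⟨fun g => ?_, ?_⟩
    · have hmem : (Quotient.out (g : G ⧸ C))⁻¹ * g ∈ C :=
        QuotientGroup.eq.mp (QuotientGroup.out_eq' _)
      obtain ⟨k, -, hk⟩ := Finset.mem_image.mp (mem_zpowers_iff_mem_range_orderOf.mp hmem)
      refine ⟨⟨(g : G ⧸ C), (k : ZMod n)⟩, ?_⟩
      show Quotient.out (g : G ⧸ C) * E k = g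
      rw [hEnat, hk, mul_inv_cancel_left]
    · rw [Fintype.card_prod, ZMod.card, ← Nat.card_eq_fintype_card, ← Nat.card_eq_fintype_card,
        Subgroup.card_eq_card_quotient_mul_card_subgroup C, Nat.card_zpowers])
  let ψ : AddChar (ZMod n) ℂ := ZMod.stdAddChar
  let R : ZMod n → ℂ := fun i => ∑ t : G ⧸ C, f (t.out * E i * t.out⁻¹)
  let A : ZMod n → Matrix (G ⧸ C) (G ⧸ C) ℂ := fun j => Matrix.of fun s t =>
    ∑ i, ψ (i * j) * f (s.out * E i * t.out⁻¹)
  have hA : ∀ j, A j * A j = A j := by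
    intro j
    ext s u
    simp only [A, Matrix.mul_apply, Matrix.of_apply, Finset.sum_mul, Finset.mul_sum]
    have step : ∀ t : G ⧸ C, ∀ i : ZMod n,
        ∑ k, ψ (i * j) * f (s.out * E i * t.out⁻¹) * (ψ (k * j) * f (t.out * E k * u.out⁻¹)) =
        ∑ d, ψ (d * j) * (f (s.out * E i * t.out⁻¹) * f (t.out * E (d - i) * u.out⁻¹)) := by
      intro t i
      refine Fintype.sum_equiv (Equiv.addLeft i) _ _ fun k => ?_
      rw [Equiv.coe_addLeft, add_sub_cancel_left, add_mul, AddChar.map_add_eq_mul]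
      ring
    rw [Finset.sum_congr rfl fun t _ => (Finset.sum_comm).trans
      (Finset.sum_congr rfl fun i _ => step t i)]
    rw [Finset.sum_congr rfl fun t _ => Finset.sum_comm, Finset.sum_comm]
    refine Finset.sum_congr rfl fun d _ => ?_
    simp only [← Finset.mul_sum]
    congr 1
    rw [← Fintype.sum_prod_type']
    have hflip : ∑ q : (G ⧸ C) × ZMod n,
        f (s.out * E q.2 * q.1.out⁻¹) * f (q.1.out * E (d - q.2) * u.out⁻¹) =
        ∑ g : G, f (s.out * g⁻¹) * f (g * (E d * u.out⁻¹)) := by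
      refine Fintype.sum_equiv ((Equiv.prodCongr (Equiv.refl _) (Equiv.neg _)).trans e) _ _
        fun q => ?_
      show _ = f (s.out * (q.1.out * E (-q.2))⁻¹) * f (q.1.out * E (-q.2) * (E d * u.out⁻¹))
      rw [mul_inv_rev, hEneg, inv_inv, sub_eq_neg_add, hEadd, hEneg]
      simp only [mul_assoc]
    rw [hflip]
    have hfin : ∑ g : G, f (s.out * g⁻¹) * f (g * (E d * u.out⁻¹)) =
        conv f f (s.out * (E d * u.out⁻¹)) := by
      rw [conv_apply]
      refine Fintype.sum_equiv ((Equiv.inv G).trans (Equiv.mulLeft s.out)) _ _ fun g => ?_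
      simp only [Equiv.trans_apply, Equiv.inv_apply, Equiv.coe_mulLeft]
      congr 2
      group
    rw [hfin, hidem, mul_assoc]
  have hψi : ∀ a, MemLocalRing M (ψ a) := fun a => memLocalRing_of_isIntegral <|
    IsIntegral.of_pow (n := n) (Nat.pos_of_ne_zero hn0) (by
      rw [← AddChar.map_nsmul_eq_pow, ZModModule.char_nsmul_eq_zero, AddChar.map_zero_eq_one]
      exact isIntegral_one)
  have hAi : ∀ j s t, MemLocalRing M (A j s t) := fun j s t => by
    simp only [A, Matrix.of_apply]
    exact memLocalRing_sum fun i _ => (localRing M).mul_mem (hψi _) (hf _)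
  set m : ℕ := n / p with hm
  have hpm : p * m = n := Nat.mul_div_cancel' hy
  have htr : ∀ j, (A (j + m)).trace = (A j).trace := by
    intro j
    refine trace_eq_of_idempotent_congr (M := M) (hA _) (hA _) (hAi _) (hAi _) fun s t => ?_
    simp only [A, Matrix.of_apply, ← Finset.sum_sub_distrib, ← sub_mul]
    refine memLocalIdeal_sum fun i _ => memLocalIdeal_mul_right ?_ (hf _)
    rw [mul_add, AddChar.map_add_eq_mul, ← mul_sub_one]
    refine memLocalIdeal_mul_left (hψi _) (memLocalIdeal_sub_one_of_pow hM (k := 1) ?_)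
    rw [pow_one, ← AddChar.map_nsmul_eq_pow, nsmul_eq_mul, mul_left_comm, ← Nat.cast_mul, hpm,
      ZMod.natCast_self, mul_zero, AddChar.map_zero_eq_one]
  have htrR : ∀ j, (A j).trace = ∑ i, ψ (i * j) * R i := by
    intro j
    simp only [A, R, Matrix.trace, Matrix.diag_apply, Matrix.of_apply, Finset.mul_sum]
    exact Finset.sum_comm
  have hS : ∑ j, ψ (-j) * (A j).trace = (n : ℂ) * R 1 := by
    simp only [htrR, Finset.mul_sum, ← mul_assoc, ← AddChar.map_add_eq_mul]
    rw [Finset.sum_comm]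
    have hcol : ∀ i : ZMod n, ∑ j : ZMod n, ψ (-j + i * j) * R i =
        (if i - 1 = 0 then (n : ℂ) else 0) * R i := by
      intro i
      rw [← Finset.sum_mul]
      congr 1
      have h := AddChar.sum_mulShift (i - 1) (ZMod.isPrimitive_stdAddChar n)
      rw [ZMod.card] at h
      push_cast at h
      rw [← h]
      exact Finset.sum_congr rfl fun j _ => congrArg ψ (by ring)
    rw [Finset.sum_congr rfl fun i _ => hcol i, Finset.sum_eq_single 1]
    · rw [sub_self, if_pos rfl]
    · intro i _ hi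
      rw [if_neg (sub_ne_zero.mpr hi), zero_mul]
    · exact fun h => absurd (Finset.mem_univ _) h
  have hψm : ψ (-(m : ZMod n)) ≠ 1 := by
    intro h
    rw [← AddChar.map_zero_eq_one ψ] at h
    have h0 := ZMod.injective_stdAddChar h
    rw [neg_eq_zero, ZMod.natCast_eq_zero_iff] at h0
    have hm0 : 0 < m := Nat.pos_of_ne_zero fun h => hn0 (by rw [← hpm, h, mul_zero])
    have := Nat.le_of_dvd hm0 h0
    have := hM.1.two_le
    nlinarith
  have hinv : ∑ j, ψ (-j) * (A j).trace = ψ (-(m : ZMod n)) * ∑ j, ψ (-j) * (A j).trace := by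
    rw [Finset.mul_sum]
    refine (Fintype.sum_equiv (Equiv.addRight (m : ZMod n)) _ _ fun j => ?_).symm
    rw [Equiv.coe_addRight, htr, neg_add, AddChar.map_add_eq_mul]
    ring
  have hR : R 1 = 0 := by
    have h1 : (ψ (-(m : ZMod n)) - 1) * ∑ j, ψ (-j) * (A j).trace = 0 := by
      rw [sub_mul, one_mul, ← hinv, sub_self]
    rw [hS] at h1
    simpa [sub_ne_zero.mpr hψm, hn0] using h1
  calc ∑ h : G, f (h⁻¹ * y * h) = ∑ h : G, f (h * y * h⁻¹) :=
        Fintype.sum_equiv (Equiv.inv G) _ _ fun h => by simp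
    _ = ∑ q : (G ⧸ C) × ZMod n, f (q.1.out * E 1 * q.1.out⁻¹) := by
        refine (Fintype.sum_equiv e _ _ fun q => ?_).symm
        show _ = f (q.1.out * E q.2 * y * (q.1.out * E q.2)⁻¹)
        have h1 : E 1 = y := by simpa using hEnat 1
        have hc : E q.2 * y * (E q.2)⁻¹ = y := by
          simp only [E, ← pow_succ, pow_succ', mul_inv_cancel_right]
        rw [h1, mul_inv_rev]
        conv_lhs => rw [← hc]
        simp only [mul_assoc]
    _ = 0 := by
        rw [Fintype.sum_prod_type]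
        simp only [Finset.sum_const, Finset.card_univ, ZMod.card, nsmul_eq_mul, ← Finset.mul_sum]
        rw [show ∑ t : G ⧸ C, f (t.out * E 1 * t.out⁻¹) = R 1 from rfl, hR, mul_zero]

/-- Sum of a character over a class translated by a fixed element. -/
theorem sum_char_conj_mul (χ : IrrCharacter G) (u x : G) :
    ∑ h : G, (χ : G → ℂ) (h⁻¹ * u * h * x) =
      (Nat.card G : ℂ) * (χ : G → ℂ) u * (χ : G → ℂ) x / (χ : G → ℂ) 1 := by
  classical
  obtain ⟨f, n, ρ, hρ, rfl⟩ := χ
  let a : G → ℂ := fun g => ((Finset.univ.filter fun h : G => h⁻¹ * u * h = g).card : ℂ)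
  have ha : IsClassFunction G a := by
    intro g c
    simp only [a, Nat.cast_inj]
    refine Finset.card_equiv (Equiv.mulRight c) fun h => ?_
    simp only [Finset.mem_filter, Finset.mem_univ, true_and, Equiv.coe_mulRight]
    constructor
    · intro hh
      calc (h * c)⁻¹ * u * (h * c) = c⁻¹ * (h⁻¹ * u * h) * c := by group
        _ = g := by rw [hh]; group
    · intro hh
      calc h⁻¹ * u * h = c * ((h * c)⁻¹ * u * (h * c)) * c⁻¹ := by group
        _ = c * g * c⁻¹ := by rw [hh]
  have key : ∀ F : G → ℂ, ∑ g, a g * F g = ∑ h : G, F (h⁻¹ * u * h) := by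
    intro F
    refine (Finset.sum_congr rfl fun g _ => ?_).trans
      (Finset.sum_fiberwise Finset.univ (fun h : G => h⁻¹ * u * h) fun h => F (h⁻¹ * u * h))
    rw [Finset.sum_congr rfl fun h hh => by rw [(Finset.mem_filter.mp hh).2], Finset.sum_const,
      nsmul_eq_mul]
  have h := congrArg (fun T => LinearMap.trace ℂ (Fin n → ℂ) (T * ρ x))
    (sum_smul_eq_omega_smul ρ ha)
  simp only [Finset.sum_mul, smul_mul_assoc, one_mul, map_sum, map_smul, smul_eq_mul, ← map_mul]
    at h
  have h1 : omega ρ.character a = (Nat.card G : ℂ) * ρ.character u / ρ.character 1 := by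
    rw [omega_eq_sum, key, Nat.card_eq_fintype_card]
    congr 1
    have e : ∀ h : G, ρ.character (h⁻¹ * u * h) = ρ.character u := fun h => by
      have := Representation.char_conj ρ u h⁻¹
      rwa [inv_inv] at this
    simp only [e, Finset.sum_const, Finset.card_univ, nsmul_eq_mul]
  change ∑ g : G, a g * ρ.character (g * x) = omega ρ.character a * ρ.character x at h
  rw [key fun g => ρ.character (g * x), h1] at h
  show _ = _
  rw [show ∀ (w : ℂ), w = ρ.character x → (Nat.card G : ℂ) * ρ.character u * w / ρ.character 1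
      = (Nat.card G : ℂ) * ρ.character u / ρ.character 1 * w from fun w _ => by ring]
  · exact h
  · rfl

/-- Weak block orthogonality. -/
theorem weakOrth (hM : IsPModular p M) {B : Set (IrrCharacter G)} (hB : IsPBlock M B) {x y : G}
    (hx : ¬ p ∣ orderOf x) (hy : p ∣ orderOf y) :
    ∑ᶠ χ ∈ B, (χ : G → ℂ) x * conj ((χ : G → ℂ) y) = 0 := by
  classical
  have := isPrime hM
  haveI := finite_irr (G := G)
  haveI := Fintype.ofFinite (IrrCharacter G)
  have hn0 : orderOf x ≠ 0 := (orderOf_pos x).ne'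
  haveI : NeZero (orderOf x) := ⟨hn0⟩
  set n := orderOf x with hn
  have hedef := isIntClassFun_blockCoeff hM hB
  set e := blockCoeff B with he
  let E : ZMod n → G := fun i => x ^ i.val
  have hEadd : ∀ a b, E (a + b) = E a * E b := fun a b => by
    simp only [E, ← pow_add, ZMod.val_add, hn, pow_mod_orderOf]
  have hE1 : E 1 = x := by
    have h1 : E ((1 : ℕ) : ZMod n) = x := by
      simp only [E, ZMod.val_natCast, hn, pow_mod_orderOf, pow_one]
    simpa using h1
  let ψ : AddChar (ZMod n) ℂ := ZMod.stdAddChar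
  let f : ZMod n → G → ℂ := fun j g => (n : ℂ)⁻¹ * ∑ i, ψ (i * j) * e ((E i)⁻¹ * g)
  have hψi : ∀ a, MemLocalRing M (ψ a) := fun a => memLocalRing_of_isIntegral <|
    IsIntegral.of_pow (n := n) (Nat.pos_of_ne_zero hn0) (by
      rw [← AddChar.map_nsmul_eq_pow, ZModModule.char_nsmul_eq_zero, AddChar.map_zero_eq_one]
      exact isIntegral_one)
  have hfi : ∀ j g, MemLocalRing M (f j g) := fun j g =>
    (localRing M).mul_mem (memLocalRing_natCast_inv hM hx)
      (memLocalRing_sum fun i _ => (localRing M).mul_mem (hψi _) (hedef.2 _))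
  have hcomm : ∀ a b : G, e (a * b) = e (b * a) := fun a b => by
    have := hedef.1 (b * a) a
    rwa [show a * (b * a) * a⁻¹ = a * b by group] at this
  have hfidem : ∀ j, conv (f j) (f j) = f j := by
    intro j
    funext z
    rw [conv_apply]
    simp only [f, Finset.mul_sum, Finset.sum_mul]
    rw [Finset.sum_comm]
    have h1 : ∀ k i : ZMod n, ∑ g : G, (n : ℂ)⁻¹ * (ψ (i * j) * e ((E i)⁻¹ * g)) *
          ((n : ℂ)⁻¹ * (ψ (k * j) * e ((E k)⁻¹ * (g⁻¹ * z)))) =
        (n : ℂ)⁻¹ * (n : ℂ)⁻¹ * (ψ ((i + k) * j) * e ((E (i + k))⁻¹ * z)) := by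
      intro k i
      have h2 : ∑ g : G, e ((E i)⁻¹ * g) * e ((E k)⁻¹ * (g⁻¹ * z)) =
          e ((E (i + k))⁻¹ * z) := by
        calc ∑ g : G, e ((E i)⁻¹ * g) * e ((E k)⁻¹ * (g⁻¹ * z))
            = ∑ u : G, e u * e (u⁻¹ * ((E i)⁻¹ * z * (E k)⁻¹)) :=
              Fintype.sum_equiv (Equiv.mulLeft (E i)⁻¹) _ _ fun g => by
                rw [Equiv.coe_mulLeft, hcomm (E k)⁻¹]
                congr 2
                group
          _ = e ((E i)⁻¹ * z * (E k)⁻¹) := by
              rw [← conv_apply, he, conv_blockCoeff_self]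
          _ = e ((E (i + k))⁻¹ * z) := by
              rw [hcomm, ← mul_assoc, hEadd, mul_inv_rev]
      rw [add_mul i k j, AddChar.map_add_eq_mul, ← h2, Finset.mul_sum, Finset.mul_sum]
      refine Finset.sum_congr rfl fun g _ => ?_
      ring
    calc ∑ k, ∑ g : G, ∑ i, _ = ∑ k : ZMod n, ∑ i : ZMod n,
          (n : ℂ)⁻¹ * (n : ℂ)⁻¹ * (ψ ((i + k) * j) * e ((E (i + k))⁻¹ * z)) :=
            Finset.sum_congr rfl fun k _ => by
              rw [Finset.sum_comm]
              exact Finset.sum_congr rfl fun i _ => h1 k i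
      _ = ∑ _k : ZMod n, ∑ d : ZMod n,
          (n : ℂ)⁻¹ * (n : ℂ)⁻¹ * (ψ (d * j) * e ((E d)⁻¹ * z)) :=
            Finset.sum_congr rfl fun k _ =>
              Fintype.sum_equiv (Equiv.addRight k) _ _ fun i => rfl
      _ = ∑ d : ZMod n, (n : ℂ)⁻¹ * (ψ (d * j) * e ((E d)⁻¹ * z)) := by
            rw [Finset.sum_const, Finset.card_univ, ZMod.card, nsmul_eq_mul, Finset.mul_sum]
            refine Finset.sum_congr rfl fun d _ => ?_
            field_simp [hn0]
  have hsum : ∀ g, ∑ j, ψ (-j) * f j g = e (x⁻¹ * g) := by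
    intro g
    simp only [f, Finset.mul_sum]
    rw [Finset.sum_comm]
    have hcol : ∀ i : ZMod n, ∑ j : ZMod n, ψ (-j) * ((n : ℂ)⁻¹ * (ψ (i * j) * e ((E i)⁻¹ * g)))
        = (if i - 1 = 0 then (n : ℂ) else 0) * ((n : ℂ)⁻¹ * e ((E i)⁻¹ * g)) := by
      intro i
      have h := AddChar.sum_mulShift (i - 1) (ZMod.isPrimitive_stdAddChar n)
      rw [ZMod.card] at h
      push_cast at h
      rw [← h, Finset.sum_mul]
      refine Finset.sum_congr rfl fun j _ => ?_
      rw [show j * (i - 1) = -j + i * j by ring, AddChar.map_add_eq_mul]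
      ring
    rw [Finset.sum_congr rfl fun i _ => hcol i, Finset.sum_eq_single 1]
    · rw [sub_self, if_pos rfl, hE1, ← mul_assoc, mul_inv_cancel₀ (Nat.cast_ne_zero.mpr hn0),
        one_mul]
    · intro i _ hi
      rw [if_neg (sub_ne_zero.mpr hi), zero_mul]
    · exact fun h => absurd (Finset.mem_univ _) h
  have h0 : ∑ h : G, e (x⁻¹ * (h⁻¹ * y * h)) = 0 := by
    simp only [← hsum]
    rw [Finset.sum_comm]
    refine Finset.sum_eq_zero fun j _ => ?_
    rw [← Finset.mul_sum, sum_conj_idempotent_eq_zero hM (hfi j) (hfidem j) hy, mul_zero]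
  have h3 : ∑ h : G, e (x⁻¹ * (h⁻¹ * y * h)) =
      ∑ χ : IrrCharacter G, B.indicator 1 χ * ((χ : G → ℂ) x * conj ((χ : G → ℂ) y)) := by
    simp only [he, blockCoeff_eq_sum, Finset.mul_sum]
    rw [Finset.sum_comm]
    refine Finset.sum_congr rfl fun χ _ => ?_
    simp only [← Finset.mul_sum]
    have h4 : ∀ h : G, (x⁻¹ * (h⁻¹ * y * h))⁻¹ = h⁻¹ * y⁻¹ * h * x := fun h => by group
    simp only [h4, sum_char_conj_mul, conj_irr]
    field_simp [irr_one_ne_zero χ, Nat.cast_ne_zero.mpr (Nat.card_pos (α := G)).ne']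
  rw [h3] at h0
  rw [finsum_mem_def, finsum_eq_sum_of_fintype, ← h0]
  refine Finset.sum_congr rfl fun χ _ => ?_
  by_cases hχ : χ ∈ B <;> simp [hχ]

/-- Osima: block idempotents are supported on `p`-regular elements. -/
theorem blockCoeff_eq_zero_of_dvd_orderOf (hM : IsPModular p M) {B : Set (IrrCharacter G)}
    (hB : IsPBlock M B) {g : G} (hg : p ∣ orderOf g) : blockCoeff B g = 0 := by
  rw [blockCoeff, weakOrth hM hB (by rw [orderOf_one]; exact hM.1.not_dvd_one) hg, mul_zero]

/-- Characters in different blocks are orthogonal on `p`-regular elements. -/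
theorem sum_pRegular_mul_conj (hM : IsPModular p M) (χ ψ : IrrCharacter G)
    (h : ¬ SameBlock M (χ : G → ℂ) (ψ : G → ℂ)) :
    ∑ᶠ x ∈ {x : G | ¬ p ∣ orderOf x}, (χ : G → ℂ) x * conj ((ψ : G → ℂ) x) = 0 := by
  classical
  have := isPrime hM
  haveI := finite_irr (G := G)
  haveI := Fintype.ofFinite (IrrCharacter G)
  set B := blockOf M (ψ : G → ℂ) with hBdef
  have hB : IsPBlock M B := isPBlock_blockOf ψ
  have hψ : ψ ∈ B := mem_blockOf_self ψ
  have hχ : χ ∉ B := fun hc => h (sameBlock_symm hc)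
  have hN : (Nat.card G : ℂ) ≠ 0 := Nat.cast_ne_zero.mpr Nat.card_pos.ne'
  let P := Finset.univ.filter fun x : G => ¬ p ∣ orderOf x
  let K : G → G → ℂ := fun x y =>
    ∑ φ ∈ Finset.univ.filter (· ∈ B), conj ((φ : G → ℂ) x) * (φ : G → ℂ) y
  have hK : ∀ x y, ¬ p ∣ orderOf x → p ∣ orderOf y → K x y = 0 ∧ K y x = 0 := by
    intro x y hx hy
    have h1 := weakOrth hM hB hx hy
    rw [finsum_mem_eq_finite_toFinset_sum _ (Set.toFinite B)] at h1
    have hB' : (Set.toFinite B).toFinset = Finset.univ.filter (· ∈ B) := by ext; simp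
    rw [hB'] at h1
    refine ⟨?_, ?_⟩
    · have h2 := congrArg conj h1
      rw [map_sum, map_zero] at h2
      rw [← h2]
      exact Finset.sum_congr rfl fun φ _ => by rw [map_mul, Complex.conj_conj]
    · rw [← h1]
      exact Finset.sum_congr rfl fun φ _ => mul_comm _ _
  have hrec : ∀ x, ∑ y : G, K x y * conj ((ψ : G → ℂ) y) = Nat.card G * conj ((ψ : G → ℂ) x) := by
    intro x
    simp only [K, Finset.sum_mul, mul_assoc]
    rw [Finset.sum_comm]
    simp only [← Finset.mul_sum, conj_irr, sum_char_mul_inv]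
    rw [Finset.sum_eq_single ψ]
    · rw [if_pos rfl, mul_comm]
    · intro φ _ hφ
      rw [if_neg hφ, mul_zero]
    · intro hn
      exact absurd (Finset.mem_filter.mpr ⟨Finset.mem_univ ψ, hψ⟩) hn
  have hann : ∀ y, ∑ x : G, (χ : G → ℂ) x * K x y = 0 := by
    intro y
    simp only [K, Finset.mul_sum, ← mul_assoc]
    rw [Finset.sum_comm]
    simp only [← Finset.sum_mul, conj_irr, sum_char_mul_inv]
    refine Finset.sum_eq_zero fun φ hφ => ?_
    rw [if_neg fun he => hχ (by rw [he]; exact (Finset.mem_filter.mp hφ).2), zero_mul]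
  rw [finsum_mem_eq_finite_toFinset_sum _ (Set.toFinite _)]
  have hP : (Set.toFinite {x : G | ¬ p ∣ orderOf x}).toFinset = P := by ext; simp [P]
  rw [hP]
  refine (mul_eq_zero.mp ?_).resolve_left hN
  calc (Nat.card G : ℂ) * ∑ x ∈ P, (χ : G → ℂ) x * conj ((ψ : G → ℂ) x)
      = ∑ x ∈ P, ∑ y : G, (χ : G → ℂ) x * K x y * conj ((ψ : G → ℂ) y) := by
        rw [Finset.mul_sum]
        refine Finset.sum_congr rfl fun x _ => ?_
        simp only [mul_assoc, ← Finset.mul_sum, hrec]
        ring
    _ = ∑ y : G, (∑ x ∈ P, (χ : G → ℂ) x * K x y) * conj ((ψ : G → ℂ) y) := by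
        rw [Finset.sum_comm]
        simp only [Finset.sum_mul]
    _ = 0 := by
        refine Finset.sum_eq_zero fun y _ => ?_
        by_cases hy : p ∣ orderOf y
        · rw [Finset.sum_eq_zero fun x hx => by
            rw [(hK x y (Finset.mem_filter.mp hx).2 hy).1, mul_zero], zero_mul]
        · rw [Finset.sum_subset (Finset.subset_univ P) fun x _ hx => by
            rw [(hK y x hy (by simpa [P] using hx)).2, mul_zero], hann, zero_mul]

end Main

end Cfsg.Agent.BlocksCore
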