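import Cfsg.Agent.Lib.BlocksCore.Local
import Cfsg.Agent.Lib.CharClifford.Eigen
import Mathlib.GroupTheory.GroupAction.ConjAct
import Mathlib.GroupTheory.GroupAction.Quotient
import Mathlib.RingTheory.IntegralClosure.Algebra.Basic
import Mathlib.RepresentationTheory.Irreducible
import Mathlib.Algebra.MonoidAlgebra.Basic

/-!
# Central characters evaluated on class functions

`omega χ a` is the scalar by which `∑ a g • g` acts in the representation affording `χ`.
-/

set_option linter.unusedSectionVars false

namespace Cfsg.Agent.BlocksCore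

open scoped ComplexConjugate

variable {G : Type*} [Group G] {p : ℕ} {M : Ideal AlgInt}

/-- The central character of `χ` at the class function `a`. -/
noncomputable def omega (χ a : G → ℂ) : ℂ := (∑ᶠ g, a g * χ g) / χ 1

/-- Convolution of functions on a group. -/
noncomputable def conv (a b : G → ℂ) : G → ℂ := fun x => ∑ᶠ y, a y * b (y⁻¹ * x)

/-- The indicator function of the class of `g`. -/
noncomputable def classInd (g : G) : G → ℂ := {x : G | IsConj g x}.indicator 1

/-- Class functions with values in the local ring. -/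
def IsIntClassFun (M : Ideal AlgInt) (a : G → ℂ) : Prop :=
  IsClassFunction G a ∧ ∀ g, MemLocalRing M (a g)

theorem omega_eq_sum [Fintype G] (χ a : G → ℂ) : omega χ a = (∑ g, a g * χ g) / χ 1 := by
  rw [omega, finsum_eq_sum_of_fintype]

theorem conv_apply [Fintype G] (a b : G → ℂ) (x : G) :
    conv a b x = ∑ y, a y * b (y⁻¹ * x) :=
  finsum_eq_sum_of_fintype _

theorem classInd_apply_of_isConj {g x : G} (h : IsConj g x) : classInd g x = 1 :=
  Set.indicator_of_mem (show x ∈ {x : G | IsConj g x} from h) _

theorem classInd_apply_of_not_isConj {g x : G} (h : ¬ IsConj g x) : classInd g x = 0 :=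
  Set.indicator_of_notMem (show x ∉ {x : G | IsConj g x} from h) _

theorem isClassFunction_classInd (g : G) : IsClassFunction G (classInd g) := by
  intro x h
  have hx : IsConj x (h * x * h⁻¹) := isConj_iff.mpr ⟨h, rfl⟩
  by_cases hc : IsConj g x
  · rw [classInd_apply_of_isConj (hc.trans hx), classInd_apply_of_isConj hc]
  · rw [classInd_apply_of_not_isConj fun h' => hc (h'.trans hx.symm),
      classInd_apply_of_not_isConj hc]

theorem isIntClassFun_classInd [M.IsPrime] (g : G) : IsIntClassFun M (classInd g) := by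
  refine ⟨isClassFunction_classInd g, fun x => ?_⟩
  by_cases h : IsConj g x
  · rw [classInd_apply_of_isConj h]; exact (localRing M).one_mem
  · rw [classInd_apply_of_not_isConj h]; exact (localRing M).zero_mem

theorem sum_classInd [Fintype G] (g : G) :
    ∑ x, classInd g x = ((Subgroup.centralizer ({g} : Set G)).index : ℂ) := by
  classical
  have h1 : (Subgroup.centralizer ({g} : Set G)).index = Nat.card {x : G // IsConj g x} := by
    have e1 := Subgroup.index_mul_card (Subgroup.centralizer ({g} : Set G))
    rw [Subgroup.nat_card_centralizer_nat_card_stabilizer] at e1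
    have e2 := Subgroup.index_mul_card (MulAction.stabilizer (ConjAct G) g)
    rw [show Nat.card (ConjAct G) = Nat.card G from rfl, ← e1] at e2
    rw [← Nat.eq_of_mul_eq_mul_right Nat.card_pos e2, MulAction.index_stabilizer,
      ← Nat.card_coe_set_eq]
    refine Nat.card_congr (Equiv.setCongr ?_)
    ext x
    show x ∈ MulAction.orbit (ConjAct G) g ↔ IsConj g x
    rw [ConjAct.orbit_eq_carrier_conjClasses, ConjClasses.mem_carrier_iff_mk_eq,
      ConjClasses.mk_eq_mk_iff_isConj]
    exact ⟨IsConj.symm, IsConj.symm⟩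
  rw [h1, Nat.card_eq_fintype_card, Fintype.card_subtype, Finset.natCast_card_filter]
  exact Finset.sum_congr rfl fun x _ => by
    split_ifs with h
    · exact classInd_apply_of_isConj h
    · exact classInd_apply_of_not_isConj h

section Irr

variable [Fintype G]

theorem irr_class (χ : IrrCharacter G) : IsClassFunction G (χ : G → ℂ) := by
  obtain ⟨f, n, ρ, -, rfl⟩ := χ
  exact fun g h => Representation.char_conj ρ g h

theorem isIntegral_irr (χ : IrrCharacter G) (g : G) : IsIntegral ℤ ((χ : G → ℂ) g) :=
  CharClifford.isIntegral_of_isIrrCharacter χ.2 g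

theorem conj_irr (χ : IrrCharacter G) (g : G) : conj ((χ : G → ℂ) g) = (χ : G → ℂ) g⁻¹ :=
  CharClifford.conj_of_isCharacter (CharClifford.isCharacter_of_isIrrCharacter χ.2) g

theorem degree_pos_of_rep {n : ℕ} (ρ : Representation ℂ G (Fin n → ℂ)) [ρ.IsIrreducible] :
    0 < n := by
  rcases Nat.eq_zero_or_pos n with rfl | h
  · exfalso
    have : Subsingleton (Subrepresentation ρ) :=
      ⟨fun a b => Subrepresentation.toSubmodule_injective (Subsingleton.elim _ _)⟩
    exact not_nontrivial (Subrepresentation ρ) inferInstance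
  · exact h

/-- The degree of an irreducible character is a positive natural number. -/
theorem exists_degree (χ : IrrCharacter G) :
    ∃ n : ℕ, 0 < n ∧ (χ : G → ℂ) 1 = (n : ℂ) ∧ charDegree (χ : G → ℂ) = n := by
  obtain ⟨f, n, ρ, hρ, rfl⟩ := χ
  refine ⟨n, degree_pos_of_rep ρ, by simp, ?_⟩
  simp [charDegree]

theorem irr_one_ne_zero (χ : IrrCharacter G) : (χ : G → ℂ) 1 ≠ 0 := by
  obtain ⟨n, hn, h, -⟩ := exists_degree χ
  rw [h]
  exact_mod_cast hn.ne'

theorem charDegree_pos (χ : IrrCharacter G) : 0 < charDegree (χ : G → ℂ) := by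
  obtain ⟨n, hn, -, h⟩ := exists_degree χ
  omega

theorem irr_one_eq (χ : IrrCharacter G) :
    (χ : G → ℂ) 1 = (charDegree (χ : G → ℂ) : ℂ) := by
  obtain ⟨n, -, h, h'⟩ := exists_degree χ
  rw [h, h']

variable {n : ℕ} (ρ : Representation ℂ G (Fin n → ℂ))

/-- Class functions act by scalars in irreducible representations. -/
theorem sum_smul_eq_omega_smul [hρ : ρ.IsIrreducible] {a : G → ℂ}
    (ha : IsClassFunction G a) :
    ∑ g, a g • ρ g = omega ρ.character a • (1 : Module.End ℂ (Fin n → ℂ)) := by
  set T : Module.End ℂ (Fin n → ℂ) := ∑ g, a g • ρ g with hT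
  have hcomm : ∀ h : G, T * ρ h = ρ h * T := by
    intro h
    simp only [hT, Finset.sum_mul, Finset.mul_sum, smul_mul_assoc, mul_smul_comm, ← map_mul]
    refine Fintype.sum_equiv ((Equiv.mulLeft h⁻¹).trans (Equiv.mulRight h)) _ _ fun g => ?_
    simp only [Equiv.trans_apply, Equiv.coe_mulLeft, Equiv.coe_mulRight]
    have := ha g h⁻¹
    rw [inv_inv] at this
    rw [this]
    congr 2
    group
  obtain ⟨c, hc⟩ :=
    (Representation.IsIrreducible.algebraMap_intertwiningMap_bijective_of_isAlgClosed
      (ρ := ρ)).surjective (⟨T, hcomm⟩ : Representation.IntertwiningMap ρ ρ)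
  have hTc : T = c • (1 : Module.End ℂ (Fin n → ℂ)) :=
    (congrArg Representation.IntertwiningMap.toLinearMap hc).symm.trans rfl
  have htr := congrArg (LinearMap.trace ℂ (Fin n → ℂ)) hTc
  rw [hT, map_sum] at htr
  simp only [map_smul, LinearMap.trace_one, Module.finrank_fin_fun, smul_eq_mul] at htr
  have hn : (n : ℂ) ≠ 0 := by exact_mod_cast (degree_pos_of_rep ρ).ne'
  rw [hTc, omega_eq_sum, Representation.char_one, Module.finrank_fin_fun]
  congr 1
  rw [eq_div_iff hn]
  exact htr.symm

theorem isClassFunction_conv {a b : G → ℂ} (ha : IsClassFunction G a)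
    (hb : IsClassFunction G b) : IsClassFunction G (conv a b) := by
  intro x h
  simp only [conv_apply]
  refine (Fintype.sum_equiv ((Equiv.mulLeft h).trans (Equiv.mulRight h⁻¹)) _ _ fun y => ?_).symm
  simp only [Equiv.trans_apply, Equiv.coe_mulLeft, Equiv.coe_mulRight]
  rw [ha, show (h * y * h⁻¹)⁻¹ * (h * x * h⁻¹) = h * (y⁻¹ * x) * h⁻¹ by group, hb]

/-- Central characters are multiplicative. -/
theorem omega_conv (χ : IrrCharacter G) {a b : G → ℂ} (ha : IsClassFunction G a)
    (hb : IsClassFunction G b) :
    omega (χ : G → ℂ) (conv a b) = omega (χ : G → ℂ) a * omega (χ : G → ℂ) b := by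
  obtain ⟨f, n, ρ, hρ, rfl⟩ := χ
  have h1 := sum_smul_eq_omega_smul ρ ha
  have h2 := sum_smul_eq_omega_smul ρ hb
  have h3 := sum_smul_eq_omega_smul ρ (isClassFunction_conv ha hb)
  have h4 : ∑ x, conv a b x • ρ x = (∑ g, a g • ρ g) * ∑ g, b g • ρ g := by
    rw [Finset.sum_mul_sum]
    simp only [conv_apply, Finset.sum_smul, smul_mul_smul_comm]
    rw [Finset.sum_comm]
    refine Finset.sum_congr rfl fun y _ => Fintype.sum_equiv (Equiv.mulLeft y⁻¹) _ _ fun x => ?_
    rw [Equiv.coe_mulLeft, ← map_mul, mul_inv_cancel_left]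
  rw [h1, h2, h3, smul_mul_smul_comm, one_mul] at h4
  have hn : (n : ℂ) ≠ 0 := by exact_mod_cast (degree_pos_of_rep ρ).ne'
  have h5 := congrArg (LinearMap.trace ℂ (Fin n → ℂ)) h4
  simp only [map_smul, LinearMap.trace_one, Module.finrank_fin_fun, smul_eq_mul] at h5
  exact mul_right_cancel₀ hn h5

theorem omega_add (χ a b : G → ℂ) : omega χ (a + b) = omega χ a + omega χ b := by
  simp only [omega_eq_sum, Pi.add_apply, add_mul, Finset.sum_add_distrib, add_div]

theorem omega_smul (χ a : G → ℂ) (c : ℂ) : omega χ (c • a) = c * omega χ a := by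
  simp only [omega_eq_sum, Pi.smul_apply, smul_eq_mul, mul_assoc, ← Finset.mul_sum, mul_div_assoc]

theorem omega_neg (χ a : G → ℂ) : omega χ (-a) = -omega χ a := by
  simpa using omega_smul χ a (-1)

theorem omega_zero (χ : G → ℂ) : omega χ 0 = 0 := by
  simp [omega_eq_sum]

theorem omega_sum {ι : Type*} (χ : G → ℂ) (s : Finset ι) (a : ι → G → ℂ) :
    omega χ (∑ i ∈ s, a i) = ∑ i ∈ s, omega χ (a i) := by
  classical
  induction s using Finset.induction with
  | empty => simp [omega_zero]
  | insert i s hi ih => rw [Finset.sum_insert hi, Finset.sum_insert hi, omega_add, ih]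

/-- The central character at a class indicator. -/
theorem omega_classInd {χ : G → ℂ} (hχ : IsClassFunction G χ) (g : G) :
    omega χ (classInd g) = centralChar χ g := by
  rw [omega_eq_sum, centralChar, ← sum_classInd, Finset.sum_mul]
  congr 1
  refine Finset.sum_congr rfl fun x _ => ?_
  by_cases h : IsConj g x
  · obtain ⟨c, rfl⟩ := isConj_iff.mp h
    rw [hχ]
  · rw [classInd_apply_of_not_isConj h, zero_mul, zero_mul]

theorem omega_classInd_one (χ : IrrCharacter G) : omega (χ : G → ℂ) (classInd 1) = 1 := by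
  rw [omega_classInd (irr_class χ), centralChar]
  have : (Subgroup.centralizer ({1} : Set G)) = ⊤ := by
    ext x; simp [Subgroup.mem_centralizer_singleton_iff]
  rw [this, Subgroup.index_top]
  simp [irr_one_ne_zero χ]

/-- Central character values on classes are algebraic integers. -/
theorem isIntegral_centralChar (χ : IrrCharacter G) (g : G) :
    IsIntegral ℤ (centralChar (χ : G → ℂ) g) := by
  classical
  rw [← omega_classInd (irr_class χ)]
  obtain ⟨f, n, ρ, hρ, rfl⟩ := χ
  have h := sum_smul_eq_omega_smul ρ (isClassFunction_classInd g)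
  have hint : IsIntegral ℤ (∑ x, classInd g x • ρ x) := by
    have hz : IsIntegral ℤ
        (∑ x ∈ Finset.univ.filter (fun x => IsConj g x),
          (MonoidAlgebra.single x (1 : ℤ) : MonoidAlgebra ℤ G)) :=
      IsIntegral.of_finite ℤ _
    have e : ∑ x, classInd g x • ρ x = MonoidAlgebra.lift ℤ (Module.End ℂ (Fin n → ℂ)) G ρ
        (∑ x ∈ Finset.univ.filter (fun x => IsConj g x),
          (MonoidAlgebra.single x (1 : ℤ) : MonoidAlgebra ℤ G)) := by
      rw [map_sum, Finset.sum_filter]
      refine Finset.sum_congr rfl fun x _ => ?_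
      split_ifs with hx
      · rw [classInd_apply_of_isConj hx, one_smul, MonoidAlgebra.lift_single, one_smul]
      · rw [classInd_apply_of_not_isConj hx, zero_smul]
    rw [e]
    exact IsIntegral.map _ hz
  rw [h, ← Algebra.algebraMap_eq_smul_one] at hint
  have : NeZero n := ⟨(degree_pos_of_rep ρ).ne'⟩
  exact (isIntegral_algHom_iff
    ((Algebra.ofId ℂ (Module.End ℂ (Fin n → ℂ))).restrictScalars ℤ)
    (FaithfulSMul.algebraMap_injective ℂ _)).mp hint

theorem centralChar_memLocalRing [M.IsPrime] (χ : IrrCharacter G) (g : G) :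
    MemLocalRing M (centralChar (χ : G → ℂ) g) :=
  memLocalRing_of_isIntegral (isIntegral_centralChar χ g)

end Irr

end Cfsg.Agent.BlocksCore
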