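import Cfsg.Agent.Lib.BlocksCore.WeakOrth
import Cfsg.Agent.Lib.CharCore.Basic
import Mathlib.GroupTheory.QuotientGroup.Basic

/-!
# Normal `p`-subgroups: every block contains an inflated character
-/

set_option linter.unusedSectionVars false

namespace Cfsg.Agent.BlocksCore

open scoped ComplexConjugate

variable {G : Type*} [Group G] [Fintype G] {p : ℕ} {M : Ideal AlgInt}

/-- An irreducible character of a quotient, inflated. -/
noncomputable def inflate (N : Subgroup G) [N.Normal] (θ : IrrCharacter (G ⧸ N)) :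
    IrrCharacter G :=
  ⟨fun g => (θ : G ⧸ N → ℂ) (QuotientGroup.mk' N g),
    CharCore.isIrrCharacter_comp_surjective θ.2 _ (QuotientGroup.mk'_surjective N)⟩

theorem inflate_apply (N : Subgroup G) [N.Normal] (θ : IrrCharacter (G ⧸ N)) (g : G) :
    (inflate N θ : G → ℂ) g = (θ : G ⧸ N → ℂ) (QuotientGroup.mk' N g) := rfl

/-- Fibre sums along the quotient map. -/
noncomputable def pushFun (N : Subgroup G) [N.Normal] (a : G → ℂ) : G ⧸ N → ℂ :=
  fun q => ∑ᶠ g ∈ {g : G | QuotientGroup.mk' N g = q}, a g

theorem pushFun_apply (N : Subgroup G) [N.Normal] (a : G → ℂ) (q : G ⧸ N) [DecidableEq (G ⧸ N)] :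
    pushFun N a q = ∑ g, if QuotientGroup.mk' N g = q then a g else 0 := by
  rw [pushFun, finsum_mem_eq_finite_toFinset_sum _ (Set.toFinite _), ← Finset.sum_filter]
  refine Finset.sum_congr ?_ fun _ _ => rfl
  ext g
  rw [Set.Finite.mem_toFinset, Finset.mem_filter]
  exact ⟨fun h => ⟨Finset.mem_univ g, h⟩, fun h => h.2⟩

theorem isClassFunction_pushFun (N : Subgroup G) [N.Normal] {a : G → ℂ}
    (ha : IsClassFunction G a) : IsClassFunction (G ⧸ N) (pushFun N a) := by
  classical
  intro q r
  obtain ⟨x, rfl⟩ := QuotientGroup.mk'_surjective N r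
  rw [pushFun_apply, pushFun_apply]
  refine Fintype.sum_equiv ((Equiv.mulLeft x⁻¹).trans (Equiv.mulRight x)) _ _ fun g => ?_
  simp only [Equiv.trans_apply, Equiv.coe_mulLeft, Equiv.coe_mulRight, map_mul, map_inv]
  have h1 : a (x⁻¹ * g * x) = a g := by simpa using ha g x⁻¹
  rw [h1]
  congr 1
  refine propext ⟨fun h => by rw [h]; group, fun h => by rw [← h]; group⟩

theorem omega_inflate (N : Subgroup G) [N.Normal] [Fintype (G ⧸ N)] (θ : IrrCharacter (G ⧸ N))
    (a : G → ℂ) :
    omega (inflate N θ : G → ℂ) a = omega (θ : G ⧸ N → ℂ) (pushFun N a) := by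
  classical
  rw [omega_eq_sum, omega_eq_sum, inflate_apply, map_one]
  congr 1
  simp only [pushFun_apply, Finset.sum_mul, inflate_apply, ite_mul, zero_mul]
  rw [Finset.sum_comm]
  exact Finset.sum_congr rfl fun g _ => by rw [Finset.sum_ite_eq, if_pos (Finset.mem_univ _)]

/-- A class function with all values in the local ideal has central character values there. -/
theorem omega_memLocalIdeal [M.IsPrime] (χ : IrrCharacter G) {a : G → ℂ}
    (ha : IsClassFunction G a) (hm : ∀ g, MemLocalIdeal M (a g)) :
    MemLocalIdeal M (omega (χ : G → ℂ) a) := by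
  classical
  have : Finite (ConjClasses G) := Finite.of_surjective _ ConjClasses.mk_surjective
  have := Fintype.ofFinite (ConjClasses G)
  rw [omega_eq_sum_classes _ ha]
  refine memLocalIdeal_sum fun C _ => ?_
  rw [omega_classInd (irr_class χ)]
  exact memLocalIdeal_mul_right (hm _) (centralChar_memLocalRing χ _)

theorem blockCoeff_one_ne_zero {B : Set (IrrCharacter G)} (hB : B.Nonempty) :
    blockCoeff B 1 ≠ 0 := by
  classical
  haveI := finite_irr (G := G)
  haveI := Fintype.ofFinite (IrrCharacter G)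
  rw [blockCoeff, finsum_mem_eq_finite_toFinset_sum _ (Set.toFinite B)]
  refine mul_ne_zero (inv_ne_zero (Nat.cast_ne_zero.mpr Nat.card_pos.ne')) ?_
  simp only [irr_one_eq, Complex.conj_natCast, ← Nat.cast_mul, ← Nat.cast_sum]
  refine Nat.cast_ne_zero.mpr (Finset.sum_pos (fun χ _ => ?_) ?_).ne'
  · exact Nat.mul_pos (charDegree_pos χ) (charDegree_pos χ)
  · exact (Set.Finite.toFinset_nonempty _).mpr hB

/-- Every block contains a character trivial on a given normal `p`-subgroup. -/
theorem exists_inflate_mem (hM : IsPModular p M) {B : Set (IrrCharacter G)} (hB : IsPBlock M B)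
    (N : Subgroup G) [N.Normal] (hN : IsPGroup p N) :
    ∃ θ : IrrCharacter (G ⧸ N), inflate N θ ∈ B := by
  classical
  have := isPrime hM
  haveI := Fact.mk hM.1
  haveI := Fintype.ofFinite (G ⧸ N)
  by_contra hno
  push Not at hno
  have he := isClassFunction_blockCoeff (G := G) B
  have h0 : pushFun N (blockCoeff B) = 0 :=
    eq_of_omega_eq (isClassFunction_pushFun N he) (fun _ _ => rfl) fun θ => by
      rw [← omega_inflate, omega_blockCoeff, Set.indicator_of_notMem (hno θ), omega_zero]
  have h1 := congrFun h0 (QuotientGroup.mk' N 1)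
  rw [pushFun_apply, Finset.sum_eq_single 1, if_pos rfl] at h1
  · exact blockCoeff_one_ne_zero (isPBlock_nonempty hB) h1
  · intro g _ hg
    split_ifs with h
    · rw [map_one] at h
      have hgN : g ∈ N := (QuotientGroup.eq_one_iff g).mp h
      refine blockCoeff_eq_zero_of_dvd_orderOf hM hB ?_
      obtain ⟨k, hk⟩ := IsPGroup.iff_orderOf.mp hN ⟨g, hgN⟩
      rw [← Subgroup.orderOf_coe] at hk
      rcases Nat.eq_zero_or_pos k with rfl | hk0
      · exact absurd (orderOf_eq_one_iff.mp (by simpa using hk)) hg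
      · show p ∣ orderOf g
        exact hk ▸ dvd_pow_self p hk0.ne'
    · rfl
  · exact fun h => absurd (Finset.mem_univ _) h

/-- Class functions with fibre sums in the local ideal along a normal `p`-subgroup have central
character values there. -/
theorem omega_memLocalIdeal_of_pushFun (hM : IsPModular p M) (χ : IrrCharacter G) (N : Subgroup G)
    [N.Normal] (hN : IsPGroup p N) {a : G → ℂ} (ha : IsIntClassFun M a)
    (hm : ∀ q, MemLocalIdeal M (pushFun N a q)) : MemLocalIdeal M (omega (χ : G → ℂ) a) := by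
  have := isPrime hM
  haveI := Fintype.ofFinite (G ⧸ N)
  obtain ⟨θ, hθ⟩ := exists_inflate_mem hM (isPBlock_blockOf χ) N hN
  rw [← sub_add_cancel (omega (χ : G → ℂ) a) (omega (inflate N θ : G → ℂ) a)]
  refine memLocalIdeal_add (omega_sub_memLocalIdeal hθ ha) ?_
  rw [omega_inflate]
  exact omega_memLocalIdeal θ (isClassFunction_pushFun N ha.1) hm

end Cfsg.Agent.BlocksCore
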