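import Cfsg.Agent.Lib.BlocksCore.Brauer
import Cfsg.Agent.Lib.BlocksCore.SecondBlock
import Cfsg.Agent.Lib.BlocksDefect.Kernel
import Cfsg.Agent.S0916

/-!
# Brauer's first main theorem
-/

set_option linter.unusedSectionVars false

namespace Cfsg.Agent.BlocksCore

open BlocksDefect

variable {G : Type*} [Group G] [Fintype G] {p : ℕ} [Fact p.Prime] {M : Ideal AlgInt}
  {D : Subgroup G}


theorem centralizer_le_normalizer' (D : Subgroup G) :
    Subgroup.centralizer (D : Set G) ≤ Subgroup.normalizer (D : Set G) := by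
  intro x hx
  rw [Subgroup.mem_normalizer_iff]
  rw [Subgroup.mem_centralizer_iff] at hx
  intro u
  constructor
  · intro hu
    rw [← hx u hu, mul_inv_cancel_right]
    exact hu
  · intro hu
    have h := hx _ hu
    rw [mul_assoc (x * u), inv_mul_cancel, mul_one, mul_right_inj] at h
    exact h ▸ (by simpa using hu)

theorem mem_centralizer_of_subgroupOf {H : Subgroup G} (hDH : D ≤ H) {z : H}
    (hz : z ∈ Subgroup.centralizer ((D.subgroupOf H : Subgroup H) : Set H)) :
    (z : G) ∈ Subgroup.centralizer (D : Set G) := by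
  rw [Subgroup.mem_centralizer_iff] at hz ⊢
  intro u hu
  exact congrArg Subtype.val (hz ⟨u, hDH hu⟩ hu)

/-- Classes of the normalizer with defect group `D` come from classes of `G` with defect
group `D`. -/
theorem isSylowCent_of_normalizer (hD : IsPGroup p D) {c : (Subgroup.normalizer (D : Set G))}
    (h : IsSylowCent p c (D.subgroupOf (Subgroup.normalizer (D : Set G)))) : IsSylowCent p (c : G) D := by
  have hc : (c : G) ∈ Subgroup.centralizer (D : Set G) :=
    mem_centralizer_of_subgroupOf Subgroup.le_normalizer h.mem_centralizer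
  refine (Cfsg.Agent.S0916.result p D hD).2 (c : G) hc ?_
  set L : Subgroup G := Subgroup.centralizer ({(c : G)} : Set G) ⊓ (Subgroup.normalizer (D : Set G)) with hL
  have hDL : D ≤ L :=
    le_inf (le_centralizer_singleton_iff.mpr hc) Subgroup.le_normalizer
  have hcard : Nat.card L = Nat.card (Subgroup.centralizer ({c} : Set (Subgroup.normalizer (D : Set G)))) := by
    have e : L.subgroupOf (Subgroup.normalizer (D : Set G)) = Subgroup.centralizer ({c} : Set (Subgroup.normalizer (D : Set G))) := by
      ext y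
      rw [Subgroup.mem_subgroupOf, Subgroup.mem_centralizer_singleton_iff, hL, Subgroup.mem_inf,
        Subgroup.mem_centralizer_singleton_iff]
      exact ⟨fun h => Subtype.ext h.1, fun h => ⟨congrArg Subtype.val h, y.2⟩⟩
    rw [← e]
    exact (Nat.card_congr (Subgroup.subgroupOfEquivOfLe inf_le_right).toEquiv).symm
  have hDc : Nat.card (D.subgroupOf L) = p ^ (Nat.card L).factorization p := by
    rw [hcard, ← h.natCard, Nat.card_congr (Subgroup.subgroupOfEquivOfLe hDL).toEquiv,
      Nat.card_congr (Subgroup.subgroupOfEquivOfLe (Subgroup.le_normalizer (H := D))).toEquiv]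
  exact ⟨Sylow.ofCard (D.subgroupOf L) hDc, by simp [Subgroup.map_subgroupOf_eq_of_le hDL]⟩

/-- The Brauer restriction of a class with defect group `D` is the class in the normalizer. -/
theorem brRes_classInd_of_sylowCent (hD : IsPGroup p D) {c : (Subgroup.normalizer (D : Set G))}
    (h : IsSylowCent p (c : G) D) :
    brRes D (Subgroup.normalizer (D : Set G)) (classInd (c : G)) = classInd c := by
  funext x
  by_cases hx : (x : G) ∈ Subgroup.centralizer (D : Set G)
  · rw [brRes_of_mem _ hx]
    by_cases hcx : IsConj (c : G) (x : G)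
    · rw [classInd_apply_of_isConj hcx]
      obtain ⟨n, hn, e⟩ := ((Cfsg.Agent.S0916.result p D hD).1 (c : G) h).2 (c : G) (x : G)
        (IsConj.refl _) hcx h.mem_centralizer hx
      rw [classInd_apply_of_isConj]
      exact isConj_iff.mpr ⟨⟨n, hn⟩, Subtype.ext (by simpa using e)⟩
    · rw [classInd_apply_of_not_isConj hcx, classInd_apply_of_not_isConj]
      intro hcx'
      obtain ⟨n, hn⟩ := isConj_iff.mp hcx'
      exact hcx (isConj_iff.mpr ⟨n, by rw [← hn]; simp⟩)
  · rw [brRes_of_notMem _ hx, classInd_apply_of_not_isConj]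
    intro hcx'
    obtain ⟨n, hn⟩ := isConj_iff.mp hcx'
    refine hx ?_
    rw [← hn]
    simpa using (conj_mem_centralizer_iff n.2).mpr h.mem_centralizer

/-- Congruence of central characters on classes with defect group `D`. -/
theorem centralChar_sub_of_induced (hM : IsPModular p M) (hD : IsPGroup p D)
    {b : Set (IrrCharacter (Subgroup.normalizer (D : Set G)))} {B : Set (IrrCharacter G)}
    (hind : IsInducedBlock M (Subgroup.normalizer (D : Set G)) b B) {ξ : IrrCharacter (Subgroup.normalizer (D : Set G))} (hξ : ξ ∈ b)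
    {χ : IrrCharacter G} (hχ : χ ∈ B) {c : (Subgroup.normalizer (D : Set G))} (h : IsSylowCent p (c : G) D) :
    MemLocalIdeal M (centralChar (ξ : (Subgroup.normalizer (D : Set G)) → ℂ) c - centralChar (χ : G → ℂ) (c : G)) := by
  classical
  have h1 := (isInducedBlock_iff_brauer hM hD Subgroup.le_normalizer le_rfl hind.1 hind.2.1).mp
    hind ξ hξ χ hχ (c : G)
  have e := omega_brRes_classInd D (Subgroup.normalizer (D : Set G)) (ξ : (Subgroup.normalizer (D : Set G)) → ℂ) (c : G)
  rw [brRes_classInd_of_sylowCent hD h, omega_classInd (irr_class ξ)] at e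
  rwa [← e] at h1

/-- A block of the normalizer with defect group `D` induces a block with defect group `D`. -/
theorem exists_induced_defectGroup (hM : IsPModular p M) (hD : IsPGroup p D)
    {b : Set (IrrCharacter (Subgroup.normalizer (D : Set G)))} (hb : IsPBlock M b)
    (hbD : IsDefectGroup p M b (D.subgroupOf (Subgroup.normalizer (D : Set G)))) :
    ∃ B : Set (IrrCharacter G), IsPBlock M B ∧ IsDefectGroup p M B D ∧
      IsInducedBlock M (Subgroup.normalizer (D : Set G)) b B := by
  classical
  have := isPrime hM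
  obtain ⟨B, hind⟩ := inducedBlockDefined hM hD Subgroup.le_normalizer
    (centralizer_le_normalizer' D) le_rfl hb
  refine ⟨B, hind.2.1, ?_, hind⟩
  obtain ⟨ξ, hξ⟩ := isPBlock_nonempty hb
  obtain ⟨χ, hχ⟩ := isPBlock_nonempty hind.2.1
  obtain ⟨c, hc, hS⟩ := isDefectGroup_iff.mp hbD
  have hS' := isSylowCent_of_normalizer hD hS
  have hu : ¬ MemLocalIdeal M (centralChar (χ : G → ℂ) (c : G)) := fun h0 =>
    hc.2.2 ξ hξ (by simpa using memLocalIdeal_add (centralChar_sub_of_induced hM hD hind hξ hχ hS') h0)
  obtain ⟨E, hE, hle⟩ := exists_defectGroup_ge hM hind hbD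
  rw [Subgroup.map_subgroupOf_eq_of_le Subgroup.le_normalizer] at hle
  have hsub := defectGroup_subConj_of_centralChar hM hind.2.1 hE hχ hS' hu
  rwa [Subgroup.eq_of_le_of_card_ge hle (Nat.le_of_dvd Nat.card_pos hsub.card_dvd)]

/-- Every block with defect group `D` is induced from the normalizer of `D`. -/
theorem exists_inducing_normalizer (hM : IsPModular p M) (hD : IsPGroup p D)
    {B : Set (IrrCharacter G)} (hB : IsPBlock M B) (hBD : IsDefectGroup p M B D) :
    ∃ b : Set (IrrCharacter (Subgroup.normalizer (D : Set G))), IsPBlock M b ∧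
      IsDefectGroup p M b (D.subgroupOf (Subgroup.normalizer (D : Set G))) ∧ IsInducedBlock M (Subgroup.normalizer (D : Set G)) b B := by
  classical
  have := isPrime hM
  haveI := Fintype.ofFinite (Subgroup.normalizer (D : Set G))
  obtain ⟨g, hg, hS⟩ := isDefectGroup_iff.mp hBD
  have hCN := centralizer_le_normalizer' D
  have hgN : g ∈ (Subgroup.normalizer (D : Set G)) := hCN hS.mem_centralizer
  set e := blockCoeff B with he
  set e' := brRes D (Subgroup.normalizer (D : Set G)) e with he'
  have heI : IsIntClassFun M e := isIntClassFun_blockCoeff hM hB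
  have heI' : IsIntClassFun M e' := isIntClassFun_brRes le_rfl heI
  obtain ⟨η, hη⟩ : ∃ η : IrrCharacter (Subgroup.normalizer (D : Set G)),
      ¬ MemLocalIdeal M (omega (η : (Subgroup.normalizer (D : Set G)) → ℂ) e') := by
    by_contra hno
    push Not at hno
    have hpow : ∀ n : ℕ, ∃ q, IsIntClassFun M q ∧ (∀ x, MemLocalIdeal M (q x - e' x)) ∧
        ∀ η : IrrCharacter (Subgroup.normalizer (D : Set G)),
          omega (η : (Subgroup.normalizer (D : Set G)) → ℂ) q = omega (η : (Subgroup.normalizer (D : Set G)) → ℂ) e' ^ (n + 1) := by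
      intro n
      induction n with
      | zero => exact ⟨e', heI', fun x => by rw [sub_self]; exact memLocalIdeal_zero, fun η => by simp⟩
      | succ n ih =>
        obtain ⟨q, hq, hqe, hqv⟩ := ih
        refine ⟨conv q e', isIntClassFun_conv hq heI', fun x => ?_, fun η => ?_⟩
        · have h1 : MemLocalIdeal M (conv q e' x - conv e' e' x) := by
            rw [conv_apply, conv_apply, ← Finset.sum_sub_distrib]
            exact memLocalIdeal_sum fun y _ => by
              rw [← sub_mul]; exact memLocalIdeal_mul_right (hqe y) (heI'.2 _)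
          have h2 := conv_brRes_sub hM hD hCN le_rfl heI heI x
          rw [he, conv_blockCoeff_self] at h2
          have := memLocalIdeal_sub h1 h2
          rw [← he'] at this
          convert this using 1
          ring
        · rw [omega_conv η hq.1 heI'.1, hqv, pow_succ (n := n + 1)]
    obtain ⟨n, d, hdc, hdm, hdv⟩ := exists_small_pow (G := (Subgroup.normalizer (D : Set G)))
      (v := fun η => omega (η : (Subgroup.normalizer (D : Set G)) → ℂ) e') ⟨e', heI', fun _ => rfl⟩ hno
    obtain ⟨q, hq, hqe, hqv⟩ := hpow n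
    have hqd : q = d := eq_of_omega_eq hq.1 hdc fun η => by rw [hqv, hdv]
    have h3 := memLocalIdeal_sub (hdm ⟨g, hgN⟩) (hqe ⟨g, hgN⟩)
    rw [← hqd, sub_sub_cancel, he', brRes_of_mem _ hS.mem_centralizer] at h3
    exact hg.2.1 h3
  have hb : IsPBlock M (blockOf M (η : (Subgroup.normalizer (D : Set G)) → ℂ)) := isPBlock_blockOf η
  refine ⟨_, hb, ?_⟩
  obtain ⟨B', hind⟩ := inducedBlockDefined hM hD Subgroup.le_normalizer hCN le_rfl hb
  obtain ⟨χ, hχ⟩ := isPBlock_nonempty hind.2.1
  have hχB : χ ∈ B := by
    by_contra hn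
    have h1 := omega_induced hM hind (mem_blockOf_self η) hχ heI
    have h2 := omega_res_sub_brRes hM hD Subgroup.le_normalizer le_rfl η heI
    rw [omega_blockCoeff, Set.indicator_of_notMem hn, sub_zero] at h1
    exact hη (by simpa [he'] using memLocalIdeal_sub h1 h2)
  obtain rfl := isPBlock_eq_of_mem hind.2.1 hB hχ hχB
  refine ⟨?_, hind⟩
  obtain ⟨E', hE'⟩ := exists_isDefectGroup hM hb
  haveI : (D.subgroupOf (Subgroup.normalizer (D : Set G))).Normal := Subgroup.normal_in_normalizer
  have hDE := le_defectGroup (D.subgroupOf (Subgroup.normalizer (D : Set G))) hM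
    (hD.of_equiv (Subgroup.subgroupOfEquivOfLe Subgroup.le_normalizer).symm) hb hE'
  obtain ⟨E, hE, hle⟩ := exists_defectGroup_ge hM hind hE'
  obtain ⟨x, hx⟩ := isConj_defectGroup hM hB hBD hE
  have h4 : Nat.card E = Nat.card D := by rw [← hx]; exact natCard_map_conj D x
  have h5 : Nat.card E' ≤ Nat.card D := by
    rw [← h4, Nat.card_congr (Subgroup.equivMapOfInjective E' _ (Subgroup.subtype_injective _)).toEquiv]
    exact Subgroup.card_le_of_le hle
  have h6 : D.subgroupOf (Subgroup.normalizer (D : Set G)) = E' := Subgroup.eq_of_le_of_card_ge hDE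
    (h5.trans (Nat.card_congr (Subgroup.subgroupOfEquivOfLe Subgroup.le_normalizer).toEquiv).ge)
  rwa [h6]

/-- Uniqueness in the first main theorem. -/
theorem inducing_normalizer_unique (hM : IsPModular p M) (hD : IsPGroup p D)
    {B : Set (IrrCharacter G)} {b₁ b₂ : Set (IrrCharacter (Subgroup.normalizer (D : Set G)))}
    (h₁ : IsDefectGroup p M b₁ (D.subgroupOf (Subgroup.normalizer (D : Set G))))
    (h₂ : IsDefectGroup p M b₂ (D.subgroupOf (Subgroup.normalizer (D : Set G))))
    (hi₁ : IsInducedBlock M (Subgroup.normalizer (D : Set G)) b₁ B) (hi₂ : IsInducedBlock M (Subgroup.normalizer (D : Set G)) b₂ B) : b₁ = b₂ := by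
  classical
  have := isPrime hM
  haveI := Fintype.ofFinite (Subgroup.normalizer (D : Set G))
  haveI : (D.subgroupOf (Subgroup.normalizer (D : Set G))).Normal := Subgroup.normal_in_normalizer
  obtain ⟨ξ₁, hξ₁⟩ := isPBlock_nonempty hi₁.1
  obtain ⟨ξ₂, hξ₂⟩ := isPBlock_nonempty hi₂.1
  obtain ⟨χ, hχ⟩ := isPBlock_nonempty hi₁.2.1
  obtain ⟨c, hc, hS⟩ := isDefectGroup_iff.mp h₁
  have hcongr : ∀ z : (Subgroup.normalizer (D : Set G)), IsSylowCent p z (D.subgroupOf (Subgroup.normalizer (D : Set G))) →
      MemLocalIdeal M (centralChar (ξ₁ : (Subgroup.normalizer (D : Set G)) → ℂ) z - centralChar (ξ₂ : (Subgroup.normalizer (D : Set G)) → ℂ) z) := by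
    intro z hz
    have hz' := isSylowCent_of_normalizer hD hz
    simpa using memLocalIdeal_sub (centralChar_sub_of_induced hM hD hi₁ hξ₁ hχ hz')
      (centralChar_sub_of_induced hM hD hi₂ hξ₂ hχ hz')
  set a := classInd c with ha
  have haI : IsIntClassFun M a := isIntClassFun_classInd c
  have hprod : ∀ y : (Subgroup.normalizer (D : Set G)), MemLocalIdeal M
      (omega (ξ₁ : (Subgroup.normalizer (D : Set G)) → ℂ) (conv (classInd y) a) -
        omega (ξ₂ : (Subgroup.normalizer (D : Set G)) → ℂ) (conv (classInd y) a)) := by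
    intro y
    haveI : Finite (ConjClasses (Subgroup.normalizer (D : Set G))) := Finite.of_surjective _ ConjClasses.mk_surjective
    haveI := Fintype.ofFinite (ConjClasses (Subgroup.normalizer (D : Set G)))
    have hfI := isIntClassFun_conv (isIntClassFun_classInd (M := M) y) haI
    rw [BlocksDefect.omega_eq_sum_classes ξ₁ hfI.1, BlocksDefect.omega_eq_sum_classes ξ₂ hfI.1,
      ← Finset.sum_sub_distrib]
    refine memLocalIdeal_sum fun C _ => ?_
    rw [← mul_sub]
    generalize Quotient.out C = z
    by_cases hu : MemLocalIdeal M (conv (classInd y) a z)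
    · exact memLocalIdeal_mul_right hu ((localRing M).sub_mem
        (centralChar_memLocalRing ξ₁ z) (centralChar_memLocalRing ξ₂ z))
    · refine memLocalIdeal_mul_left (hfI.2 z) ?_
      obtain ⟨Q, hQ⟩ := exists_isSylowCent p z
      by_cases hz₁₂ : MemLocalIdeal M (centralChar (ξ₁ : (Subgroup.normalizer (D : Set G)) → ℂ) z) ∧
          MemLocalIdeal M (centralChar (ξ₂ : (Subgroup.normalizer (D : Set G)) → ℂ) z)
      · exact memLocalIdeal_sub hz₁₂.1 hz₁₂.2
      have hDQ : SubConj (D.subgroupOf (Subgroup.normalizer (D : Set G))) Q := by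
        rcases not_and_or.mp hz₁₂ with h | h
        · exact defectGroup_subConj_of_centralChar hM hi₁.1 h₁ hξ₁ hQ h
        · exact defectGroup_subConj_of_centralChar hM hi₂.1 h₂ hξ₂ hQ h
      have hDQ' : D.subgroupOf (Subgroup.normalizer (D : Set G)) ≤ Q := by
        obtain ⟨x, hx⟩ := hDQ
        refine le_trans (fun u hu => ?_) hx
        rw [map_conj_mem_iff]
        simpa using (inferInstance : (D.subgroupOf (Subgroup.normalizer (D : Set G))).Normal).conj_mem u hu x⁻¹
      rw [conv_apply] at hu
      obtain ⟨w, hwQ, hw⟩ := exists_mem_centralizer_of_convSum hM hQ.isPGroup (classInd y) a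
        (fun u _ t => isClassFunction_classInd y t u) (fun u _ t => haI.1 t u)
        (isIntClassFun_classInd y).2 haI.2 hQ.mem_centralizer hu
      have hconj : IsConj c (w⁻¹ * z) := by
        by_contra hn
        exact hw.2 (by rw [ha, classInd_apply_of_not_isConj hn]; exact memLocalIdeal_zero)
      have hQD := hS.subConj_of_isConj hQ.isPGroup hconj
        (mul_mem (inv_mem hwQ) hQ.mem_centralizer)
      rw [← Subgroup.eq_of_le_of_card_ge hDQ' (Nat.le_of_dvd Nat.card_pos hQD.card_dvd)] at hQ
      exact hcongr z hQ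
  have hsame : SameBlock M (ξ₁ : (Subgroup.normalizer (D : Set G)) → ℂ) (ξ₂ : (Subgroup.normalizer (D : Set G)) → ℂ) := by
    intro y
    have h1 := hprod y
    rw [omega_conv ξ₁ (isClassFunction_classInd y) haI.1, omega_classInd (irr_class ξ₁),
      omega_conv ξ₂ (isClassFunction_classInd y) haI.1, omega_classInd (irr_class ξ₂),
      ha, omega_classInd (irr_class ξ₁), omega_classInd (irr_class ξ₂)] at h1
    have h2 := memLocalIdeal_mul_left (centralChar_memLocalRing ξ₂ y) (hcongr c hS)
    have h3 := memLocalIdeal_sub h1 h2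
    have h4 : MemLocalIdeal M ((centralChar (ξ₁ : (Subgroup.normalizer (D : Set G)) → ℂ) y - centralChar (ξ₂ : (Subgroup.normalizer (D : Set G)) → ℂ) y) *
        centralChar (ξ₁ : (Subgroup.normalizer (D : Set G)) → ℂ) c) := by
      convert h3 using 1; ring
    exact (memLocalIdeal_mem_or_mem ((localRing M).sub_mem (centralChar_memLocalRing ξ₁ y)
      (centralChar_memLocalRing ξ₂ y)) (centralChar_memLocalRing ξ₁ c) h4).resolve_right
        (hc.2.2 ξ₁ hξ₁)
  rw [isPBlock_eq_blockOf hi₁.1 hξ₁, isPBlock_eq_blockOf hi₂.1 hξ₂]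
  exact blockOf_eq_of_sameBlock hsame

end Cfsg.Agent.BlocksCore
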