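import Cfsg.Agent.Lib.BlocksCore.WeakOrth
import Cfsg.Agent.Lib.BlocksCore.DefectZero
import Cfsg.Agent.Lib.BlocksDefect.Pairing
import Cfsg.Agent.Lib.CharClifford.Eigen

/-!
# Height zero characters on defect classes
-/

set_option linter.unusedSectionVars false

namespace Cfsg.Agent.BlocksCore

open BlocksDefect

variable {G : Type*} [Group G] [Fintype G] {p : ℕ} [Fact p.Prime] {M : Ideal AlgInt}

/-- Multiplying a `p`-regular element by a commuting `p`-element changes a character value only
modulo the local ideal. -/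
theorem char_mul_sub_memLocalIdeal (hM : IsPModular p M) (χ : IrrCharacter G) {x y : G}
    (hxy : Commute x y) {k : ℕ} (hx : orderOf x = p ^ k) (hy : ¬ p ∣ orderOf y) :
    MemLocalIdeal M ((χ : G → ℂ) (x * y) - (χ : G → ℂ) y) := by
  have := isPrime hM
  obtain ⟨f, n, ρ, -, rfl⟩ := χ
  have hcop : (p ^ k).Coprime (orderOf y) :=
    Nat.Coprime.pow_left _ (hM.1.coprime_iff_not_dvd.mpr hy)
  obtain ⟨e, he1, he2⟩ := Nat.chineseRemainder hcop 0 1
  have hxe : x ^ e = 1 := by
    rw [← pow_zero x, pow_eq_pow_iff_modEq, hx]; exact he1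
  have hye : y ^ e = y := by
    conv_rhs => rw [← pow_one y]
    rw [pow_eq_pow_iff_modEq]; exact he2
  set N := p ^ k * orderOf y with hN
  have hN0 : N ≠ 0 := Nat.mul_ne_zero (pow_ne_zero _ hM.1.ne_zero) (orderOf_pos y).ne'
  have hgN : (x * y) ^ N = 1 := by
    rw [hxy.mul_pow, hN, pow_mul, ← hx, pow_orderOf_eq_one, one_pow, one_mul, mul_comm, pow_mul,
      pow_orderOf_eq_one, one_pow]
  obtain ⟨b, μ, hμ, -, h⟩ := CharClifford.exists_eigenvalues ρ (x * y) hN0 hgN
  have h1 := h 1
  have h2 := h e
  rw [pow_one] at h1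
  rw [hxy.mul_pow, hxe, hye, one_mul] at h2
  show MemLocalIdeal M (ρ.character (x * y) - ρ.character y)
  rw [h1, h2, ← Finset.sum_sub_distrib]
  refine memLocalIdeal_sum fun i _ => ?_
  have hμint : MemLocalRing M (μ i) := memLocalRing_of_isIntegral
    (IsIntegral.of_pow (n := N) (Nat.pos_of_ne_zero hN0) (by rw [hμ]; exact isIntegral_one))
  rcases Nat.eq_zero_or_pos e with rfl | hpos
  · have hy1 : orderOf y = 1 := Nat.dvd_one.mp ((Nat.modEq_iff_dvd' zero_le_one).mp he2)
    rw [pow_one, pow_zero]
    exact memLocalIdeal_sub_one_of_pow hM (k := k) (by rw [← hμ i, hN, hy1, mul_one])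
  · obtain ⟨q, hq⟩ := (Nat.modEq_iff_dvd' hpos).mp he2.symm
    have hsplit : μ i ^ 1 - μ i ^ e = -(μ i * (μ i ^ (orderOf y * q) - 1)) := by
      rw [← hq, mul_sub, mul_one, ← pow_succ', Nat.sub_add_cancel hpos, pow_one]
      ring
    rw [hsplit]
    refine memLocalIdeal_neg (memLocalIdeal_mul_left hμint
      (memLocalIdeal_sub_one_of_pow hM (k := k) ?_))
    rw [← pow_mul, show orderOf y * q * p ^ k = N * q by rw [hN]; ring, pow_mul, hμ, one_pow]

theorem defectClass_regular (hM : IsPModular p M) {B : Set (IrrCharacter G)} (hB : IsPBlock M B)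
    {y : G} (hy : IsDefectClass M B y) : ¬ p ∣ orderOf y := fun hd => by
  have := isPrime hM
  exact hy.2.1 (by rw [blockCoeff_eq_zero_of_dvd_orderOf hM hB hd]; exact memLocalIdeal_zero)

theorem defectClass_factorization (hM : IsPModular p M) {B : Set (IrrCharacter G)}
    (hB : IsPBlock M B) {y : G} (hy : IsDefectClass M B y) :
    (Nat.card (Subgroup.centralizer ({y} : Set G))).factorization p = blockDefect p B := by
  obtain ⟨D, hD⟩ := exists_isSylowCent p y
  have h1 := defectGroup_natCard hM hB (isDefectGroup_iff.mpr ⟨y, hy, hD⟩)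
  rw [hD.natCard] at h1
  exact Nat.pow_right_injective hM.1.two_le h1

theorem height_zero_degree {B : Set (IrrCharacter G)} {χ : IrrCharacter G}
    (hχ : χ ∈ B) (h0 : blockHeight p B (χ : G → ℂ) = 0) :
    (charDegree (χ : G → ℂ)).factorization p = (Nat.card G).factorization p - blockDefect p B := by
  have hle : sInf ((fun ψ : IrrCharacter G => (charDegree (ψ : G → ℂ)).factorization p) '' B) ≤
      (charDegree (χ : G → ℂ)).factorization p := Nat.sInf_le ⟨χ, hχ, rfl⟩
  have hle2 : (charDegree (χ : G → ℂ)).factorization p ≤ (Nat.card G).factorization p :=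
    (Nat.factorization_le_iff_dvd (charDegree_pos χ).ne' Nat.card_pos.ne').mpr
      (charDegree_dvd_card χ) p
  unfold blockHeight at h0
  unfold blockDefect
  omega

/-- A height zero character is a unit at a defect class times a `p`-element centralising it. -/
theorem height_zero_apply_unit (hM : IsPModular p M) {B : Set (IrrCharacter G)}
    (hB : IsPBlock M B) {y : G} (hy : IsDefectClass M B y) {x : G} (hxy : Commute x y) {k : ℕ}
    (hx : orderOf x = p ^ k) {χ : IrrCharacter G} (hχ : χ ∈ B)
    (h0 : blockHeight p B (χ : G → ℂ) = 0) :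
    ¬ MemLocalIdeal M ((χ : G → ℂ) (x * y)) := by
  have := isPrime hM
  intro hbad
  have h1 := factorization_of_mul_eq hM (charDegree_pos χ).ne'
    (Subgroup.index_ne_zero_of_finite (H := Subgroup.centralizer ({y} : Set G)))
    (centralChar_memLocalRing χ y) (hy.2.2 χ hχ) (memLocalRing_of_isIntegral (isIntegral_irr χ y))
    (apply_one_mul_centralChar χ y)
  refine h1.2 ?_ ?_
  · rw [index_factorization, defectClass_factorization hM hB hy, height_zero_degree hχ h0]
  · have h2 := memLocalIdeal_sub hbad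
      (char_mul_sub_memLocalIdeal hM χ hxy hx (defectClass_regular hM hB hy))
    rwa [sub_sub_cancel] at h2

end Cfsg.Agent.BlocksCore
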