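import Cfsg.Agent.Lib.BlocksCore.Knorr
import Cfsg.Agent.Lib.BlocksCore.Height
import Cfsg.Agent.Lib.BlocksCore.DefectZero
import Cfsg.Agent.Lib.BlocksDefect.PrincipalSection
import Cfsg.Agent.Lib.SmallGroups.SelfCent.Structure

/-!
# The principal block for a Sylow subgroup of prime order

With `C(z) = ⟨z⟩ × K`, the averages over the cosets `z ^ k * K` are the values at `z ^ k` for
the members of the principal block and vanish outside it.
-/

set_option linter.unusedSectionVars false

namespace Cfsg.Agent.BlocksCore.CyclicBlock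

open BlocksDefect SmallGroups.SelfCent

variable {G : Type*} [Group G] [Fintype G] {p : ℕ} [Fact p.Prime] {M : Ideal AlgInt}
  (s : Setup G p)

theorem orderOf_zp {k : ZMod p} (hk : k ≠ 0) : orderOf (s.zp k) = p := by
  refine orderOf_eq_prime ?_ fun h => hk ((s.zp_eq_one_iff k).mp h)
  rw [s.zp_pow, ZMod.natCast_self, mul_zero, s.zp_zero]

variable (hM : IsPModular p M) {k : ZMod p} (hk : k ≠ 0)

include hk in
theorem normal_K :
    (s.K.subgroupOf (Subgroup.centralizer ({s.zp k} : Set G))).Normal := by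
  refine ⟨fun w hw c => Subgroup.mem_subgroupOf.mpr ?_⟩
  push_cast
  exact s.conj_mem_K hk (mul_inv_eq_iff_eq_mul.mpr (Subgroup.mem_centralizer_singleton_iff.mp c.2))
    (Subgroup.mem_subgroupOf.mp hw)

include hk in
theorem K_le : s.K ≤ Subgroup.centralizer ({s.zp k} : Set G) := fun _ hw =>
  Subgroup.mem_centralizer_singleton_iff.mpr (s.comm_zp k hw).eq.symm

include hM hk

theorem not_dvd_card_K :
    ¬ p ∣ Nat.card (s.K.subgroupOf (Subgroup.centralizer ({s.zp k} : Set G))) := by
  rw [Nat.card_congr (Subgroup.subgroupOfEquivOfLe (K_le s hk)).toEquiv]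
  exact s.not_dvd

/-- The principal block of the centralizer consists of the characters trivial on `K`. -/
theorem mem_principal_iff [Fintype (Subgroup.centralizer ({s.zp k} : Set G))]
    (η : IrrCharacter (Subgroup.centralizer ({s.zp k} : Set G))) :
    η ∈ principalBlock M (Subgroup.centralizer ({s.zp k} : Set G)) ↔
      ∀ w ∈ s.K.subgroupOf (Subgroup.centralizer ({s.zp k} : Set G)),
        (η : Subgroup.centralizer ({s.zp k} : Set G) → ℂ) w =
          (η : Subgroup.centralizer ({s.zp k} : Set G) → ℂ) 1 := by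
  have := isPrime hM
  have := normal_K s hk
  constructor
  · intro h
    exact kernel_of_sameBlock hM (χ := oneIrr (Subgroup.centralizer ({s.zp k} : Set G))) (ψ := η) h _ (not_dvd_card_K s hM hk)
      fun _ _ => rfl
  · intro h
    show SameBlock M (oneIrr (Subgroup.centralizer ({s.zp k} : Set G)) : (Subgroup.centralizer ({s.zp k} : Set G)) → ℂ) (η : (Subgroup.centralizer ({s.zp k} : Set G)) → ℂ)
    refine sameBlock_symm fun c => ?_
    obtain ⟨a, w, hw, hcw⟩ := s.exists_of_mem_cent (x := (c : G))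
      (s.centralizer_zp hk ▸ c.2)
    have haC : s.zp a ∈ (Subgroup.centralizer ({s.zp k} : Set G)) :=
      Subgroup.mem_centralizer_singleton_iff.mpr (by rw [← s.zp_add, ← s.zp_add, add_comm])
    obtain ⟨f, n, ρ, hρ, hρf⟩ := η
    subst hρf
    obtain ⟨l, hl⟩ := CharClifford.exists_scalar_of_commute ρ (ρ ⟨s.zp a, haC⟩) (fun g => by
      show ρ _ * ρ g = ρ g * ρ _
      rw [← map_mul, ← map_mul]
      congr 1
      refine Subtype.ext ?_
      obtain ⟨b, v, hv, hg⟩ := s.exists_of_mem_cent (x := (g : G)) (s.centralizer_zp hk ▸ g.2)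
      show s.zp a * (g : G) = (g : G) * s.zp a
      rw [hg, ← mul_assoc, ← s.zp_add, add_comm, s.zp_add, mul_assoc, (s.comm_zp a hv).eq,
        mul_assoc])
    have h1 : ρ.character 1 ≠ 0 := irr_one_ne_zero ⟨_, n, ρ, hρ, rfl⟩
    have hl1 : l ^ p = 1 := by
      have e : ρ (⟨s.zp a, haC⟩ ^ p) = ρ 1 := congrArg ρ (Subtype.ext (by
        show s.zp a ^ p = 1
        rw [s.zp_pow, ZMod.natCast_self, mul_zero, s.zp_zero]))
      rw [map_pow, hl, smul_pow, one_pow, map_one] at e
      have e2 := congrArg (LinearMap.trace ℂ (Fin n → ℂ)) e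
      rw [map_smul, smul_eq_mul] at e2
      refine mul_right_cancel₀ (b := ρ.character 1) h1 ?_
      rw [one_mul, Representation.character, map_one]
      exact e2
    have hval : ρ.character c = l * ρ.character 1 := by
      have e : c = ⟨s.zp a, haC⟩ * ⟨w, K_le s hk hw⟩ := Subtype.ext hcw
      have h2 : ρ.character ⟨w, K_le s hk hw⟩ = ρ.character 1 :=
        h ⟨w, K_le s hk hw⟩ (Subgroup.mem_subgroupOf.mpr hw)
      rw [e, ← h2]
      simp only [Representation.character, map_mul, hl, smul_mul_assoc, one_mul, map_smul,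
        smul_eq_mul]
    show MemLocalIdeal M (centralChar ρ.character c - centralChar (oneIrr (Subgroup.centralizer ({s.zp k} : Set G)) : (Subgroup.centralizer ({s.zp k} : Set G)) → ℂ) c)
    rw [centralChar, centralChar, hval, coe_oneIrr]
    rw [show ((Subgroup.centralizer ({c} : Set (Subgroup.centralizer ({s.zp k} : Set G)))).index : ℂ) * (l * ρ.character 1) /
        ρ.character 1 - ((Subgroup.centralizer ({c} : Set (Subgroup.centralizer ({s.zp k} : Set G)))).index : ℂ) * 1 / 1 =
        ((Subgroup.centralizer ({c} : Set (Subgroup.centralizer ({s.zp k} : Set G)))).index : ℂ) * (l - 1) by field_simp]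
    exact memLocalIdeal_mul_left (memLocalRing_natCast _)
      (memLocalIdeal_sub_one_of_pow hM (k := 1) (by rwa [pow_one]))

theorem blockCoeff_principal [Fintype (Subgroup.centralizer ({s.zp k} : Set G))] :
    blockCoeff (principalBlock M (Subgroup.centralizer ({s.zp k} : Set G))) =
      subInd (s.K.subgroupOf (Subgroup.centralizer ({s.zp k} : Set G))) := by
  have := normal_K s hk
  refine eq_of_omega_eq (isClassFunction_blockCoeff _) (isClassFunction_subInd _) fun η => ?_
  rw [omega_blockCoeff]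
  by_cases hη : η ∈ principalBlock M (Subgroup.centralizer ({s.zp k} : Set G))
  · rw [Set.indicator_of_mem hη, Pi.one_apply,
      (omega_subInd_eq_one_iff η _).mpr ((mem_principal_iff s hM hk η).mp hη)]
  · rw [Set.indicator_of_notMem hη]
    rcases omega_subInd_zero_or_one η (s.K.subgroupOf (Subgroup.centralizer ({s.zp k} : Set G)))
      with h | h
    · rw [h]
    · exact absurd ((mem_principal_iff s hM hk η).mpr ((omega_subInd_eq_one_iff η _).mp h)) hη

theorem phi_eq_sum [Fintype (Subgroup.centralizer ({s.zp k} : Set G))] (χ : IrrCharacter G) :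
    ∑ c : Subgroup.centralizer ({s.zp k} : Set G),
      blockCoeff (principalBlock M (Subgroup.centralizer ({s.zp k} : Set G))) c *
        (χ : G → ℂ) ((c : G) * (s.zp k *
          ((1 : Subgroup.centralizer ({s.zp k} : Set G)) : G))) =
      s.phi (χ : G → ℂ) k := by
  classical
  rw [blockCoeff_principal s hM hk, sum_subInd_mul, Setup.phi, s.card_kset,
    Nat.card_congr (Subgroup.subgroupOfEquivOfLe (K_le s hk)).toEquiv,
    Finset.sum_subtype s.kset (fun w => s.mem_kset) (fun w => (χ : G → ℂ) (s.zp k * w))]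
  congr 1
  refine Fintype.sum_equiv (Subgroup.subgroupOfEquivOfLe (K_le s hk)).toEquiv _ _ fun w => ?_
  rw [OneMemClass.coe_one, mul_one]
  show (χ : G → ℂ) ((w.1 : G) * s.zp k) = (χ : G → ℂ) (s.zp k * (w.1 : G))
  rw [(s.comm_zp k (Subgroup.mem_subgroupOf.mp w.2)).eq]

/-- Inside the principal block the averages are the values. -/
theorem phi_of_mem {χ : IrrCharacter G} (hχ : χ ∈ principalBlock M G) :
    s.phi (χ : G → ℂ) k = (χ : G → ℂ) (s.zp k) := by
  classical
  have := Fintype.ofFinite (Subgroup.centralizer ({s.zp k} : Set G))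
  have := principal_apply_section hM (k := 1) (by rw [pow_one]; exact orderOf_zp s hk) hχ
    (1 : Subgroup.centralizer ({s.zp k} : Set G))
    (by rw [orderOf_one]; exact (Fact.out : p.Prime).not_dvd_one)
  rw [phi_eq_sum s hM hk] at this
  rw [this, OneMemClass.coe_one, mul_one]

/-- Outside the principal block the averages vanish. -/
theorem phi_of_notMem {χ : IrrCharacter G} (hχ : χ ∉ principalBlock M G) :
    s.phi (χ : G → ℂ) k = 0 := by
  classical
  have := isPrime hM
  have := Fintype.ofFinite (Subgroup.centralizer ({s.zp k} : Set G))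
  have := sum_blockCoeff_section_eq_zero hM (k := 1) (by rw [pow_one]; exact orderOf_zp s hk)
    (isPBlock_principal (G := Subgroup.centralizer ({s.zp k} : Set G)))
    (fun hc => hχ (eq_principal_of_inducing hM hc ▸ mem_blockOf_self χ))
    (1 : Subgroup.centralizer ({s.zp k} : Set G))
    (by rw [orderOf_one]; exact (Fact.out : p.Prime).not_dvd_one)
  rwa [phi_eq_sum s hM hk] at this

omit hk

theorem vec_of_notMem {χ : IrrCharacter G} (hχ : χ ∉ principalBlock M G) (r : ZMod p) :
    s.vec χ r = 0 := by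
  apply Int.cast_injective (α := ℂ)
  rw [s.vec_spec, Setup.vecC, Int.cast_zero, Finset.sum_eq_zero, mul_zero]
  intro k _
  by_cases hk : k = 0
  · simp [hk]
  · rw [phi_of_notMem s hM hk hχ, zero_mul]

variable (hidx : ¬ p ∣ (Subgroup.zpowers s.z).index)

include hidx

/-- No member of the principal block has all multiplicities equal. -/
theorem exists_vecO_ne_zero {χ : IrrCharacter G} (hχ : χ ∈ principalBlock M G) :
    ∃ o : s.Orb, s.vecO χ o ≠ 0 := by
  classical
  have := isPrime hM
  have hp : p.Prime := Fact.out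
  by_contra hno
  push Not at hno
  have hcard : Nat.card (Subgroup.zpowers s.z) = p := by rw [Nat.card_zpowers, s.orderOf_z]
  have hvan : ∀ g : G, orderOf g = p → (χ : G → ℂ) g = 0 := by
    intro g hg
    haveI : Fact p.Prime := ⟨hp⟩
    let S : Sylow p G := (IsPGroup.of_card (n := 1) (by rw [hcard, pow_one]) :
      IsPGroup p (Subgroup.zpowers s.z)).toSylow hidx
    obtain ⟨T, hT⟩ := (IsPGroup.of_card (n := 1) (by rw [Nat.card_zpowers, hg, pow_one]) :
      IsPGroup p (Subgroup.zpowers g)).exists_le_sylow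
    obtain ⟨c, hc⟩ := MulAction.exists_smul_eq G T S
    have hmem : c * g * c⁻¹ ∈ Subgroup.zpowers s.z := by
      show c * g * c⁻¹ ∈ (S : Subgroup G)
      rw [← hc]
      exact ⟨g, hT (Subgroup.mem_zpowers g), rfl⟩
    obtain ⟨j, hj : s.z ^ j = c * g * c⁻¹⟩ :=
      ((isOfFinOrder_of_finite s.z).mem_powers_iff_mem_zpowers).mpr hmem
    have hj0 : (j : ZMod p) ≠ 0 := fun h0 => by
      have h1 : c * g * c⁻¹ = 1 := by
        rw [← hj, ← s.zp_natCast, h0, s.zp_zero]
      rw [conj_eq_one_iff] at h1
      rw [h1, orderOf_one] at hg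
      exact hp.ne_one hg.symm
    rw [← irr_class χ g c, ← hj]
    show (χ : G → ℂ) (s.z ^ j) = 0
    rw [← s.zp_natCast, ← phi_of_mem s hM hj0 hχ, s.phi_of_const χ 0 hno hj0, Int.cast_zero,
      neg_zero]
  have h1 : blockOf M (χ : G → ℂ) = {χ} := by
    refine blockOf_eq_singleton_of_not_dvd hM χ ?_
    have hd := factorization_charDegree_of_vanishes χ hvan
    intro hdvd
    have h2 := (hp.dvd_iff_one_le_factorization (Nat.div_pos (Nat.le_of_dvd Nat.card_pos
      (charDegree_dvd_card χ)) (charDegree_pos χ)).ne').mp hdvd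
    rw [Nat.factorization_div (charDegree_dvd_card χ), Finsupp.tsub_apply, hd] at h2
    omega
  have h2 : oneIrr G = χ := by
    have hmem : oneIrr G ∈ blockOf M (χ : G → ℂ) := by
      rw [← isPBlock_eq_blockOf isPBlock_principal hχ]
      exact oneIrr_mem
    rw [h1] at hmem
    exact hmem
  subst h2
  have h3 := hvan s.z s.orderOf_z
  rw [coe_oneIrr] at h3
  exact one_ne_zero h3

omit hidx

/-- The degree is determined modulo `p` by the vector. -/
theorem charDegree_modEq {χ : IrrCharacter G} (hχ : χ ∈ principalBlock M G) [Fintype s.Orb] :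
    (charDegree (χ : G → ℂ) : ℤ) ≡ (Nat.card s.auto : ℤ) * ∑ o, s.vecO χ o [ZMOD p] := by
  classical
  have := isPrime hM
  have hp : p.Prime := Fact.out
  obtain ⟨n, hn, -, hmod⟩ := s.exists_fix χ
  refine Int.ModEq.trans ?_ hmod
  obtain ⟨m, hm⟩ := s.mult_eq_natCast (CharCore.irr_isCharacter χ) 0
  have hsum : ∑ k ∈ Finset.univ.erase (0 : ZMod p), s.phi (χ : G → ℂ) k + (n : ℂ) =
      (p : ℂ) * (m : ℂ) := by
    rw [← hn, ← hm, Setup.mult, ← mul_assoc, mul_inv_cancel₀ (Nat.cast_ne_zero.mpr hp.ne_zero),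
      one_mul, Finset.sum_erase_add _ _ (Finset.mem_univ _)]
    exact Finset.sum_congr rfl fun k _ => by simp
  have hpI : MemLocalIdeal M (p : ℂ) := (memLocalIdeal_natCast_iff hM p).mpr dvd_rfl
  rw [Int.modEq_iff_dvd, ← memLocalIdeal_intCast_iff hM]
  have hval : ∀ k ∈ Finset.univ.erase (0 : ZMod p),
      MemLocalIdeal M (s.phi (χ : G → ℂ) k - (χ : G → ℂ) 1) := fun k hk => by
    have hk' := Finset.ne_of_mem_erase hk
    have h := char_mul_sub_memLocalIdeal hM χ (x := s.zp k) (y := 1) (Commute.one_right _) (k := 1)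
      (by rw [pow_one]; exact orderOf_zp s hk') (by rw [orderOf_one]; exact hp.not_dvd_one)
    rwa [mul_one, ← phi_of_mem s hM hk' hχ] at h
  have key : (((n : ℤ) - (charDegree (χ : G → ℂ) : ℤ) : ℤ) : ℂ) =
      (p : ℂ) * (m : ℂ) - (p : ℂ) * (χ : G → ℂ) 1 -
        ∑ k ∈ Finset.univ.erase (0 : ZMod p), (s.phi (χ : G → ℂ) k - (χ : G → ℂ) 1) := by
    rw [← hsum, Finset.sum_sub_distrib, Finset.sum_const, Finset.card_erase_of_mem
      (Finset.mem_univ _), Finset.card_univ, ZMod.card, nsmul_eq_mul, Nat.cast_sub hp.one_le,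
      irr_one_eq]
    push_cast
    ring
  rw [key]
  exact memLocalIdeal_sub (memLocalIdeal_sub (memLocalIdeal_mul_right hpI (memLocalRing_natCast _))
    (memLocalIdeal_mul_right hpI (by rw [irr_one_eq]; exact memLocalRing_natCast _)))
    (memLocalIdeal_sum fun k => hval k)

end Cfsg.Agent.BlocksCore.CyclicBlock
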