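import Cfsg.Agent.Lib.BlocksCore.StableSimple
import Cfsg.Agent.Lib.BlocksCore.CyclicBlock
import Cfsg.Agent.Lib.BlocksDefect.Lifting
import Cfsg.Agent.Lib.BlocksDefect.Kulshammer
import Mathlib.RingTheory.IntegralDomain
import Mathlib.LinearAlgebra.Trace

/-!
# A lower bound for the number of characters in the principal block

For a Sylow subgroup of prime order the reductions of the members of the principal block span
at least `e` functions, and the multiplicity vectors give `(p - 1) / e` relations.
-/

set_option linter.unusedSectionVars false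

namespace Cfsg.Agent.BlocksCore.CyclicRank

open BlocksDefect SmallGroups.SelfCent StableHom

variable {G : Type*} [Group G] [Fintype G] {p : ℕ} [Fact p.Prime] {K : Type*} [Field K] [CharP K p]

/-- In characteristic `p` traces only depend on the `p`-regular part. -/
theorem trace_eq_regular {V : Type*} [AddCommGroup V] [Module K V] [FiniteDimensional K V]
    (ρ : Representation K G V) {x y : G} (hxy : Commute x y) {k : ℕ} (hx : orderOf x = p ^ k) :
    LinearMap.trace K V (ρ (x * y)) = LinearMap.trace K V (ρ y) := by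
  have hnil : IsNilpotent ((ρ x - 1) * ρ y) := by
    refine Commute.isNilpotent_mul_right ?_ ⟨p ^ k, ?_⟩
    · exact (hxy.map ρ).sub_left (Commute.one_left _)
    · cases subsingleton_or_nontrivial V with
      | inl h => exact Subsingleton.elim _ _
      | inr h =>
        have : CharP (Module.End K V) p :=
          charP_of_injective_algebraMap (FaithfulSMul.algebraMap_injective K _) p
        rw [sub_pow_char_pow_of_commute _ _ (Commute.one_right (ρ x)), ← map_pow, ← hx,
          pow_orderOf_eq_one, map_one, one_pow, sub_self]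
  have h := IsNilpotent.eq_zero (LinearMap.isNilpotent_trace_of_isNilpotent hnil)
  rw [sub_mul, one_mul, map_sub, ← map_mul, sub_eq_zero] at h
  exact h

variable {M : Ideal AlgInt} [M.IsPrime] (ι : Res M →+* K)

/-- Reduction of complex numbers into `K`. -/
noncomputable def R (z : ℂ) : K := ι (red M z)

theorem R_mul {a b : ℂ} (ha : MemLocalRing M a) (hb : MemLocalRing M b) :
    R ι (a * b) = R ι a * R ι b := by rw [R, red_mul ha hb, map_mul, R, R]

theorem R_sum {α : Type*} (t : Finset α) {f : α → ℂ} (hf : ∀ i, MemLocalRing M (f i)) :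
    R ι (∑ i ∈ t, f i) = ∑ i ∈ t, R ι (f i) := by
  rw [R, red_sum t hf, map_sum]
  rfl

theorem R_eq {a b : ℂ} (ha : MemLocalRing M a) (hb : MemLocalRing M b)
    (h : MemLocalIdeal M (a - b)) : R ι a = R ι b := by
  rw [R, R, (red_eq_iff ha hb).mpr h]

theorem R_zero : R ι (0 : ℂ) = 0 := by rw [R, red_eq_zero memLocalIdeal_zero, map_zero]

theorem R_intCast (n : ℤ) : R ι (n : ℂ) = n := by
  rw [R, show (n : ℂ) = ((n : localRing M) : ℂ) by simp, red_coe, map_intCast, map_intCast]

theorem R_one : R ι (1 : ℂ) = 1 := by simpa using R_intCast ι 1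

theorem memLocalRing_irr (θ : IrrCharacter G) (g : G) : MemLocalRing M ((θ : G → ℂ) g) :=
  memLocalRing_of_isIntegral (isIntegral_irr θ g)

variable (hM : IsPModular p M)

include hM

theorem R_irr_regular (θ : IrrCharacter G) {x y : G} (hxy : Commute x y) {k : ℕ}
    (hx : orderOf x = p ^ k) (hy : ¬ p ∣ orderOf y) :
    R ι ((θ : G → ℂ) (x * y)) = R ι ((θ : G → ℂ) y) :=
  R_eq ι (memLocalRing_irr θ _) (memLocalRing_irr θ _) (char_mul_sub_memLocalIdeal hM θ hxy hx hy)

/-- A class function with values in `K` which only depends on the regular part is a combination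
of reduced irreducible characters. -/
theorem exists_expansion [Fintype (IrrCharacter G)] (τ : G → K)
    (hτc : ∀ g h, τ (h * g * h⁻¹) = τ g)
    (hτr : ∀ {x y : G} {k : ℕ}, Commute x y → orderOf x = p ^ k → τ (x * y) = τ y) :
    ∃ A : IrrCharacter G → K, ∀ g, τ g = ∑ θ, A θ * R ι ((θ : G → ℂ) g) := by
  classical
  have : Finite (ConjClasses G) := Quotient.finite _
  have := Fintype.ofFinite (ConjClasses G)
  have hex : ∀ C : ConjClasses G, ∃ c : IrrCharacter G → ℂ, (∀ θ, MemLocalRing M (c θ)) ∧
      ∀ x, ¬ p ∣ orderOf x → classInd (Quotient.out C) x = ∑ θ, c θ * (θ : G → ℂ) x := by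
    intro C
    by_cases hC : p ∣ orderOf (Quotient.out C)
    · refine ⟨0, fun θ => memLocalRing_of_mem (zero_mem _), fun x hx => ?_⟩
      rw [classInd_apply_of_not_isConj]
      · simp
      · intro h
        obtain ⟨z, rfl⟩ := isConj_iff.mp h
        exact hx (by rwa [← MulAut.conj_apply, MulEquiv.orderOf_eq])
    · exact exists_lift_classInd hM hC
  choose c hc hcx using hex
  refine ⟨fun θ => ∑ C : ConjClasses G, τ (Quotient.out C) * R ι (c C θ), fun g => ?_⟩
  obtain ⟨x, y, rfl, hxy, ⟨k, hx⟩, hy⟩ := exists_pPart (p := p) hM.1 g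
  rw [hτr hxy hx, Finset.sum_congr rfl fun θ _ => by rw [R_irr_regular ι hM θ hxy hx hy]]
  have hval : ∀ C : ConjClasses G, R ι (classInd (Quotient.out C) y) =
      ∑ θ, R ι (c C θ) * R ι ((θ : G → ℂ) y) := fun C => by
    rw [hcx C y hy, R_sum ι _ fun θ => (localRing M).mul_mem (hc C θ) (memLocalRing_irr θ y)]
    exact Finset.sum_congr rfl fun θ _ => R_mul ι (hc C θ) (memLocalRing_irr θ y)
  calc τ y = ∑ C : ConjClasses G, τ (Quotient.out C) * R ι (classInd (Quotient.out C) y) := by
        rw [Fintype.sum_eq_single (ConjClasses.mk y)]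
        · have h : IsConj (Quotient.out (ConjClasses.mk y)) y :=
            ConjClasses.mk_eq_mk_iff_isConj.mp (Quotient.out_eq _)
          rw [classInd_apply_of_isConj h, R_one, mul_one]
          obtain ⟨w, hw⟩ := isConj_iff.mp h
          conv_lhs => rw [← hw, hτc]
        · intro C hC
          rw [classInd_apply_of_not_isConj, R_zero, mul_zero]
          intro h
          exact hC ((Quotient.out_eq C).symm.trans (ConjClasses.mk_eq_mk_iff_isConj.mpr h))
    _ = _ := by
      simp only [hval, Finset.mul_sum, Finset.sum_mul, mul_assoc]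
      exact Finset.sum_comm

variable (s : Setup G p) (hidx : ¬ p ∣ (Subgroup.zpowers s.z).index)

include hidx

/-- At least `e + (p - 1) / e` characters lie in the principal block. -/
theorem card_ge (K' : Type*) [Field K'] [IsAlgClosed K'] [CharP K' p] (ι' : Res M →+* K') :
    Nat.card s.auto + Nat.card s.Orb ≤ Nat.card (principalBlock M G) := by
  classical
  have hp : p.Prime := Fact.out
  haveI := Fintype.ofFinite s.Orb
  set P := Subgroup.zpowers s.z with hP
  haveI := Fintype.ofFinite P
  have hs : Setting p P s.z := ⟨rfl, s.orderOf_z, hidx⟩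
  set N := Subgroup.normalizer (P : Set G) with hN
  -- the exponent by which an element of `N` acts
  have hν : ∀ n : N, ∃ a : (ZMod p)ˣ, (n : G) * s.z * (n : G)⁻¹ = s.zp (a : ZMod p) := by
    intro n
    obtain ⟨j, hj : s.z ^ j = (n : G) * s.z * (n : G)⁻¹⟩ :=
      ((isOfFinOrder_of_finite s.z).mem_powers_iff_mem_zpowers).mpr
        ((Subgroup.mem_normalizer_iff.mp n.2 s.z).mp (Subgroup.mem_zpowers s.z))
    have hj0 : (j : ZMod p) ≠ 0 := fun h0 => by
      rw [← s.zp_natCast, h0, s.zp_zero, eq_comm, conj_eq_one_iff] at hj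
      have := s.orderOf_z
      rw [hj, orderOf_one] at this
      exact hp.ne_one this.symm
    exact ⟨Units.mk0 _ hj0, by rw [Units.val_mk0, s.zp_natCast, hj]⟩
  choose ν hνn using hν
  have hνeq : ∀ (n : N) (a : (ZMod p)ˣ), (n : G) * s.z * (n : G)⁻¹ = s.zp (a : ZMod p) →
      ν n = a := fun n a h => Units.ext (s.zp_injective ((hνn n).symm.trans h))
  let νh : N →* (ZMod p)ˣ :=
    { toFun := ν
      map_one' := hνeq 1 1 (by simp [s.zp_one])
      map_mul' := fun a b => hνeq _ _ (by
        have h1 : (a : G) * s.zp (1 : ZMod p) * (a : G)⁻¹ = s.zp (ν a : ZMod p) := by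
          rw [s.zp_one]; exact hνn a
        have h2 := s.conj_zp_mul h1 (ν b : ZMod p)
        rw [one_mul, ← hνn b] at h2
        rw [Units.val_mul, ← h2, Subgroup.coe_mul]
        group) }
  obtain ⟨γ, hγ⟩ := IsCyclic.exists_generator (α := s.auto)
  have hγo : orderOf ((γ : s.auto) : (ZMod p)ˣ) = Nat.card s.auto := by
    rw [Subgroup.orderOf_coe]
    exact orderOf_eq_card_of_forall_mem_zpowers hγ
  obtain ⟨g₀, hg₀⟩ := isConj_iff.mp ((s.mem_auto_iff _).mp γ.2)
  have hg₀N : g₀ ∈ N := by
    have h := hs.mem_normalizer (g := g₀⁻¹) hs.mem (fun h => by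
      have := s.orderOf_z
      rw [h, orderOf_one] at this
      exact hp.ne_one this.symm) (by
      rw [inv_inv, hg₀]
      exact pow_mem (Subgroup.mem_zpowers _) _)
    simpa using inv_mem h
  let cst : ZMod p →+* K' := ZMod.castHom dvd_rfl K'
  let lam : Fin (Nat.card s.auto) → (N →* K') := fun i =>
    (powMonoidHom (i : ℕ)).comp ((cst.toMonoidHom.comp (Units.coeHom (ZMod p))).comp νh)
  have hlamC : ∀ i, ∀ n : N, (n : G) ∈ Subgroup.centralizer (P : Set G) → lam i n = 1 := by
    intro i n hn
    have h1 : ν n = 1 := hνeq n 1 (by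
      rw [Units.val_one, s.zp_one, ← Subgroup.mem_centralizer_iff.mp hn s.z hs.mem,
        mul_inv_cancel_right])
    show cst ((ν n : (ZMod p)ˣ) : ZMod p) ^ (i : ℕ) = 1
    rw [h1, Units.val_one, map_one, one_pow]
  have hlam : ∀ i, ∀ n : N, (n : G) ∈ P → lam i n = 1 := fun i n hn => hlamC i n (by
    rw [Subgroup.mem_centralizer_iff]
    intro v hv
    obtain ⟨a, ha⟩ := hs.exists_pow hn
    obtain ⟨b, hb⟩ := hs.exists_pow (show v ∈ P from hv)
    rw [← ha, ← hb, ← pow_add, ← pow_add, add_comm])
  have hinj : Function.Injective lam := by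
    intro i j h
    have h1 : cst ((ν ⟨g₀, hg₀N⟩ : (ZMod p)ˣ) : ZMod p) ^ (i : ℕ) =
        cst ((ν ⟨g₀, hg₀N⟩ : (ZMod p)ˣ) : ZMod p) ^ (j : ℕ) :=
      DFunLike.congr_fun h ⟨g₀, hg₀N⟩
    rw [hνeq ⟨g₀, hg₀N⟩ _ hg₀, ← map_pow, ← map_pow, cst.injective.eq_iff, ← Units.val_pow_eq_pow_val,
      ← Units.val_pow_eq_pow_val, Units.val_inj, pow_eq_pow_iff_modEq, hγo] at h1
    exact Fin.ext (Nat.ModEq.eq_of_lt_of_lt h1 i.2 j.2)
  choose n ρ f hirr hf hfs using fun i => exists_simple hs (lam i) (hlam i)
  set B := principalBlock M G with hB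
  set ε : G → K' := fun g => R ι' (blockCoeff B g) with hε
  have hεm := isIntClassFun_blockCoeff hM (isPBlock_principal (G := G) (M := M))
  have hεsum : ∑ g, ε g = 1 := by
    rw [hε, ← R_sum ι' _ hεm.2, ← R_one ι']
    congr 1
    have h := omega_blockCoeff B (oneIrr G)
    rw [Set.indicator_of_mem (oneIrr_mem (M := M)), omega_eq_sum, coe_oneIrr] at h
    simpa using h
  have hfix : ∀ i, ∑ g, ε g • ρ i g = 1 := fun i =>
    sum_smul_eq_one hs (ρ i) (hirr i) (hlamC i) (hf i) (hfs i) ε
      (fun g h => by rw [hε]; exact congrArg (R ι') (hεm.1 g h)) hεsum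
  let τ : Fin (Nat.card s.auto) → G → K' := fun i g => LinearMap.trace K' _ (ρ i g)
  have hA : ∀ i, ∃ A : B → K', ∀ g,
      τ i g = ∑ θ : B, A θ * R ι' (((θ : IrrCharacter G) : G → ℂ) g) := by
    intro i
    obtain ⟨A, hA⟩ := exists_expansion ι' hM (τ i)
      (fun g h => by
        show LinearMap.trace K' _ (ρ i (h * g * h⁻¹)) = _
        rw [map_mul, LinearMap.trace_mul_comm, ← map_mul, inv_mul_cancel_left])
      (fun hxy hx => trace_eq_regular (ρ i) hxy hx)
    refine ⟨fun θ => A θ.1, fun x => ?_⟩
    have hproj : ∀ θ : IrrCharacter G, ∑ g, ε g * R ι' ((θ : G → ℂ) (g * x)) =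
        if θ ∈ B then R ι' ((θ : G → ℂ) x) else 0 := by
      intro θ
      rw [Finset.sum_congr rfl fun g _ => (R_mul ι' (hεm.2 g) (memLocalRing_irr θ (g * x))).symm,
        ← R_sum ι' _ fun g => (localRing M).mul_mem (hεm.2 g) (memLocalRing_irr θ (g * x)),
        sum_classFun_mul_translate θ hεm.1, omega_blockCoeff]
      split_ifs with hθ
      · rw [Set.indicator_of_mem hθ, Pi.one_apply, one_mul]
      · rw [Set.indicator_of_notMem hθ, zero_mul, R_zero]
    calc τ i x = LinearMap.trace K' _ ((∑ g, ε g • ρ i g) * ρ i x) := by rw [hfix, one_mul]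
      _ = ∑ g, ε g * τ i (g * x) := by
        rw [Finset.sum_mul, map_sum]
        exact Finset.sum_congr rfl fun g _ => by
          rw [smul_mul_assoc, map_smul, ← map_mul, smul_eq_mul]
      _ = ∑ θ : IrrCharacter G, A θ * (if θ ∈ B then R ι' ((θ : G → ℂ) x) else 0) := by
        simp only [← hproj, hA, Finset.mul_sum]
        rw [Finset.sum_comm]
        exact Finset.sum_congr rfl fun θ _ => Finset.sum_congr rfl fun g _ => mul_left_comm _ _ _
      _ = _ := by
        simp only [mul_ite, mul_zero]
        rw [← Finset.sum_filter]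
        exact Finset.sum_subtype _ (fun θ => by simp) _
  let Φ : (B → K') →ₗ[K'] (G → K') :=
    { toFun := fun c g => ∑ θ : B, c θ * R ι' (((θ : IrrCharacter G) : G → ℂ) g)
      map_add' := fun a b => funext fun g => by simp [add_mul, Finset.sum_add_distrib]
      map_smul' := fun a c => funext fun g => by simp [mul_assoc, Finset.mul_sum] }
  have h1 : Nat.card s.auto ≤ Module.finrank K' (LinearMap.range Φ) := by
    have hli : LinearIndependent K' τ := Fintype.linearIndependent_iff.mpr fun a ha i => by
      refine congrFun (traces_independent hs ρ lam f hirr hlam hinj hf hfs a fun g => ?_) i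
      simpa using congrFun ha g
    have hmem : ∀ i, τ i ∈ LinearMap.range Φ := fun i => by
      obtain ⟨A, hA⟩ := hA i
      exact ⟨A, funext fun g => (hA g).symm⟩
    have := (LinearIndependent.of_comp (LinearMap.range Φ).subtype
      (v := fun i => (⟨τ i, hmem i⟩ : LinearMap.range Φ)) hli).fintype_card_le_finrank
    simpa using this
  have h2 : Nat.card s.Orb ≤ Module.finrank K' (LinearMap.ker Φ) := by
    let w : s.Orb → B → K' := fun o θ => ((s.vecO θ.1 o : ℤ) : K')
    have hall : ∀ F : IrrCharacter G → K', (∀ θ, θ ∉ B → F θ = 0) →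
        ∑ θ : B, F θ.1 = ∑ θ, F θ := fun F hF => by
      rw [← Finset.sum_subtype (Finset.univ.filter (· ∈ B)) (fun θ => by simp) F]
      exact Finset.sum_subset (Finset.subset_univ _) fun θ _ hθ => hF θ (by simpa using hθ)
    have hoff : ∀ o θ, θ ∉ B → ((s.vecO θ o : ℤ) : K') = 0 := fun o θ hθ => by
      rw [Setup.vecO, CyclicBlock.vec_of_notMem s hM hθ, Int.cast_zero]
    have hker : ∀ o, w o ∈ LinearMap.ker Φ := fun o => by
      refine LinearMap.mem_ker.mpr (funext fun g => ?_)
      show ∑ θ : B, ((s.vecO θ.1 o : ℤ) : K') * R ι' (((θ : IrrCharacter G) : G → ℂ) g) = 0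
      rw [hall (fun θ => ((s.vecO θ o : ℤ) : K') * R ι' ((θ : G → ℂ) g))
        (fun θ hθ => by rw [hoff o θ hθ, zero_mul])]
      obtain ⟨x, y, rfl, hxy, ⟨k, hx⟩, hy⟩ := exists_pPart (p := p) hM.1 g
      simp only [R_irr_regular ι' hM _ hxy hx hy, ← R_intCast ι',
        ← R_mul ι' (memLocalRing_intCast _) (memLocalRing_irr _ _)]
      rw [← R_sum ι' _ fun θ => (localRing M).mul_mem (memLocalRing_intCast _)
        (memLocalRing_irr θ y), ← R_zero ι']
      congr 1
      rw [← s.sum_vec_mul_apply (g := y) (fun j hj v hv hc => ?_)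
        ((Quotient.out o : (ZMod p)ˣ) : ZMod p)]
      · exact Finset.sum_congr rfl fun θ _ => mul_comm _ _
      · obtain ⟨d, hd⟩ := isConj_iff.mp hc
        have hreg : ¬ p ∣ orderOf (v * s.zp j) := by
          rw [← (s.comm_zp j hv).eq, ← hd, ← MulAut.conj_apply, MulEquiv.orderOf_eq]
          exact hy
        refine hj ((s.zp_eq_one_iff j).mp (eq_one_of_mul_pRegular hp (k := 1)
          (by rw [pow_one]; exact CyclicBlock.orderOf_zp s hj) (s.comm_zp j hv).symm ?_ hreg))
        intro hdv
        exact s.not_dvd (hdv.trans (Subgroup.orderOf_dvd_natCard _ hv))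
    have hli : LinearIndependent K' w := Fintype.linearIndependent_iff.mpr fun a ha => by
      have hsum : ∑ o, a o = 0 := by
        have h := congrFun ha ⟨oneIrr G, oneIrr_mem (M := M)⟩
        simp only [Finset.sum_apply, Pi.smul_apply, smul_eq_mul, Pi.zero_apply, w] at h
        rw [Finset.sum_congr rfl fun o _ => by
          rw [show s.vecO (oneIrr G) o = -1 from s.vecO_triv o, Int.cast_neg, Int.cast_one,
            mul_neg_one], Finset.sum_neg_distrib, neg_eq_zero] at h
        exact h
      intro o'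
      have h : ∑ o, a o * ((((if o = o' then 1 else 0) + (Nat.card s.auto : ℤ)) : ℤ) : K') = 0 := by
        calc _ = ∑ o, a o * ∑ θ : B, w o θ * w o' θ := by
              refine Finset.sum_congr rfl fun o _ => ?_
              rw [hall (fun θ => ((s.vecO θ o : ℤ) : K') * ((s.vecO θ o' : ℤ) : K'))
                (fun θ hθ => by rw [hoff o θ hθ, zero_mul])]
              rw [← s.gram_orb o o']
              push_cast
              rfl
          _ = ∑ θ : B, (∑ o, a o • w o) θ * w o' θ := by
              simp only [Finset.sum_apply, Pi.smul_apply, smul_eq_mul, Finset.sum_mul,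
                Finset.mul_sum, mul_assoc]
              exact Finset.sum_comm
          _ = 0 := Finset.sum_eq_zero fun θ _ => by rw [congrFun ha θ, Pi.zero_apply, zero_mul]
      simpa [mul_add, Finset.sum_add_distrib, ← Finset.sum_mul, hsum] using h
    have := (LinearIndependent.of_comp (LinearMap.ker Φ).subtype
      (v := fun o => (⟨w o, hker o⟩ : LinearMap.ker Φ)) hli).fintype_card_le_finrank
    simpa [Nat.card_eq_fintype_card] using this
  have h3 := Φ.finrank_range_add_finrank_ker
  rw [Module.finrank_fintype_fun_eq_card, ← Nat.card_eq_fintype_card] at h3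
  omega

end Cfsg.Agent.BlocksCore.CyclicRank
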