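import Cfsg.Agent.Lib.BlocksCore.CyclicCount
import Cfsg.Agent.Lib.BlocksCore.CyclicRank

/-!
# Structure of the principal block for a Sylow subgroup of prime order
-/

set_option linter.unusedSectionVars false

namespace Cfsg.Agent.BlocksCore.CyclicPrincipal

open BlocksDefect SmallGroups.SelfCent

variable {G : Type*} [Group G] [Fintype G] {p : ℕ} [Fact p.Prime] {M : Ideal AlgInt}

/-- The vectors are orthogonal to the values at `p`-regular elements. -/
theorem sum_vecO_mul_regular (s : Setup G p) {g : G} (hg : ¬ p ∣ orderOf g) (o : s.Orb) :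
    ∑ χ : IrrCharacter G, (s.vecO χ o : ℂ) * (χ : G → ℂ) g = 0 := by
  have hp : p.Prime := Fact.out
  rw [← s.sum_vec_mul_apply (g := g) (fun j hj v hv hc => ?_)
    ((Quotient.out o : (ZMod p)ˣ) : ZMod p)]
  · exact Finset.sum_congr rfl fun θ _ => mul_comm _ _
  · obtain ⟨d, hd⟩ := isConj_iff.mp hc
    have hreg : ¬ p ∣ orderOf (v * s.zp j) := by
      rw [← (s.comm_zp j hv).eq, ← hd, ← MulAut.conj_apply, MulEquiv.orderOf_eq]
      exact hg
    refine hj ((s.zp_eq_one_iff j).mp (eq_one_of_mul_pRegular hp (k := 1)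
      (by rw [pow_one]; exact CyclicBlock.orderOf_zp s hj) (s.comm_zp j hv).symm ?_ hreg))
    exact fun hdv => s.not_dvd (hdv.trans (Subgroup.orderOf_dvd_natCard _ hv))

/-- A `p`-regular element centralizing `z` lies in `K`. -/
theorem mem_K_of_regular (s : Setup G p) {y : G} (hy : y ∈ Subgroup.centralizer ({s.z} : Set G))
    (hreg : ¬ p ∣ orderOf y) : y ∈ s.K := by
  obtain ⟨a, w, hw, rfl⟩ := s.exists_of_mem_cent hy
  by_cases ha : a = 0
  · rw [ha, s.zp_zero, one_mul]
    exact hw
  refine absurd ((s.zp_eq_one_iff a).mp (eq_one_of_mul_pRegular (Fact.out : p.Prime) (k := 1)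
    (by rw [pow_one]; exact CyclicBlock.orderOf_zp s ha) (s.comm_zp a hw).symm ?_ ?_)) ha
  · exact fun hdv => s.not_dvd (hdv.trans (Subgroup.orderOf_dvd_natCard _ hw))
  · rw [← (s.comm_zp a hw).eq]
    exact hreg

/-- The members of the principal block are constant on the cosets `z ^ k * K`. -/
theorem apply_zp_mul (hM : IsPModular p M) (s : Setup G p) {k : ZMod p} (hk : k ≠ 0) {y : G}
    (hy : y ∈ s.K) {χ : IrrCharacter G} (hχ : χ ∈ principalBlock M G) :
    (χ : G → ℂ) (s.zp k * y) = s.phi (χ : G → ℂ) k := by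
  classical
  have := isPrime hM
  have := Fintype.ofFinite (Subgroup.centralizer ({s.zp k} : Set G))
  have hreg : ¬ p ∣ orderOf (⟨y, CyclicBlock.K_le s hk hy⟩ :
      Subgroup.centralizer ({s.zp k} : Set G)) := by
    rw [Subgroup.orderOf_mk]
    exact fun hd => s.not_dvd (hd.trans (Subgroup.orderOf_dvd_natCard _ hy))
  have h := principal_apply_section hM (k := 1)
    (by rw [pow_one]; exact CyclicBlock.orderOf_zp s hk) hχ _ hreg
  rw [← h, CyclicBlock.blockCoeff_principal s hM hk, sum_subInd_mul, Setup.phi, s.card_kset,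
    Nat.card_congr (Subgroup.subgroupOfEquivOfLe (CyclicBlock.K_le s hk)).toEquiv,
    Finset.sum_subtype s.kset (fun w => s.mem_kset) (fun w => (χ : G → ℂ) (s.zp k * w))]
  congr 1
  refine Fintype.sum_equiv ((Subgroup.subgroupOfEquivOfLe (CyclicBlock.K_le s hk)).toEquiv.trans
    (Equiv.mulRight ⟨y, hy⟩)) _ _ fun w => ?_
  show (χ : G → ℂ) ((w.1 : G) * (s.zp k * y)) = (χ : G → ℂ) (s.zp k * ((w.1 : G) * y))
  rw [← mul_assoc, ← mul_assoc, (s.comm_zp k (Subgroup.mem_subgroupOf.mp w.2)).eq]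

open scoped Classical in
/-- The members of the principal block, as a finset. -/
noncomputable def members (M : Ideal AlgInt) (G : Type*) [Group G] [Fintype G] :
    Finset (IrrCharacter G) := Finset.univ.filter (· ∈ principalBlock M G)

theorem mem_members {χ : IrrCharacter G} : χ ∈ members M G ↔ χ ∈ principalBlock M G := by
  simp [members]

theorem natCard_eq : Nat.card (principalBlock M G) = (members M G).card := by
  classical
  rw [Nat.card_eq_fintype_card, Fintype.card_subtype]
  rfl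

open scoped Classical in
/-- The shape of the multiplicity vectors of the principal block. -/
theorem exists_shape [M.IsPrime] (hM : IsPModular p M) (s : Setup G p) [Fintype s.Orb]
    (hidx : ¬ p ∣ (Subgroup.zpowers s.z).index) :
    ∃ (f : s.Orb → IrrCharacter G) (c : IrrCharacter G → ℤ) (ε : ℤ), (ε = 1 ∨ ε = -1) ∧
      Function.Injective f ∧ (∀ i, f i ∈ members M G) ∧
      (∀ i j, s.vecO (f j) i = if i = j then ε else 0) ∧
      (∀ χ ∈ members M G, (∀ i, f i ≠ χ) → (c χ = 1 ∨ c χ = -1) ∧ ∀ i, s.vecO χ i = c χ) ∧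
      (members M G).card = Nat.card s.auto + Fintype.card s.Orb := by
  classical
  letI : Field (Res M) := Ideal.Quotient.field _
  haveI : CharP (Res M) p := charP_res hM
  haveI : CharP (AlgebraicClosure (Res M)) p :=
    charP_of_injective_ringHom (algebraMap (Res M) (AlgebraicClosure (Res M))).injective p
  have hge := CyclicRank.card_ge hM s hidx (AlgebraicClosure (Res M)) (algebraMap _ _)
  rw [natCard_eq, Nat.card_eq_fintype_card (α := s.Orb)] at hge
  exact CyclicCount.shape (members M G)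
    (fun χ => (Setup.deg χ : ℤ)) (fun χ => by exact_mod_cast (Setup.deg_spec χ).1)
    (fun o χ => s.vecO χ o) (Nat.card s.auto) s.gram_orb s.sum_deg_mul_vecO
    (fun o χ hχ => CyclicBlock.vec_of_notMem s hM (fun h => hχ (mem_members.mpr h)) _)
    (fun χ hχ => CyclicBlock.exists_vecO_ne_zero s hM hidx (mem_members.mp hχ)) hge

open scoped Classical in
/-- Brauer: nonexceptional and exceptional members of the principal block. -/
theorem structure_thm (hM : IsPModular p M) (P : Sylow p G) (hP : Nat.card P = p) (e : ℕ)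
    (he : (Subgroup.centralizer ((P : Subgroup G) : Set G)).relIndex
      (Subgroup.normalizer ((P : Subgroup G) : Set G)) = e) :
    ∃ (X Y : Finset (IrrCharacter G)) (εX : IrrCharacter G → ℤ) (ε : ℤ),
      principalBlock M G = (↑X ∪ ↑Y : Set (IrrCharacter G)) ∧ Disjoint X Y ∧
      X.card = e ∧ Y.card = (p - 1) / e ∧ (ε = 1 ∨ ε = -1) ∧
      (∀ χ ∈ X, (εX χ = 1 ∨ εX χ = -1) ∧ (charDegree (χ : G → ℂ) : ℤ) ≡ εX χ [ZMOD p] ∧
        ∀ x : G, x ∈ (P : Subgroup G) → x ≠ 1 → ∀ y : G,
          y ∈ Subgroup.centralizer ((P : Subgroup G) : Set G) → ¬ p ∣ orderOf y →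
            (χ : G → ℂ) (x * y) = (εX χ : ℂ)) ∧
      (∀ θ ∈ Y, (charDegree (θ : G → ℂ) : ℤ) ≡ ε * (e : ℤ) [ZMOD p] ∧
        ∀ g : G, ¬ p ∣ orderOf g →
          (ε : ℂ) * (θ : G → ℂ) g = ∑ χ ∈ X, (εX χ : ℂ) * (χ : G → ℂ) g) := by
  classical
  have := isPrime hM
  have hp : p.Prime := Fact.out
  haveI : IsCyclic (P : Subgroup G) := isCyclic_of_prime_card hP
  obtain ⟨⟨z, hzP⟩, hgen⟩ := IsCyclic.exists_generator (α := (P : Subgroup G))
  have hz : orderOf z = p := by
    rw [← Subgroup.orderOf_mk z hzP, orderOf_eq_card_of_forall_mem_zpowers hgen, hP]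
  have hzP' : Subgroup.zpowers z = (P : Subgroup G) :=
    Subgroup.eq_of_le_of_card_ge (Subgroup.zpowers_le.mpr hzP)
      (by rw [Nat.card_zpowers, hz, hP])
  have hidx : ¬ p ∣ (Subgroup.zpowers z).index := hzP' ▸ P.not_dvd_index
  obtain ⟨s, hs⟩ := CyclicCount.exists_setup hz hidx
  subst hs
  haveI := Fintype.ofFinite s.Orb
  have hC : Subgroup.centralizer ((P : Subgroup G) : Set G) =
      Subgroup.centralizer ({s.z} : Set G) := by
    rw [← hzP', BlocksCore.centralizer_zpowers]
  have he' : Nat.card s.auto = e := by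
    have hle : Subgroup.centralizer ((P : Subgroup G) : Set G) ≤
        Subgroup.normalizer ((P : Subgroup G) : Set G) := Subgroup.centralizer_le_normalizer _
    have h := Subgroup.index_mul_card
      ((Subgroup.centralizer ((P : Subgroup G) : Set G)).subgroupOf
        (Subgroup.normalizer ((P : Subgroup G) : Set G)))
    rw [← Subgroup.relIndex, he, Nat.card_congr (Subgroup.subgroupOfEquivOfLe hle).toEquiv, hC,
      s.card_cent, ← hzP', s.card_normalizer] at h
    exact (Nat.eq_of_mul_eq_mul_right (Nat.mul_pos hp.pos Nat.card_pos) h).symm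
  subst he'
  obtain ⟨f, c, ε, hε, hf, hfB, hvf, hcx, hcard⟩ := exists_shape hM s hidx
  have hr : Fintype.card s.Orb * Nat.card s.auto = p - 1 := by
    rw [← Nat.card_eq_fintype_card]
    exact s.card_orb_mul
  set Y := Finset.univ.image f with hY
  have hYB : Y ⊆ members M G := by
    intro x hx
    obtain ⟨i, -, rfl⟩ := Finset.mem_image.mp hx
    exact hfB i
  have hYcard : Y.card = Fintype.card s.Orb := by
    rw [hY, Finset.card_image_of_injective _ hf, Finset.card_univ]
  have hcX : ∀ χ ∈ members M G \ Y, (c χ = 1 ∨ c χ = -1) ∧ ∀ i, s.vecO χ i = c χ := by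
    intro χ hχ
    obtain ⟨h1, h2⟩ := Finset.mem_sdiff.mp hχ
    exact hcx χ h1 fun i hi => h2 (hi ▸ Finset.mem_image_of_mem f (Finset.mem_univ i))
  have hXmod : ∀ t : ℤ,
      (Nat.card s.auto : ℤ) * ((Fintype.card s.Orb : ℤ) * t) ≡ -t [ZMOD p] := fun t => by
    rw [← mul_assoc, ← Nat.cast_mul, mul_comm (Nat.card s.auto), hr, Nat.cast_sub hp.one_le,
      Int.modEq_iff_dvd]
    exact ⟨-t, by push_cast; ring⟩
  refine ⟨members M G \ Y, Y, fun χ => -c χ, ε, ?_, Finset.sdiff_disjoint, ?_, ?_, hε,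
    fun χ hχ => ⟨?_, ?_, ?_⟩, fun θ hθ => ⟨?_, ?_⟩⟩
  · rw [← Finset.coe_union, Finset.sdiff_union_of_subset hYB]
    ext χ
    rw [Finset.mem_coe, mem_members]
  · rw [Finset.card_sdiff_of_subset hYB, hcard, hYcard, Nat.add_sub_cancel]
  · rw [hYcard, ← hr, Nat.mul_div_cancel _ Nat.card_pos]
  · rcases (hcX χ hχ).1 with h | h <;> simp [h]
  · have hd := CyclicBlock.charDegree_modEq s hM (mem_members.mp (Finset.mem_sdiff.mp hχ).1)
    rw [Finset.sum_congr rfl fun i _ => (hcX χ hχ).2 i, Finset.sum_const, Finset.card_univ,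
      nsmul_eq_mul] at hd
    exact hd.trans (hXmod (c χ))
  · intro x hx hx1 y hy hreg
    rw [← hzP'] at hx
    obtain ⟨j, hj : s.z ^ j = x⟩ :=
      ((isOfFinOrder_of_finite s.z).mem_powers_iff_mem_zpowers).mpr hx
    rw [← s.zp_natCast] at hj
    have hj0 : (j : ZMod p) ≠ 0 := fun h0 => hx1 (by rw [← hj, h0, s.zp_zero])
    rw [← hj, apply_zp_mul hM s hj0 (mem_K_of_regular s (hC ▸ hy) hreg)
      (mem_members.mp (Finset.mem_sdiff.mp hχ).1), s.phi_of_const χ (c χ) (hcX χ hχ).2 hj0]
    push_cast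
    rfl
  · obtain ⟨i, -, rfl⟩ := Finset.mem_image.mp hθ
    have hd := CyclicBlock.charDegree_modEq s hM (mem_members.mp (hfB i))
    simp only [hvf, Finset.sum_ite_eq', Finset.mem_univ, if_true] at hd
    rwa [mul_comm ε]
  · intro g hg
    obtain ⟨i, -, rfl⟩ := Finset.mem_image.mp hθ
    have h := sum_vecO_mul_regular s hg i
    rw [← Finset.sum_subset (Finset.subset_univ (members M G)) (fun χ _ hχ => by
      rw [Setup.vecO, CyclicBlock.vec_of_notMem s hM (fun h => hχ (mem_members.mpr h)),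
        Int.cast_zero, zero_mul]), ← Finset.sum_sdiff hYB, hY,
      Finset.sum_image (fun a _ b _ h => hf h), Finset.sum_eq_single i
        (fun j _ hj => by rw [hvf, if_neg (Ne.symm hj), Int.cast_zero, zero_mul]) (by simp),
      hvf, if_pos rfl, add_eq_zero_iff_neg_eq] at h
    rw [← h, ← Finset.sum_neg_distrib]
    exact Finset.sum_congr rfl fun χ hχ => by
      rw [(hcX χ (by rwa [hY])).2 i, Int.cast_neg, neg_mul]

end Cfsg.Agent.BlocksCore.CyclicPrincipal
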