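import Cfsg.Agent.Lib.BlocksCore.SectionKernel
import Cfsg.Agent.Lib.BlocksCore.CyclicPrincipal
import Mathlib.GroupTheory.FiniteAbelian.Duality

/-!
# An abelian Sylow subgroup with fixed-point-free automizer

The multiplicities of the linear characters of `P` in the members of the principal block have
Gram matrix `1 + m` over the orbits of the automizer, `m` its order.
-/

set_option linter.unusedSectionVars false

namespace Cfsg.Agent.BlocksCore.AbelianPrincipal

open BlocksDefect Finset CyclicPrincipal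
open scoped ComplexConjugate

/-- An abelian Sylow subgroup whose automizer acts without fixed points. -/
structure Free {G : Type*} [Group G] {p : ℕ} (P : Sylow p G) : Prop where
  comm : IsMulCommutative P
  cent : ∀ y : G, y ∈ (P : Subgroup G) → y ≠ 1 →
    Subgroup.centralizer ({y} : Set G) ⊓ Subgroup.normalizer ((P : Subgroup G) : Set G) =
      Subgroup.centralizer ((P : Subgroup G) : Set G)

variable {G : Type*} [Group G] [Fintype G] {p : ℕ} [Fact p.Prime] {M : Ideal AlgInt}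
  {P : Sylow p G}

variable (P) in
/-- The dual of `P`. -/
abbrev Dual : Type _ := ↥(P : Subgroup G) →* ℂˣ

noncomputable instance : Fintype (Dual P) := Fintype.ofFinite _

theorem Free.comm' (h : Free P) : ∀ a ∈ (P : Subgroup G), ∀ b ∈ (P : Subgroup G), a * b = b * a :=
  fun a ha b hb => congrArg Subtype.val (h.comm.is_comm.comm ⟨a, ha⟩ ⟨b, hb⟩)

open scoped IsMulCommutative in
theorem exists_dual_ne_one (h : Free P) {y : (P : Subgroup G)} (hy : y ≠ 1) :
    ∃ ψ : Dual P, ψ y ≠ 1 := by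
  haveI := h.comm
  exact CommGroup.exists_apply_ne_one_of_hasEnoughRootsOfUnity (P : Subgroup G) ℂ hy

open scoped IsMulCommutative in
theorem natCard_dual (h : Free P) : Nat.card (Dual P) = Nat.card P := by
  haveI := h.comm
  exact CommGroup.card_monoidHom_of_hasEnoughRootsOfUnity (P : Subgroup G) ℂ

theorem sum_apply (θ : Dual P) [Fintype (P : Subgroup G)] [Decidable (θ = 1)] :
    ∑ y : (P : Subgroup G), ((θ y : ℂˣ) : ℂ) = if θ = 1 then (Nat.card P : ℂ) else 0 := by
  split_ifs with h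
  · subst h
    simp [Nat.card_eq_fintype_card]
  · refine sum_hom_units_eq_zero ((Units.coeHom ℂ).comp θ) fun h1 => h ?_
    exact MonoidHom.ext fun y => Units.ext (DFunLike.congr_fun h1 y)

theorem sum_dual (h : Free P) (y : (P : Subgroup G)) [Decidable (y = 1)] :
    ∑ ψ : Dual P, ((ψ y : ℂˣ) : ℂ) = if y = 1 then (Nat.card P : ℂ) else 0 := by
  split_ifs with hy
  · subst hy
    simp only [map_one, Units.val_one, sum_const, card_univ, nsmul_eq_mul, mul_one]
    rw [← Nat.card_eq_fintype_card, natCard_dual h]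
  · obtain ⟨φ, hφ⟩ := exists_dual_ne_one h hy
    have e : ((φ y : ℂˣ) : ℂ) * ∑ ψ : Dual P, ((ψ y : ℂˣ) : ℂ) = ∑ ψ : Dual P, ((ψ y : ℂˣ) : ℂ) := by
      rw [mul_sum]
      exact Fintype.sum_equiv (Equiv.mulLeft φ) _ _ fun ψ => by simp
    have h2 : (((φ y : ℂˣ) : ℂ) - 1) * ∑ ψ : Dual P, ((ψ y : ℂˣ) : ℂ) = 0 := by
      rw [sub_mul, one_mul, e, sub_self]
    refine (mul_eq_zero.mp h2).resolve_left (sub_ne_zero.mpr fun h3 => hφ (Units.ext ?_))
    rw [h3, Units.val_one]

theorem conj_apply (ψ : Dual P) [Fintype (P : Subgroup G)] (y : (P : Subgroup G)) :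
    conj ((ψ y : ℂˣ) : ℂ) = ((ψ y⁻¹ : ℂˣ) : ℂ) :=
  conj_irr (⟨_, CharCore.isIrrCharacter_hom ψ⟩ : IrrCharacter (P : Subgroup G)) y

variable (P) in
/-- Conjugation by an element of the normalizer. -/
noncomputable def cj (n : Subgroup.normalizer ((P : Subgroup G) : Set G)) :
    ↥(P : Subgroup G) →* ↥(P : Subgroup G) where
  toFun y := ⟨(n : G) * y * (n : G)⁻¹, (Subgroup.mem_normalizer_iff.mp n.2 _).mp y.2⟩
  map_one' := Subtype.ext (by simp)
  map_mul' a b := Subtype.ext (by
    show (n : G) * (a * b : G) * (n : G)⁻¹ = (n : G) * a * (n : G)⁻¹ * ((n : G) * b * (n : G)⁻¹)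
    group)

theorem coe_cj (n : Subgroup.normalizer ((P : Subgroup G) : Set G)) (y : (P : Subgroup G)) :
    (cj P n y : G) = (n : G) * y * (n : G)⁻¹ := rfl

theorem cj_mul (a b : Subgroup.normalizer ((P : Subgroup G) : Set G)) :
    cj P (a * b) = (cj P a).comp (cj P b) := by
  refine MonoidHom.ext fun y => Subtype.ext ?_
  show ((a : G) * b) * y * ((a : G) * b)⁻¹ = (a : G) * ((b : G) * y * (b : G)⁻¹) * (a : G)⁻¹
  group

theorem cj_one : cj P 1 = MonoidHom.id _ := by
  refine MonoidHom.ext fun y => Subtype.ext ?_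
  simp [coe_cj]

/-- Characters conjugate under the normalizer. -/
def Rel (ψ ψ' : Dual P) : Prop :=
  ∃ n : Subgroup.normalizer ((P : Subgroup G) : Set G), ψ'.comp (cj P n) = ψ

theorem rel_refl (ψ : Dual P) : Rel ψ ψ := ⟨1, by rw [cj_one, MonoidHom.comp_id]⟩

theorem rel_symm {ψ ψ' : Dual P} : Rel ψ ψ' → Rel ψ' ψ := by
  rintro ⟨n, rfl⟩
  exact ⟨n⁻¹, by rw [MonoidHom.comp_assoc, ← cj_mul, mul_inv_cancel, cj_one, MonoidHom.comp_id]⟩

theorem rel_trans {a b c : Dual P} : Rel a b → Rel b c → Rel a c := by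
  rintro ⟨n, rfl⟩ ⟨n', rfl⟩
  exact ⟨n' * n, by rw [cj_mul, MonoidHom.comp_assoc]⟩

theorem rel_iff {ψ ψ' : Dual P} : Rel ψ ψ' ↔ ∃ n : G,
    n ∈ Subgroup.normalizer ((P : Subgroup G) : Set G) ∧
      ∀ w w' : ↥(P : Subgroup G), (w' : G) = n * w * n⁻¹ → ψ' w' = ψ w := by
  constructor
  · rintro ⟨n, rfl⟩
    refine ⟨n, n.2, fun w w' hw => ?_⟩
    rw [MonoidHom.comp_apply]
    exact congrArg ψ' (Subtype.ext hw)
  · rintro ⟨n, hn, hh⟩
    exact ⟨⟨n, hn⟩, MonoidHom.ext fun w => hh w (cj P ⟨n, hn⟩ w) rfl⟩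

variable (P) in
/-- Orbits of nontrivial linear characters. -/
def setoid : Setoid {ψ : Dual P // ψ ≠ 1} :=
  ⟨fun a b => Rel a.1 b.1, ⟨fun a => rel_refl a.1, rel_symm, rel_trans⟩⟩

variable (P) in
/-- The orbit type. -/
abbrev Orb : Type _ := Quotient (setoid P)

noncomputable instance : Fintype (Orb P) := Fintype.ofFinite _
noncomputable instance : DecidableEq (Orb P) := Classical.decEq _

/-- The orbit of a nontrivial character. -/
abbrev orb (ψ : Dual P) (hψ : ψ ≠ 1) : Orb P := Quotient.mk (setoid P) ⟨ψ, hψ⟩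

theorem orb_eq_iff {ψ ψ' : Dual P} (hψ : ψ ≠ 1) (hψ' : ψ' ≠ 1) :
    orb ψ hψ = orb ψ' hψ' ↔ Rel ψ ψ' := Quotient.eq

theorem cent_le_normalizer :
    Subgroup.centralizer ((P : Subgroup G) : Set G) ≤
      Subgroup.normalizer ((P : Subgroup G) : Set G) := Subgroup.centralizer_le_normalizer _

theorem eq_one_of_comp_eq (h : Free P) {ψ : Dual P}
    (n : Subgroup.normalizer ((P : Subgroup G) : Set G)) (hfix : ψ.comp (cj P n) = ψ)
    (hn : (n : G) ∉ Subgroup.centralizer ((P : Subgroup G) : Set G)) : ψ = 1 := by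
  set L : ↥(P : Subgroup G) → ↥(P : Subgroup G) := fun y => cj P n y * y⁻¹
  have hinj : Function.Injective L := by
    intro y y' hyy
    by_contra hne
    have hu1 : ((y⁻¹ * y' : (P : Subgroup G)) : G) ≠ 1 := fun h1 =>
      hne (inv_mul_eq_one.mp (Subtype.ext h1))
    have hfixu : cj P n (y⁻¹ * y') = y⁻¹ * y' := by
      have e : cj P n y' = cj P n y * y⁻¹ * y' := (mul_inv_eq_iff_eq_mul.mp hyy.symm)
      rw [map_mul, map_inv, e]
      group
    have hmem : (n : G) ∈ Subgroup.centralizer ({((y⁻¹ * y' : (P : Subgroup G)) : G)} : Set G) ⊓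
        Subgroup.normalizer ((P : Subgroup G) : Set G) := by
      refine ⟨Subgroup.mem_centralizer_singleton_iff.mpr ?_, n.2⟩
      have := congrArg Subtype.val hfixu
      rw [coe_cj] at this
      exact mul_inv_eq_iff_eq_mul.mp this
    rw [h.cent _ (y⁻¹ * y').2 hu1] at hmem
    exact hn hmem
  refine MonoidHom.ext fun w => ?_
  obtain ⟨y, rfl⟩ := (Finite.injective_iff_surjective.mp hinj) w
  rw [map_mul, map_inv, ← MonoidHom.comp_apply, hfix, mul_inv_cancel, MonoidHom.one_apply]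

theorem comp_eq_of_centralizer (ψ : Dual P) (n : Subgroup.normalizer ((P : Subgroup G) : Set G))
    (hn : (n : G) ∈ Subgroup.centralizer ((P : Subgroup G) : Set G)) : ψ.comp (cj P n) = ψ := by
  refine MonoidHom.ext fun y => ?_
  rw [MonoidHom.comp_apply]
  refine congrArg ψ (Subtype.ext ?_)
  rw [coe_cj, ← Subgroup.mem_centralizer_iff.mp hn _ y.2, mul_inv_cancel_right]

open scoped Classical in
theorem card_transporter (h : Free P) {ψ ψ' : Dual P} (hψ : ψ ≠ 1) :
    (univ.filter fun n : Subgroup.normalizer ((P : Subgroup G) : Set G) => ψ'.comp (cj P n) = ψ).card =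
      if Rel ψ ψ' then Nat.card (Subgroup.centralizer ((P : Subgroup G) : Set G)) else 0 := by
  split_ifs with hrel
  · obtain ⟨n₀, hn₀⟩ := hrel
    rw [← Nat.card_eq_finsetCard]
    refine Nat.card_congr
      { toFun := fun n => ⟨((n₀⁻¹ * n.1 : Subgroup.normalizer ((P : Subgroup G) : Set G)) : G), ?_⟩
        invFun := fun c => ⟨n₀ * ⟨c.1, cent_le_normalizer c.2⟩, ?_⟩
        left_inv := fun n => by ext; simp
        right_inv := fun c => by ext; simp }
    · by_contra hc
      refine hψ (eq_one_of_comp_eq h _ ?_ hc)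
      have e : ψ.comp (cj P n₀⁻¹) = ψ' := by
        rw [← hn₀, MonoidHom.comp_assoc, ← cj_mul, mul_inv_cancel, cj_one, MonoidHom.comp_id]
      rw [cj_mul, ← MonoidHom.comp_assoc, e]
      exact (mem_filter.mp n.2).2
    · simp only [mem_filter, mem_univ, true_and]
      rw [cj_mul, ← MonoidHom.comp_assoc, hn₀]
      exact comp_eq_of_centralizer ψ _ c.2
  · rw [card_eq_zero, filter_eq_empty_iff]
    exact fun n _ hn => hrel ⟨n, hn⟩

theorem natCard_normalizer :
    Nat.card (Subgroup.normalizer ((P : Subgroup G) : Set G)) =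
      (Subgroup.centralizer ((P : Subgroup G) : Set G)).relIndex
        (Subgroup.normalizer ((P : Subgroup G) : Set G)) *
      Nat.card (Subgroup.centralizer ((P : Subgroup G) : Set G)) := by
  rw [← Nat.card_congr (Subgroup.subgroupOfEquivOfLe (cent_le_normalizer (P := P))).toEquiv,
    Subgroup.relIndex, Subgroup.index_mul_card]

open scoped Classical in
theorem card_orbit (h : Free P) {ψ : Dual P} (hψ : ψ ≠ 1) :
    (univ.filter fun φ : Dual P => Rel φ ψ).card =
      (Subgroup.centralizer ((P : Subgroup G) : Set G)).relIndex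
        (Subgroup.normalizer ((P : Subgroup G) : Set G)) := by
  have hcard := Finset.card_eq_sum_card_fiberwise
    (s := (univ : Finset (Subgroup.normalizer ((P : Subgroup G) : Set G))))
    (t := univ.filter fun φ : Dual P => Rel φ ψ) (f := fun n => ψ.comp (cj P n))
    (fun n _ => mem_filter.mpr ⟨mem_univ _, n, rfl⟩)
  rw [Finset.sum_congr rfl (g := fun _ => Nat.card (Subgroup.centralizer ((P : Subgroup G) : Set G)))
    (fun φ hφ => by
      have hrel := (mem_filter.mp hφ).2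
      have hφ1 : φ ≠ 1 := by
        rintro rfl
        obtain ⟨n, hn⟩ := rel_symm hrel
        rw [MonoidHom.one_comp] at hn
        exact hψ hn.symm
      rw [card_transporter h hφ1, if_pos hrel]), sum_const, smul_eq_mul, card_univ,
    ← Nat.card_eq_fintype_card, natCard_normalizer] at hcard
  exact (Nat.eq_of_mul_eq_mul_right Nat.card_pos hcard).symm

theorem card_orb_mul (h : Free P) :
    Fintype.card (Orb P) * (Subgroup.centralizer ((P : Subgroup G) : Set G)).relIndex
        (Subgroup.normalizer ((P : Subgroup G) : Set G)) = Nat.card P - 1 := by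
  classical
  have hfib := Finset.card_eq_sum_card_fiberwise (s := (univ : Finset {ψ : Dual P // ψ ≠ 1}))
    (t := (univ : Finset (Orb P))) (f := Quotient.mk (setoid P)) (fun _ _ => mem_univ _)
  rw [Finset.sum_congr rfl (g := fun _ => (Subgroup.centralizer ((P : Subgroup G) : Set G)).relIndex
      (Subgroup.normalizer ((P : Subgroup G) : Set G))) (fun o _ => ?_), sum_const, smul_eq_mul,
    card_univ, card_univ, Fintype.card_subtype_compl, Fintype.card_subtype_eq,
    ← Nat.card_eq_fintype_card (α := Dual P), natCard_dual h] at hfib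
  · exact hfib.symm
  · obtain ⟨⟨ψ, hψ⟩, rfl⟩ := Quotient.exists_rep o
    rw [← card_orbit h hψ]
    refine Finset.card_bij (fun φ _ => φ.1) (fun φ hφ => ?_) (fun a _ b _ hab => Subtype.ext hab)
      (fun φ hφ => ?_)
    · exact mem_filter.mpr ⟨mem_univ _, Quotient.exact (mem_filter.mp hφ).2⟩
    · have hrel := (mem_filter.mp hφ).2
      refine ⟨⟨φ, ?_⟩, mem_filter.mpr ⟨mem_univ _, Quotient.sound hrel⟩, rfl⟩
      rintro rfl
      obtain ⟨n, hn⟩ := rel_symm hrel
      rw [MonoidHom.one_comp] at hn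
      exact hψ hn.symm

variable [Fintype (P : Subgroup G)]

variable (P) in
/-- The difference of the multiplicities of `ψ` and `1`. -/
noncomputable def vecC (f : G → ℂ) (ψ : Dual P) : ℂ :=
  (Nat.card P : ℂ)⁻¹ * ∑ y : (P : Subgroup G), f y * (((ψ y⁻¹ : ℂˣ) : ℂ) - 1)

theorem exists_intCast (χ : IrrCharacter G) (ψ : Dual P) :
    ∃ n : ℤ, vecC P (χ : G → ℂ) ψ = n := by
  have hmult : ∀ θ : Dual P, ∃ a : ℕ,
      (Nat.card P : ℂ)⁻¹ * ∑ y : (P : Subgroup G), (χ : G → ℂ) y * ((θ y⁻¹ : ℂˣ) : ℂ) = a := by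
    intro θ
    obtain ⟨a, ha⟩ := CharCore.IsCharacter.exists_classInner_eq_natCast
      (CharCore.isCharacter_comp (CharCore.irr_isCharacter χ) (P : Subgroup G).subtype)
      (CharCore.IsIrrCharacter.isCharacter (CharCore.isIrrCharacter_hom θ))
    refine ⟨a, ?_⟩
    rw [← ha, Cfsg.classInner]
    congr 1
    exact sum_congr rfl fun y _ => by rw [← conj_apply]; rfl
  obtain ⟨a, ha⟩ := hmult ψ
  obtain ⟨b, hb⟩ := hmult 1
  refine ⟨(a : ℤ) - b, ?_⟩
  simp only [MonoidHom.one_apply, Units.val_one, mul_one] at hb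
  rw [vecC]
  simp only [mul_sub, sum_sub_distrib, mul_one]
  rw [ha, hb]
  push_cast
  rfl

/-- The integer vector. -/
noncomputable def vec (χ : IrrCharacter G) (ψ : Dual P) : ℤ := (exists_intCast χ ψ).choose

theorem vec_spec (χ : IrrCharacter G) (ψ : Dual P) :
    (vec χ ψ : ℂ) = vecC P (χ : G → ℂ) ψ := (exists_intCast χ ψ).choose_spec.symm

theorem vec_one (χ : IrrCharacter G) : vec χ (1 : Dual P) = 0 := by
  apply Int.cast_injective (α := ℂ)
  rw [vec_spec, vecC]
  simp

theorem vec_comp (χ : IrrCharacter G) (ψ : Dual P)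
    (n : Subgroup.normalizer ((P : Subgroup G) : Set G)) : vec χ (ψ.comp (cj P n)) = vec χ ψ := by
  apply Int.cast_injective (α := ℂ)
  rw [vec_spec, vec_spec, vecC, vecC]
  congr 1
  have hb : Function.Bijective (cj P n) := Finite.injective_iff_bijective.mp fun a b hab => by
    have := congrArg Subtype.val hab
    simp only [coe_cj, mul_left_inj, mul_right_inj] at this
    exact Subtype.ext this
  refine Fintype.sum_bijective (cj P n) hb _ _ fun y => ?_
  rw [coe_cj, irr_class χ (y : G) (n : G), MonoidHom.comp_apply, map_inv (cj P n)]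

/-- The vector indexed by orbits. -/
noncomputable def vecO (χ : IrrCharacter G) (o : Orb P) : ℤ := vec χ o.out.1

theorem vec_eq_vecO (χ : IrrCharacter G) {ψ : Dual P} (hψ : ψ ≠ 1) :
    vec χ ψ = vecO χ (orb ψ hψ) := by
  obtain ⟨n, hn⟩ := Quotient.mk_out (s := setoid P) ⟨ψ, hψ⟩
  change ψ.comp (cj P n) = (Quotient.out (orb ψ hψ)).1 at hn
  rw [vecO, ← hn, vec_comp]

theorem vecO_one (h : Free P) (o : Orb P) : vecO (oneIrr G) o = -1 := by
  classical
  apply Int.cast_injective (α := ℂ)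
  rw [vecO, vec_spec, vecC]
  have hsum : ∑ y : (P : Subgroup G), ((o.out.1 y⁻¹ : ℂˣ) : ℂ) = 0 := by
    refine (Fintype.sum_equiv (Equiv.inv (P : Subgroup G)) (fun y => ((o.out.1 y⁻¹ : ℂˣ) : ℂ))
      (fun y => ((o.out.1 y : ℂˣ) : ℂ)) (fun y => rfl)).trans ?_
    rw [sum_apply, if_neg o.out.2]
  simp only [coe_oneIrr, one_mul, sum_sub_distrib, hsum, sum_const, card_univ, nsmul_eq_mul,
    mul_one, ← Nat.card_eq_fintype_card]
  field_simp [Nat.cast_ne_zero.mpr (Nat.card_pos (α := P)).ne']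
  push_cast
  ring

variable (hM : IsPModular p M)

theorem isPPart_self {y : G} (hy : y ∈ (P : Subgroup G)) : IsPPart p y y := by
  obtain ⟨k, hk⟩ := IsPGroup.iff_orderOf.mp P.2 ⟨y, hy⟩
  rw [Subgroup.orderOf_mk] at hk
  exact ⟨1, mul_one _, Commute.one_right _, ⟨k, hk⟩,
    by rw [orderOf_one]; exact (Fact.out : p.Prime).not_dvd_one⟩

include hM

theorem sum_section_regular {y : G} (hy : y ∈ (P : Subgroup G)) (hy1 : y ≠ 1) {g : G}
    (hg : ¬ p ∣ orderOf g) :
    ∑ χ ∈ members M G, (χ : G → ℂ) y * (χ : G → ℂ) g = 0 := by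
  have := isPrime hM
  have hxg : IsPPart p g⁻¹ 1 :=
    ⟨g⁻¹, one_mul _, Commute.one_left _, ⟨0, by simp⟩, by rwa [orderOf_inv]⟩
  have h := blockOrth_sections hM (isPBlock_principal (G := G)) (isPPart_self hy) hxg fun h => by
    rw [isConj_one_left] at h
    exact hy1 h
  rw [inv_inv] at h
  rw [← h, ← finsum_mem_coe_finset]
  refine finsum_mem_congr ?_ fun _ _ => rfl
  ext χ
  simp [mem_members]

/-- The vectors are orthogonal to the values at `p`-regular elements. -/
theorem sum_vec_mul_regular (ψ : Dual P) {g : G} (hg : ¬ p ∣ orderOf g) :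
    ∑ χ ∈ members M G, (vec χ ψ : ℂ) * (χ : G → ℂ) g = 0 := by
  simp only [vec_spec, vecC, mul_sum, Finset.sum_mul]
  rw [Finset.sum_comm]
  refine Finset.sum_eq_zero fun y _ => ?_
  by_cases hy : y = 1
  · subst hy
    simp
  · calc _ = (∑ χ ∈ members M G, (χ : G → ℂ) y * (χ : G → ℂ) g) *
          ((Nat.card P : ℂ)⁻¹ * (((ψ y⁻¹ : ℂˣ) : ℂ) - 1)) := by
          rw [Finset.sum_mul]
          exact sum_congr rfl fun χ _ => by ring
      _ = 0 := by
          rw [sum_section_regular hM y.2 (fun h => hy (Subtype.ext h)) hg, zero_mul]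

theorem sum_degree_mul (o : Orb P) :
    ∑ χ ∈ members M G, (charDegree (χ : G → ℂ) : ℤ) * vecO χ o = 0 := by
  apply Int.cast_injective (α := ℂ)
  push_cast
  rw [← sum_vec_mul_regular hM o.out.1 (g := (1 : G))
    (by rw [orderOf_one]; exact (Fact.out : p.Prime).not_dvd_one)]
  exact sum_congr rfl fun χ _ => by rw [vecO, irr_one_eq, mul_comm]

variable (h : Free P)

include h

/-- The centralizer of a nontrivial element of `P` has a normal `p`-complement. -/
theorem exists_kernel {y : G} (hy : y ∈ (P : Subgroup G)) (hy1 : y ≠ 1) :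
    ∃ K : Subgroup (Subgroup.centralizer ({y} : Set G)), K.Normal ∧ ¬ p ∣ Nat.card K ∧
      (∀ x, ¬ p ∣ orderOf x → x ∈ K) ∧ K.index = Nat.card P :=
  SectionKernel.exists_kernel P h.comm' hy fun n hn hc => h.cent y hy hy1 ▸ ⟨hc, hn⟩

/-- The members of the principal block are constant on sections. -/
theorem apply_of_isPPart {χ : IrrCharacter G} (hχ : χ ∈ principalBlock M G) {g y : G}
    (hg : IsPPart p g y) (hy : y ∈ (P : Subgroup G)) (hy1 : y ≠ 1) :
    (χ : G → ℂ) g = (χ : G → ℂ) y := by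
  obtain ⟨w, rfl, hyw, ⟨k, hk⟩, hw⟩ := hg
  obtain ⟨K, hKn, hKp, hreg, -⟩ := exists_kernel hM h hy hy1
  have hwC : w ∈ Subgroup.centralizer ({y} : Set G) :=
    Subgroup.mem_centralizer_singleton_iff.mpr hyw.eq.symm
  exact SectionKernel.apply_mul hM hk hKp hreg hχ
    (y := ⟨w, hwC⟩) (hreg _ (by rwa [Subgroup.orderOf_mk]))

open scoped Classical in
theorem sum_mul_section (y y' : (P : Subgroup G)) (hy : y ≠ 1) :
    ∑ χ ∈ members M G, (χ : G → ℂ) y * (χ : G → ℂ) (y' : G)⁻¹ =
      if IsConj (y : G) (y' : G) then (Nat.card P : ℂ) else 0 := by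
  have := isPrime hM
  have hy1 : (y : G) ≠ 1 := fun h1 => hy (Subtype.ext h1)
  split_ifs with hc
  · obtain ⟨K, hKn, hKp, hreg, hKi⟩ := exists_kernel hM h y.2 hy1
    obtain ⟨k, hk⟩ := IsPGroup.iff_orderOf.mp P.2 y
    rw [← Subgroup.orderOf_coe] at hk
    have hnorm := SectionKernel.sum_norm hM hk hKp hreg
    rw [hKi] at hnorm
    rw [← hnorm, ← Finset.sum_subset (Finset.subset_univ (members M G)) (fun χ _ hχ =>
      Set.indicator_of_notMem (fun hc => hχ (mem_members.mpr hc)) _)]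
    refine Finset.sum_congr rfl fun χ hχ => ?_
    rw [Set.indicator_of_mem (mem_members.mp hχ)]
    congr 1
    obtain ⟨c, hc⟩ := isConj_iff.mp hc
    rw [← hc, show (c * (y : G) * c⁻¹)⁻¹ = c * (y : G)⁻¹ * c⁻¹ by group, irr_class]
  · have h' := blockOrth_sections hM (isPBlock_principal (G := G)) (isPPart_self y.2)
      (isPPart_self y'.2) hc
    rw [← h', ← finsum_mem_coe_finset]
    refine finsum_mem_congr ?_ fun _ _ => rfl
    ext χ
    simp [mem_members]

omit hM in
open scoped Classical in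
theorem sum_isConj (y : (P : Subgroup G)) (hy : y ≠ 1) (F : ↥(P : Subgroup G) → ℂ) :
    (∑ y' : (P : Subgroup G), if IsConj (y : G) (y' : G) then F y' else 0) *
        (Nat.card (Subgroup.centralizer ((P : Subgroup G) : Set G)) : ℂ) =
      ∑ n : Subgroup.normalizer ((P : Subgroup G) : Set G), F (cj P n y) := by
  rw [← Finset.sum_fiberwise univ (fun n => cj P n y) fun n => F (cj P n y), Finset.sum_mul]
  refine sum_congr rfl fun y' _ => ?_
  rw [Finset.sum_congr rfl (g := fun _ => F y') fun n hn => by rw [(mem_filter.mp hn).2],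
    sum_const, nsmul_eq_mul]
  split_ifs with hc
  · haveI := h.comm
    obtain ⟨g, hg⟩ := isConj_iff.mp hc
    obtain ⟨n, hn, hne⟩ := P.conj_eq_normalizer_conj_of_mem (y : G) g⁻¹ y.2
      (by rw [inv_inv, hg]; exact y'.2)
    rw [inv_inv, hg] at hne
    have hn₀ : cj P ⟨n⁻¹, inv_mem hn⟩ y = y' := Subtype.ext (by
      rw [coe_cj, hne]
      simp)
    set n₀ : Subgroup.normalizer ((P : Subgroup G) : Set G) := ⟨n⁻¹, inv_mem hn⟩
    rw [mul_comm]
    congr 2
    rw [← Nat.card_eq_finsetCard]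
    refine Eq.symm (Nat.card_congr
      { toFun := fun a => ⟨((n₀⁻¹ * a.1 : Subgroup.normalizer ((P : Subgroup G) : Set G)) : G), ?_⟩
        invFun := fun c => ⟨n₀ * ⟨c.1, cent_le_normalizer c.2⟩, ?_⟩
        left_inv := fun a => by ext; simp
        right_inv := fun c => by ext; simp })
    · have hmem : ((n₀⁻¹ * a.1 : Subgroup.normalizer ((P : Subgroup G) : Set G)) : G) ∈
          Subgroup.centralizer ({(y : G)} : Set G) ⊓
            Subgroup.normalizer ((P : Subgroup G) : Set G) := by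
        refine ⟨Subgroup.mem_centralizer_singleton_iff.mpr ?_, SetLike.coe_mem _⟩
        have e : cj P (n₀⁻¹ * a.1) y = y := by
          rw [cj_mul, MonoidHom.comp_apply, (mem_filter.mp a.2).2, ← hn₀, ← MonoidHom.comp_apply,
            ← cj_mul, inv_mul_cancel, cj_one, MonoidHom.id_apply]
        have := congrArg Subtype.val e
        rw [coe_cj] at this
        exact mul_inv_eq_iff_eq_mul.mp this
      rwa [h.cent _ y.2 fun h1 => hy (Subtype.ext h1)] at hmem
    · simp only [mem_filter, mem_univ, true_and]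
      rw [cj_mul, MonoidHom.comp_apply, show cj P ⟨c.1, cent_le_normalizer c.2⟩ y = y from
        Subtype.ext (by rw [coe_cj, ← Subgroup.mem_centralizer_iff.mp c.2 _ y.2, mul_inv_cancel_right]),
        hn₀]
  · rw [zero_mul, Finset.card_eq_zero.mpr, Nat.cast_zero, zero_mul]
    rw [filter_eq_empty_iff]
    intro n _ hn
    exact hc (isConj_iff.mpr ⟨n, by rw [← coe_cj, hn]⟩)

open scoped Classical in
/-- The Gram matrix. -/
theorem gram (o o' : Orb P) :
    ∑ χ ∈ members M G, vecO χ o * vecO χ o' = (if o = o' then 1 else 0) +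
      ((Subgroup.centralizer ((P : Subgroup G) : Set G)).relIndex
        (Subgroup.normalizer ((P : Subgroup G) : Set G)) : ℤ) := by
  set q : ℂ := (Nat.card P : ℂ) with hq
  have hq0 : q ≠ 0 := Nat.cast_ne_zero.mpr Nat.card_pos.ne'
  set γ : ℂ := (Nat.card (Subgroup.centralizer ((P : Subgroup G) : Set G)) : ℂ) with hγ
  have hγ0 : γ ≠ 0 := Nat.cast_ne_zero.mpr Nat.card_pos.ne'
  obtain ⟨⟨ψ, hψ⟩, rfl⟩ := Quotient.exists_rep o
  obtain ⟨⟨ψ', hψ'⟩, rfl⟩ := Quotient.exists_rep o'
  rw [if_congr (orb_eq_iff hψ hψ') rfl rfl]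
  apply Int.cast_injective (α := ℂ)
  refine mul_right_cancel₀ (mul_ne_zero hq0 hγ0) ?_
  have hconj : ∀ χ : IrrCharacter G, (vec χ ψ' : ℂ) =
      q⁻¹ * ∑ y : (P : Subgroup G), (χ : G → ℂ) (y : G)⁻¹ * (((ψ' y : ℂˣ) : ℂ) - 1) := by
    intro χ
    have h1 : conj (vec χ ψ' : ℂ) = (vec χ ψ' : ℂ) := map_intCast _ _
    rw [← h1, vec_spec, vecC, map_mul, map_inv₀, Complex.conj_natCast, map_sum]
    congr 1
    exact sum_congr rfl fun y _ => by
      rw [map_mul, map_sub, map_one, conj_irr, conj_apply, inv_inv]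
  have hT : ∀ n : Subgroup.normalizer ((P : Subgroup G) : Set G),
      ∑ y : (P : Subgroup G), (((ψ y⁻¹ : ℂˣ) : ℂ) - 1) * (((ψ' (cj P n y) : ℂˣ) : ℂ) - 1) =
        q * ((if ψ'.comp (cj P n) = ψ then 1 else 0) + 1) := by
    intro n
    have hφ : ψ'.comp (cj P n) ≠ 1 := fun h1 => hψ' (by
      have h2 := congrArg (fun θ : Dual P => θ.comp (cj P n⁻¹)) h1
      simpa only [MonoidHom.comp_assoc, ← cj_mul, mul_inv_cancel, cj_one, MonoidHom.comp_id,
        MonoidHom.one_comp] using h2)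
    have e1 : ∑ y : (P : Subgroup G), ((ψ y⁻¹ : ℂˣ) : ℂ) = 0 := by
      refine (Fintype.sum_equiv (Equiv.inv (P : Subgroup G)) (fun y => ((ψ y⁻¹ : ℂˣ) : ℂ))
        (fun y => ((ψ y : ℂˣ) : ℂ)) (fun y => rfl)).trans ?_
      rw [sum_apply, if_neg hψ]
    have e2 : ∑ y : (P : Subgroup G), ((ψ' (cj P n y) : ℂˣ) : ℂ) = 0 := by
      have := sum_apply (ψ'.comp (cj P n))
      rw [if_neg hφ] at this
      exact this
    have e3 : ∑ y : (P : Subgroup G), ((ψ y⁻¹ : ℂˣ) : ℂ) * ((ψ' (cj P n y) : ℂˣ) : ℂ) =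
        if ψ'.comp (cj P n) = ψ then q else 0 := by
      have := sum_apply (ψ⁻¹ * ψ'.comp (cj P n))
      simp only [MonoidHom.mul_apply, MonoidHom.inv_apply, Units.val_mul, MonoidHom.comp_apply,
        ← map_inv] at this
      rw [this]
      exact if_congr ⟨fun h1 => MonoidHom.ext fun w => (inv_mul_eq_one.mp (DFunLike.congr_fun h1 w)).symm,
        fun h1 => MonoidHom.ext fun w => inv_mul_eq_one.mpr (DFunLike.congr_fun h1 w).symm⟩ rfl rfl
    simp only [sub_mul, mul_sub, one_mul, mul_one, sum_sub_distrib, e1, e2, e3, sum_const, card_univ,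
      nsmul_eq_mul, ← Nat.card_eq_fintype_card, ← hq]
    split_ifs <;> ring
  calc ((∑ χ ∈ members M G, vecO χ (orb ψ hψ) * vecO χ (orb ψ' hψ') : ℤ) : ℂ) * (q * γ)
      = ∑ χ ∈ members M G, (vec χ ψ : ℂ) * (vec χ ψ' : ℂ) * (q * γ) := by
        push_cast
        rw [Finset.sum_mul]
        exact sum_congr rfl fun χ _ => by rw [← vec_eq_vecO χ hψ, ← vec_eq_vecO χ hψ']
    _ = q⁻¹ * γ * ∑ y : (P : Subgroup G), ∑ y' : (P : Subgroup G),
          (((ψ y⁻¹ : ℂˣ) : ℂ) - 1) * (((ψ' y' : ℂˣ) : ℂ) - 1) *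
            ∑ χ ∈ members M G, (χ : G → ℂ) y * (χ : G → ℂ) (y' : G)⁻¹ := by
        have hprod : ∀ χ : IrrCharacter G, (vec χ ψ : ℂ) * (vec χ ψ' : ℂ) * (q * γ) =
            q⁻¹ * γ * ∑ y : (P : Subgroup G), ∑ y' : (P : Subgroup G),
              (((ψ y⁻¹ : ℂˣ) : ℂ) - 1) * (((ψ' y' : ℂˣ) : ℂ) - 1) *
                ((χ : G → ℂ) y * (χ : G → ℂ) (y' : G)⁻¹) := by
          intro χ
          have e : ∑ y : (P : Subgroup G), ∑ y' : (P : Subgroup G),
              (((ψ y⁻¹ : ℂˣ) : ℂ) - 1) * (((ψ' y' : ℂˣ) : ℂ) - 1) *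
                ((χ : G → ℂ) y * (χ : G → ℂ) (y' : G)⁻¹) =
              (∑ y : (P : Subgroup G), (χ : G → ℂ) y * (((ψ y⁻¹ : ℂˣ) : ℂ) - 1)) *
                ∑ y' : (P : Subgroup G), (χ : G → ℂ) (y' : G)⁻¹ * (((ψ' y' : ℂˣ) : ℂ) - 1) := by
            rw [Finset.sum_mul_sum]
            exact sum_congr rfl fun y _ => sum_congr rfl fun y' _ => by ring
          rw [e, hconj, vec_spec, vecC, ← hq]
          field_simp
        rw [Finset.sum_congr rfl fun χ _ => hprod χ, ← mul_sum, Finset.sum_comm]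
        congr 1
        refine sum_congr rfl fun y _ => ?_
        rw [Finset.sum_comm]
        exact sum_congr rfl fun y' _ => (mul_sum _ _ _).symm
    _ = ∑ y : (P : Subgroup G), ∑ n : Subgroup.normalizer ((P : Subgroup G) : Set G),
          (((ψ y⁻¹ : ℂˣ) : ℂ) - 1) * (((ψ' (cj P n y) : ℂˣ) : ℂ) - 1) := by
        rw [mul_sum]
        refine sum_congr rfl fun y _ => ?_
        by_cases hy : y = 1
        · subst hy
          simp
        · rw [← mul_sum, ← sum_isConj h y hy fun y' => ((ψ' y' : ℂˣ) : ℂ) - 1, ← hγ,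
            Finset.sum_mul, mul_sum, mul_sum]
          refine sum_congr rfl fun y' _ => ?_
          rw [sum_mul_section hM h y y' hy]
          split_ifs
          · rw [← hq]
            field_simp
          · simp
    _ = ∑ n : Subgroup.normalizer ((P : Subgroup G) : Set G),
          q * ((if ψ'.comp (cj P n) = ψ then 1 else 0) + 1) := by
        rw [Finset.sum_comm]
        exact sum_congr rfl fun n _ => hT n
    _ = _ := by
        rw [← mul_sum, sum_add_distrib, sum_boole, card_transporter h hψ, sum_const, card_univ,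
          ← Nat.card_eq_fintype_card, natCard_normalizer, nsmul_eq_mul, mul_one]
        split_ifs with hr <;> simp [hr, hγ] <;> ring

omit hM in
/-- Fourier inversion. -/
theorem apply_eq_sum (χ : IrrCharacter G) {y : (P : Subgroup G)} (hy : y ≠ 1) :
    (χ : G → ℂ) (y : G) = ∑ ψ : Dual P, (vec χ ψ : ℂ) * ((ψ y : ℂˣ) : ℂ) := by
  classical
  have hq0 : (Nat.card P : ℂ) ≠ 0 := Nat.cast_ne_zero.mpr Nat.card_pos.ne'
  simp only [vec_spec, vecC, mul_assoc, Finset.sum_mul, mul_sub, sub_mul, mul_one, sum_sub_distrib]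
  rw [← mul_sum, ← mul_sum, Finset.sum_comm]
  have h1 : ∀ w : (P : Subgroup G), ∑ ψ : Dual P,
      (χ : G → ℂ) w * (((ψ w⁻¹ : ℂˣ) : ℂ) * ((ψ y : ℂˣ) : ℂ)) =
      if w = y then (χ : G → ℂ) w * (Nat.card P : ℂ) else 0 := by
    intro w
    rw [← mul_sum, Finset.sum_congr rfl (g := fun ψ : Dual P => ((ψ (w⁻¹ * y) : ℂˣ) : ℂ))
      (fun ψ _ => by rw [map_mul, Units.val_mul]), sum_dual h, mul_ite, mul_zero]
    exact if_congr inv_mul_eq_one rfl rfl
  rw [sum_congr rfl fun w _ => h1 w, sum_ite_eq' univ y, if_pos (mem_univ _), Finset.sum_comm,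
    sum_eq_zero (s := (univ : Finset (P : Subgroup G))) (fun w _ => by
      rw [← mul_sum, sum_dual h, if_neg hy, mul_zero]), mul_zero, sub_zero]
  field_simp

/-- No member of the principal block has zero vector. -/
theorem exists_vecO_ne_zero (hP1 : Nat.card P ≠ 1) {χ : IrrCharacter G} (hχ : χ ∈ members M G) :
    ∃ o : Orb P, vecO χ o ≠ 0 := by
  classical
  have := isPrime hM
  have hp : p.Prime := Fact.out
  by_contra hno
  push Not at hno
  have hvan : ∀ g : G, orderOf g = p → (χ : G → ℂ) g = 0 := by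
    intro g hg
    obtain ⟨T, hT⟩ := (IsPGroup.of_card (n := 1) (by rw [Nat.card_zpowers, hg, pow_one]) :
      IsPGroup p (Subgroup.zpowers g)).exists_le_sylow
    obtain ⟨c, hc⟩ := MulAction.exists_smul_eq G T P
    have hmem : c * g * c⁻¹ ∈ (P : Subgroup G) := by
      rw [← hc]
      exact ⟨g, hT (Subgroup.mem_zpowers g), rfl⟩
    have h1 : (⟨c * g * c⁻¹, hmem⟩ : (P : Subgroup G)) ≠ 1 := by
      intro h1
      have h2 : c * g * c⁻¹ = 1 := congrArg Subtype.val h1
      rw [conj_eq_one_iff] at h2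
      rw [h2, orderOf_one] at hg
      exact hp.ne_one hg.symm
    rw [← irr_class χ g c]
    show (χ : G → ℂ) ((⟨c * g * c⁻¹, hmem⟩ : (P : Subgroup G)) : G) = 0
    rw [apply_eq_sum h χ h1]
    refine sum_eq_zero fun ψ _ => ?_
    by_cases hψ : ψ = 1
    · rw [hψ, vec_one, Int.cast_zero, zero_mul]
    · rw [vec_eq_vecO χ hψ, hno, Int.cast_zero, zero_mul]
  have h1 : blockOf M (χ : G → ℂ) = {χ} := by
    refine blockOf_eq_singleton_of_not_dvd hM χ fun hdvd => ?_
    have hd := factorization_charDegree_of_vanishes χ hvan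
    have h2 := (hp.dvd_iff_one_le_factorization (Nat.div_pos (Nat.le_of_dvd Nat.card_pos
      (charDegree_dvd_card χ)) (charDegree_pos χ)).ne').mp hdvd
    rw [Nat.factorization_div (charDegree_dvd_card χ), Finsupp.tsub_apply, hd] at h2
    omega
  have h2 : oneIrr G ∈ blockOf M (χ : G → ℂ) := by
    rw [← isPBlock_eq_blockOf isPBlock_principal (mem_members.mp hχ)]
    exact oneIrr_mem
  rw [h1] at h2
  have h3 : oneIrr G = χ := h2
  obtain ⟨ψ, hψ⟩ : ∃ ψ : Dual P, ψ ≠ 1 := by
    haveI : Nontrivial (P : Subgroup G) :=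
      Finite.one_lt_card_iff_nontrivial.mp (by have := Nat.card_pos (α := P); omega)
    obtain ⟨y, hy⟩ := exists_ne (1 : (P : Subgroup G))
    obtain ⟨ψ, hψ⟩ := exists_dual_ne_one h hy
    exact ⟨ψ, fun h1 => hψ (by rw [h1]; rfl)⟩
  have h4 := hno (orb ψ hψ)
  rw [← h3, vecO_one h] at h4
  exact absurd h4 (by norm_num)

omit hM in
/-- A member whose vector is constant takes a constant value on the sections. -/
theorem apply_of_const (χ : IrrCharacter G) (c : ℤ) (hc : ∀ o : Orb P, vecO χ o = c)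
    {y : (P : Subgroup G)} (hy : y ≠ 1) : (χ : G → ℂ) (y : G) = -(c : ℂ) := by
  classical
  rw [apply_eq_sum h χ hy, ← Finset.add_sum_erase _ _ (mem_univ (1 : Dual P)), vec_one,
    Int.cast_zero, zero_mul, zero_add, sum_congr rfl (g := fun ψ : Dual P => (c : ℂ) * ((ψ y : ℂˣ) : ℂ))
      (fun ψ hψ => by rw [vec_eq_vecO χ (ne_of_mem_erase hψ), hc]), ← mul_sum,
    Finset.sum_erase_eq_sub (mem_univ _), sum_dual h, if_neg hy]
  simp

omit hM in
open scoped Classical in
/-- The values of a member whose vector is constant but at one orbit. -/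
theorem apply_of_exceptional (χ : IrrCharacter G) (d ε : ℤ) {ψ : Dual P} (hψ : ψ ≠ 1)
    (hv : ∀ o : Orb P, vecO χ o = d + if o = orb ψ hψ then ε else 0)
    {y : (P : Subgroup G)} (hy : y ≠ 1) : (χ : G → ℂ) (y : G) =
      -(d : ℂ) + (ε : ℂ) * ∑ φ ∈ univ.filter (fun φ : Dual P => Rel φ ψ), ((φ y : ℂˣ) : ℂ) := by
  rw [apply_eq_sum h χ hy, sum_congr rfl (g := fun φ : Dual P =>
    (d : ℂ) * ((φ y : ℂˣ) : ℂ) - (if φ = 1 then (d : ℂ) else 0) +
      (ε : ℂ) * (if Rel φ ψ then ((φ y : ℂˣ) : ℂ) else 0)) (fun φ _ => ?_),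
    sum_add_distrib, sum_sub_distrib, ← mul_sum, ← mul_sum, sum_dual h, if_neg hy, sum_ite_eq',
    if_pos (mem_univ _), ← sum_filter, mul_zero, zero_sub]
  by_cases hφ : φ = 1
  · subst hφ
    have hrel : ¬ Rel (1 : Dual P) ψ := fun hr => by
      obtain ⟨n, hn⟩ := rel_symm hr
      rw [MonoidHom.one_comp] at hn
      exact hψ hn.symm
    rw [vec_one, if_pos rfl, if_neg hrel]
    simp
  · rw [vec_eq_vecO χ hφ, hv, if_neg hφ, if_congr (orb_eq_iff hφ hψ) rfl rfl]
    split_ifs <;> push_cast <;> ring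

end Cfsg.Agent.BlocksCore.AbelianPrincipal
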