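import Cfsg.Agent.Lib.BlocksCore.FirstMain
import Cfsg.Agent.Lib.BlocksDefect.Pairing
import Cfsg.Agent.Blocks88.Modular
import Cfsg.Agent.Lib.BlocksCore.DefectZero

/-!
# Characters vanishing at all elements of order `p`

If `χ` vanishes at the elements of order `p`, the central character of `χ` sends the sum of the
elements `x` with `x ^ p = 1` to `1`. Modulo `p` the Brauer map of a nontrivial defect group `D`
sends this sum into a nilpotent ideal, as the elements `z` of `Z(D)` with `z ^ p = 1` permute
the set of such `x` in the centralizer of `D` without fixed points. So `D` is trivial.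
-/

set_option linter.unusedSectionVars false

namespace Cfsg.Agent.BlocksCore

open BlocksDefect

variable {G : Type*} [Group G] [Fintype G] {p : ℕ} [Fact p.Prime] {M : Ideal AlgInt}

/-- The indicator function of the elements with `x ^ p = 1`. -/
noncomputable def powInd (G : Type*) [Group G] (p : ℕ) : G → ℂ :=
  {x : G | x ^ p = 1}.indicator 1

theorem isIntClassFun_powInd [M.IsPrime] : IsIntClassFun M (powInd G p) := by
  refine ⟨fun x g => ?_, fun x => ?_⟩
  · by_cases h : x ^ p = 1
    · rw [powInd, Set.indicator_of_mem (show x ∈ {x : G | x ^ p = 1} from h), Set.indicator_of_mem]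
      · rfl
      · show (g * x * g⁻¹) ^ p = 1
        rw [conj_pow, h, mul_one, mul_inv_cancel]
    · rw [powInd, Set.indicator_of_notMem (show x ∉ {x : G | x ^ p = 1} from h),
        Set.indicator_of_notMem]
      intro h'
      have h'' : (g * x * g⁻¹) ^ p = 1 := h'
      rw [conj_pow, conj_eq_one_iff] at h''
      exact h h''
  · by_cases h : x ^ p = 1
    · rw [powInd, Set.indicator_of_mem (show x ∈ {x : G | x ^ p = 1} from h)]
      exact (localRing M).one_mem
    · rw [powInd, Set.indicator_of_notMem (show x ∉ {x : G | x ^ p = 1} from h)]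
      exact (localRing M).zero_mem

theorem omega_powInd {χ : IrrCharacter G} (hvan : ∀ g : G, orderOf g = p → (χ : G → ℂ) g = 0) :
    omega (χ : G → ℂ) (powInd G p) = 1 := by
  classical
  rw [omega_eq_sum, Finset.sum_eq_single 1]
  · rw [powInd, Set.indicator_of_mem (show (1 : G) ∈ {x : G | x ^ p = 1} from one_pow p),
      Pi.one_apply, one_mul, div_self (irr_one_ne_zero χ)]
  · intro g _ hg
    by_cases h : g ^ p = 1
    · rw [hvan g (orderOf_eq_prime h hg), mul_zero]
    · rw [powInd, Set.indicator_of_notMem (show g ∉ {x : G | x ^ p = 1} from h), zero_mul]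
  · exact fun h => absurd (Finset.mem_univ _) h

/-- The block of a character vanishing at the elements of order `p` has trivial defect groups. -/
theorem defectGroup_eq_bot_of_vanishes (hM : IsPModular p M) {χ : IrrCharacter G}
    (hvan : ∀ g : G, orderOf g = p → (χ : G → ℂ) g = 0) {D : Subgroup G}
    (hD : IsDefectGroup p M (blockOf M (χ : G → ℂ)) D) : D = ⊥ := by
  classical
  have := isPrime hM
  by_contra hne
  have hDp := isPGroup_of_isDefectGroup hD
  haveI : Nontrivial D := (Subgroup.nontrivial_iff_ne_bot D).mpr hne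
  haveI := hDp.center_nontrivial
  obtain ⟨⟨u, huc⟩, hu1⟩ := exists_ne (1 : Subgroup.center D)
  obtain ⟨k, hk⟩ := IsPGroup.iff_orderOf.mp hDp u
  obtain ⟨b, hb, hbD, hind⟩ := exists_inducing_normalizer hM hDp (isPBlock_blockOf χ) hD
  set N := Subgroup.normalizer (D : Set G) with hN
  obtain ⟨ξ, hξ⟩ := isPBlock_nonempty hb
  set C := Subgroup.centralizer (D : Set G) with hC
  have hcommp : ∀ x z : G, x ∈ C → z ∈ D → (x * z) ^ p = x ^ p * z ^ p := fun x z hx hz =>
    (show Commute x z from (Subgroup.mem_centralizer_iff.mp hx z hz).symm).mul_pow p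
  let Z : Subgroup N :=
    { carrier := {z | (z : G) ∈ D ∧ (z : G) ∈ C ∧ (z : G) ^ p = 1}
      one_mem' := ⟨one_mem _, one_mem _, one_pow p⟩
      mul_mem' := fun {x y} hx hy => ⟨mul_mem hx.1 hy.1, mul_mem hx.2.1 hy.2.1, by
        rw [Subgroup.coe_mul, hcommp _ _ hx.2.1 hy.1, hx.2.2, hy.2.2, one_mul]⟩
      inv_mem' := fun {x} hx => ⟨by simpa using hx.1, by simpa using hx.2.1,
        by rw [Subgroup.coe_inv, inv_pow, hx.2.2, inv_one]⟩ }
  haveI : Z.Normal := ⟨fun z hz n =>
    ⟨by simpa using (Subgroup.mem_normalizer_iff.mp n.2 _).mp hz.1,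
      by simpa using (conj_mem_centralizer_iff n.2).mpr hz.2.1,
      by
        show ((n : G) * (z : G) * (n : G)⁻¹) ^ p = 1
        rw [conj_pow, hz.2.2, mul_one, mul_inv_cancel]⟩⟩
  have hZp : IsPGroup p Z := fun z => ⟨1, Subtype.ext (Subtype.ext (by simpa using z.2.2.2))⟩
  have hZ1 : Z ≠ ⊥ := by
    have hu : (u : D) ≠ 1 := fun h => hu1 (Subtype.ext h)
    obtain ⟨j, rfl⟩ : ∃ j, k = j + 1 := Nat.exists_eq_succ_of_ne_zero fun h0 => hu
      (orderOf_eq_one_iff.mp (by rw [hk, h0, pow_zero]))
    set z : D := u ^ p ^ j with hz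
    have hzc : z ∈ Subgroup.center D := pow_mem huc _
    have hzp : z ^ p = 1 := by
      rw [hz, ← pow_mul, ← pow_succ, ← hk, pow_orderOf_eq_one]
    have hz1 : z ≠ 1 := fun h => by
      have h1 := orderOf_dvd_of_pow_eq_one h
      rw [hk] at h1
      exact Nat.not_succ_le_self j ((Nat.pow_dvd_pow_iff_le_right (Fact.out : p.Prime).one_lt).mp h1)
    have hzC : (z : G) ∈ C := Subgroup.mem_centralizer_iff.mpr fun w hw =>
      congrArg Subtype.val (Subgroup.mem_center_iff.mp hzc ⟨w, hw⟩)
    intro hbot
    have hmem : (⟨(z : G), Subgroup.le_normalizer z.2⟩ : N) ∈ Z :=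
      ⟨z.2, hzC, by simpa using congrArg (Subtype.val : D → G) hzp⟩
    rw [hbot, Subgroup.mem_bot] at hmem
    exact hz1 (Subtype.ext (congrArg (Subtype.val : N → G) hmem))
  set f := brRes D N (powInd G p) with hf
  have hfI : IsIntClassFun M f := isIntClassFun_brRes le_rfl isIntClassFun_powInd
  have hfz : ∀ (x : N), ∀ z ∈ Z, f (x * z) = f x := by
    intro x z hz
    by_cases hx : (x : G) ∈ C
    · have hxz : ((x * z : N) : G) ∈ C := mul_mem hx hz.2.1
      rw [hf, brRes_of_mem _ hxz, brRes_of_mem _ hx]
      have e : ((x * z : N) : G) ^ p = (x : G) ^ p := by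
        rw [Subgroup.coe_mul, hcommp _ _ hx hz.1, hz.2.2, mul_one]
      simp only [powInd, Set.indicator_apply, Set.mem_setOf_eq, e, Pi.one_apply]
    · have hxz : ((x * z : N) : G) ∉ C := fun h => hx (by simpa using mul_mem h (inv_mem hz.2.1))
      rw [hf, brRes_of_notMem _ hxz, brRes_of_notMem _ hx]
  haveI := Fintype.ofFinite N
  have hpush : ∀ q, MemLocalIdeal M (pushFun Z f q) := by
    intro q
    induction q using QuotientGroup.induction_on with
    | H x =>
      rw [pushFun_apply, ← Finset.sum_filter]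
      have hcard : Finset.univ.filter (fun g : N => QuotientGroup.mk' Z g = (x : N ⧸ Z)) =
          (Finset.univ.filter (fun g : N => g ∈ Z)).map
            ⟨fun z => x * z, mul_right_injective x⟩ := by
        ext g
        constructor
        · intro h
          have h' : (g : N ⧸ Z) = (x : N ⧸ Z) := (Finset.mem_filter.mp h).2
          exact Finset.mem_map.mpr ⟨x⁻¹ * g,
            Finset.mem_filter.mpr ⟨Finset.mem_univ _, QuotientGroup.eq.mp h'.symm⟩,
            mul_inv_cancel_left x g⟩
        · intro h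
          obtain ⟨z, hz, rfl⟩ := Finset.mem_map.mp h
          refine Finset.mem_filter.mpr ⟨Finset.mem_univ _, ?_⟩
          have hz' : x⁻¹ * (x * z) ∈ Z := by
            rw [inv_mul_cancel_left]
            exact (Finset.mem_filter.mp hz).2
          exact (QuotientGroup.eq.mpr hz').symm
      rw [hcard, Finset.sum_map]
      simp only [Function.Embedding.coeFn_mk]
      rw [Finset.sum_congr rfl fun z hz =>
        hfz x z (Finset.mem_filter.mp hz).2, Finset.sum_const, nsmul_eq_mul,
        ← Fintype.card_subtype, ← Nat.card_eq_fintype_card]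
      refine memLocalIdeal_mul_right ((memLocalIdeal_natCast_iff hM _).mpr ?_) (hfI.2 x)
      obtain ⟨m, hm⟩ := IsPGroup.iff_card.mp hZp
      have hm0 : m ≠ 0 := fun h => hZ1 (Z.eq_bot_of_card_eq (by rw [hm, h, pow_zero]))
      exact hm ▸ dvd_pow_self p hm0
  have h1 := omega_memLocalIdeal_of_pushFun hM ξ Z hZp hfI hpush
  have h2 := omega_res_sub_brRes hM hDp Subgroup.le_normalizer le_rfl ξ
    (isIntClassFun_powInd (G := G) (p := p) (M := M))
  have h3 := omega_induced hM hind hξ (mem_blockOf_self χ)
    (isIntClassFun_powInd (G := G) (p := p) (M := M))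
  have h4 := memLocalIdeal_sub (memLocalIdeal_add h2 h1) h3
  rw [sub_add_cancel, sub_sub_cancel, omega_powInd hvan] at h4
  exact not_memLocalIdeal_one h4

/-- Knörr: a character vanishing at the elements of order `p` has `p`-defect zero. -/
theorem factorization_charDegree_of_vanishes (χ : IrrCharacter G)
    (hvan : ∀ g : G, orderOf g = p → (χ : G → ℂ) g = 0) :
    (charDegree (χ : G → ℂ)).factorization p = (Nat.card G).factorization p := by
  obtain ⟨M, hM⟩ := Blocks88.exists_isPModular (Fact.out : p.Prime)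
  have := isPrime hM
  obtain ⟨D, hD⟩ := exists_isDefectGroup hM (isPBlock_blockOf χ)
  have h := defectGroup_natCard hM (isPBlock_blockOf χ) hD
  rw [defectGroup_eq_bot_of_vanishes hM hvan hD, Subgroup.card_bot] at h
  have h0 : blockDefect p (blockOf M (χ : G → ℂ)) = 0 := by
    by_contra hne
    exact (Nat.one_lt_pow hne (Fact.out : p.Prime).one_lt).ne h
  rw [blockDefect, Nat.sub_eq_zero_iff_le] at h0
  exact le_antisymm ((Nat.factorization_le_iff_dvd (charDegree_pos χ).ne' Nat.card_pos.ne').mpr
    (charDegree_dvd_card χ) p)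
    (h0.trans (Nat.sInf_le ⟨χ, mem_blockOf_self χ, rfl⟩))

end Cfsg.Agent.BlocksCore
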