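import Cfsg.Agent.Lib.BlocksCore.SectionKernel
import Cfsg.Agent.Lib.BlocksCore.Knorr
import Cfsg.Agent.Lib.BlocksCore.DefectZero
import Cfsg.Agent.Lib.BlocksCore.SecondMain
import Cfsg.Agent.Lib.CharCore.Complete
import Cfsg.Prelude.Def_BlockRank

/-!
# The principal `2`-block for a Klein four Sylow subgroup with one class of involutions
-/

set_option linter.unusedSectionVars false

namespace Cfsg.Agent.BlocksCore.KleinBlock

open BlocksDefect

variable {G : Type*} [Group G] [Fintype G] {M : Ideal AlgInt}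

/-- The value of a character at an involution is an integer. -/
theorem exists_int_of_sq (χ : IrrCharacter G) {z : G} (hz : z ^ 2 = 1) :
    ∃ n : ℤ, (χ : G → ℂ) z = n := by
  classical
  obtain ⟨m, ρ, -, hρ⟩ := χ.2
  obtain ⟨b, ω, hb⟩ := CharCore.exists_eigenbasis (ρ z) (m := 2) (by norm_num)
    (by rw [← map_pow, hz, map_one])
  have hω : ∀ i, ∃ n : ℤ, ω i = n := fun i => by
    rcases sq_eq_one_iff.mp (hb i).1 with h | h
    · exact ⟨1, by simp [h]⟩
    · exact ⟨-1, by simp [h]⟩
  choose n hn using hω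
  refine ⟨∑ i, n i, ?_⟩
  rw [← hρ]
  show LinearMap.trace ℂ _ (ρ z) = _
  rw [CharCore.trace_eq_sum_of_eigenbasis b ω (ρ z) fun i => (hb i).2, Int.cast_sum]
  exact Finset.sum_congr rfl fun i _ => hn i

/-- In a Klein four Sylow subgroup, normalizing and fixing an involution implies centralizing. -/
theorem normalizer_fix (P : Sylow 2 G) (hP : Nat.card P = 4) (hexp : ∀ x : P, x * x = 1) {z : G}
    (hzP : z ∈ (P : Subgroup G)) (hz : orderOf z = 2) :
    ∀ n ∈ Subgroup.normalizer ((P : Subgroup G) : Set G),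
      n ∈ Subgroup.centralizer ({z} : Set G) → n ∈ Subgroup.centralizer ((P : Subgroup G) : Set G) := by
  classical
  have hsq : ∀ a ∈ (P : Subgroup G), a * a = 1 := fun a ha => congrArg Subtype.val (hexp ⟨a, ha⟩)
  have hcomm : ∀ a ∈ (P : Subgroup G), ∀ b ∈ (P : Subgroup G), a * b = b * a := fun a ha b hb => by
    have h := hsq _ (mul_mem ha hb)
    calc a * b = a * (a * b * (a * b)) * b := by rw [h, mul_one]
      _ = a * a * (b * a) * (b * b) := by group
      _ = b * a := by rw [hsq a ha, hsq b hb, one_mul, mul_one]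
  have hz1 : z ≠ 1 := fun h => by rw [h, orderOf_one] at hz; omega
  intro n hnN hnC
  have hnz : n * z = z * n := Subgroup.mem_centralizer_singleton_iff.mp hnC
  -- the square centralizes `P`
  have hmem : ∀ a ∈ (P : Subgroup G), n * a * n⁻¹ = a ∨ n * a * n⁻¹ = z * a := by
    intro a ha
    have hb : n * a * n⁻¹ ∈ (P : Subgroup G) := (Subgroup.mem_normalizer_iff.mp hnN a).mp ha
    by_contra hcon
    rw [not_or] at hcon
    have ha1 : a ≠ 1 := fun h => hcon.1 (by rw [h]; simp)
    have haz : a ≠ z := fun h => hcon.1 (by rw [h, hnz, mul_inv_cancel_right])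
    set b := n * a * n⁻¹ with hbdef
    have hb1 : b ≠ 1 := fun h => ha1 (conj_eq_one_iff.mp h)
    have hbz : b ≠ z := fun h => haz (mul_left_cancel (a := n) (by
      rw [hnz]; exact mul_inv_eq_iff_eq_mul.mp h))
    have hS : ({(⟨1, one_mem _⟩ : P), ⟨z, hzP⟩, ⟨a, ha⟩, ⟨z * a, mul_mem hzP ha⟩, ⟨b, hb⟩} :
        Finset P).card = 5 := by
      have hza1 : z * a ≠ 1 := fun h => haz (by
        calc a = z * z * a := by rw [hsq z hzP, one_mul]
          _ = z * (z * a) := mul_assoc _ _ _
          _ = z := by rw [h, mul_one])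
      rw [Finset.card_insert_of_notMem, Finset.card_insert_of_notMem, Finset.card_insert_of_notMem,
        Finset.card_insert_of_notMem, Finset.card_singleton] <;>
        simp [Subtype.ext_iff, hz1.symm, ha1.symm, haz.symm, hza1.symm, hb1.symm, hbz.symm,
          Ne.symm hcon.1, Ne.symm hcon.2, ha1, hz1]
    have := Finset.card_le_univ ({(⟨1, one_mem _⟩ : P), ⟨z, hzP⟩, ⟨a, ha⟩,
      ⟨z * a, mul_mem hzP ha⟩, ⟨b, hb⟩} : Finset P)
    rw [hS, ← Nat.card_eq_fintype_card, hP] at this
    omega
  have hsq2 : n ^ 2 ∈ Subgroup.centralizer ((P : Subgroup G) : Set G) := by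
    rw [Subgroup.mem_centralizer_iff]
    intro a ha
    have h2 : n ^ 2 * a * (n ^ 2)⁻¹ = a := by
      rw [show n ^ 2 * a * (n ^ 2)⁻¹ = n * (n * a * n⁻¹) * n⁻¹ by simp only [pow_two, mul_inv_rev, mul_assoc]]
      rcases hmem a ha with h | h
      · rw [h, h]
      · rw [h, show n * (z * a) * n⁻¹ = n * z * n⁻¹ * (n * a * n⁻¹) by group, h, hnz,
          mul_inv_cancel_right, ← mul_assoc, hsq z hzP, one_mul]
    exact (mul_inv_eq_iff_eq_mul.mp h2).symm
  rw [Subgroup.mem_centralizer_iff]
  intro a ha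
  have hc : a ∈ Subgroup.centralizer ({n ^ 2} : Set G) := Subgroup.mem_centralizer_singleton_iff.mpr
    (Subgroup.mem_centralizer_iff.mp hsq2 a ha)
  by_cases hodd : Odd (orderOf n)
  · obtain ⟨j, hj⟩ := hodd
    have hn : n = (n ^ 2) ^ (j + 1) := by
      rw [← pow_mul, show 2 * (j + 1) = orderOf n + 1 by omega, pow_succ, pow_orderOf_eq_one, one_mul]
    rw [hn]
    exact (Commute.pow_right (show Commute a (n ^ 2) from Subgroup.mem_centralizer_singleton_iff.mp hc)
      (j + 1)).eq
  · -- write `n` as a `2`-element times an element of odd order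
    obtain ⟨x, y, rfl, hxy, ⟨k, hx⟩, hy⟩ := exists_pPart (p := 2) Nat.prime_two n
    have hyo : Odd (orderOf y) := Nat.odd_iff.mpr (by omega)
    obtain ⟨j, hj⟩ := hyo
    have hy2 : y = (y ^ 2) ^ (j + 1) := by
      rw [← pow_mul, show 2 * (j + 1) = orderOf y + 1 by omega, pow_succ, pow_orderOf_eq_one, one_mul]
    have hye : ∃ t : ℕ, y = (x * y) ^ t ∧ Even t := by
      obtain ⟨t, ht1, ht2⟩ := Nat.chineseRemainder
        (Nat.Coprime.pow_left (k + 1) ((Nat.Prime.coprime_iff_not_dvd Nat.prime_two).mpr hy) :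
          (2 ^ (k + 1)).Coprime (orderOf y)) 0 1
      refine ⟨t, ?_, even_iff_two_dvd.mpr
        ((dvd_pow_self 2 (Nat.succ_ne_zero k)).trans (Nat.modEq_zero_iff_dvd.mp ht1))⟩
      have hxt : x ^ t = 1 := orderOf_dvd_iff_pow_eq_one.mp
        (hx ▸ (pow_dvd_pow 2 (Nat.le_succ k)).trans (Nat.modEq_zero_iff_dvd.mp ht1))
      rw [hxy.mul_pow, hxt, one_mul]
      conv_lhs => rw [← pow_one y]
      rw [pow_eq_pow_iff_modEq]
      exact ht2.symm
    obtain ⟨t, hyt, u, hu⟩ := hye
    have hyc : Commute a y := by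
      rw [hyt, show t = 2 * u by omega, pow_mul]
      exact Commute.pow_right (Subgroup.mem_centralizer_singleton_iff.mp hc) u
    have hxP : x ∈ (P : Subgroup G) := by
      have hxN : x ∈ Subgroup.normalizer ((P : Subgroup G) : Set G) := by
        have hyN : y ∈ Subgroup.normalizer ((P : Subgroup G) : Set G) := by
          rw [hyt]
          exact pow_mem hnN t
        have h := mul_mem hnN (inv_mem hyN)
        rwa [mul_inv_cancel_right] at h
      have hxp : IsPGroup 2 (Subgroup.zpowers x) :=
        IsPGroup.of_card (n := k) (by rw [Nat.card_zpowers, hx])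
      have hsup := P.2.to_sup_of_normal_left' hxp (Subgroup.zpowers_le.mpr hxN)
      exact (P.3 hsup le_sup_left) ▸ Subgroup.mem_sup_right (Subgroup.mem_zpowers x)
    exact ((show Commute a x from hcomm a ha x hxP).mul_right hyc).eq

variable [M.IsPrime]

/-- Four characters and a relation space of dimension one. -/
theorem blockRank_eq (hM : IsPModular 2 M) (P : Sylow 2 G) (hP : Nat.card P = 4)
    (hexp : ∀ x : P, x * x = 1) (hone : ∀ s t : G, orderOf s = 2 → orderOf t = 2 → IsConj s t) :
    Nat.card (principalBlock M G) = 4 ∧ blockRank 2 (principalBlock M G) = 3 := by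
  classical
  haveI : Fact (Nat.Prime 2) := ⟨Nat.prime_two⟩
  haveI := finite_irr (G := G)
  have hsq : ∀ a ∈ (P : Subgroup G), a * a = 1 := fun a ha => congrArg Subtype.val (hexp ⟨a, ha⟩)
  have hcomm : ∀ a ∈ (P : Subgroup G), ∀ b ∈ (P : Subgroup G), a * b = b * a := fun a ha b hb => by
    have h := hsq _ (mul_mem ha hb)
    calc a * b = a * (a * b * (a * b)) * b := by rw [h, mul_one]
      _ = a * a * (b * a) * (b * b) := by group
      _ = b * a := by rw [hsq a ha, hsq b hb, one_mul, mul_one]
  obtain ⟨⟨z, hzP⟩, hzo⟩ := exists_prime_orderOf_dvd_card' (G := P) 2 (by rw [hP]; norm_num)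
  rw [Subgroup.orderOf_mk] at hzo
  have hz2 : z ^ 2 = 1 := by rw [← hzo, pow_orderOf_eq_one]
  have hzinv : z⁻¹ = z := inv_eq_of_mul_eq_one_right (hsq z hzP)
  obtain ⟨K, hKn, hKp, hreg, hKi⟩ := SectionKernel.exists_kernel P hcomm hzP
    (normalizer_fix P hP hexp hzP hzo)
  have hzk : orderOf z = 2 ^ 1 := by rw [hzo, pow_one]
  -- every singular element meets the section of `z`
  have hsing : ∀ g : G, 2 ∣ orderOf g → ∃ (c : G) (y : Subgroup.centralizer ({z} : Set G)),
      y ∈ K ∧ c * g * c⁻¹ = z * y := by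
    intro g hg
    obtain ⟨x, w, rfl, hxw, ⟨j, hx⟩, hw⟩ := exists_pPart (p := 2) Nat.prime_two g
    have hx2 : orderOf x = 2 := by
      obtain ⟨T, hT⟩ := (IsPGroup.of_card (n := j) (by rw [Nat.card_zpowers, hx]) :
        IsPGroup 2 (Subgroup.zpowers x)).exists_le_sylow
      obtain ⟨c, hc⟩ := MulAction.exists_smul_eq G T P
      have hmem : c * x * c⁻¹ ∈ (P : Subgroup G) := by
        rw [← hc]
        exact ⟨x, hT (Subgroup.mem_zpowers x), rfl⟩
      have h1 : orderOf (c * x * c⁻¹) ∣ 2 :=
        orderOf_dvd_of_pow_eq_one (by rw [pow_two]; exact hsq _ hmem)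
      rw [← MulAut.conj_apply, MulEquiv.orderOf_eq] at h1
      rcases (Nat.dvd_prime Nat.prime_two).mp h1 with h | h
      · rw [orderOf_eq_one_iff.mp h, one_mul] at hg
        exact absurd hg hw
      · exact h
    obtain ⟨c, hc⟩ := isConj_iff.mp (hone x z hx2 hzo)
    have hwC : c * w * c⁻¹ ∈ Subgroup.centralizer ({z} : Set G) := by
      rw [Subgroup.mem_centralizer_singleton_iff, ← hc]
      exact ((Commute.map hxw (MulAut.conj c).toMonoidHom).symm : Commute (c * w * c⁻¹) (c * x * c⁻¹))
    refine ⟨c, ⟨c * w * c⁻¹, hwC⟩, hreg _ ?_, ?_⟩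
    · rw [Subgroup.orderOf_mk, ← MulAut.conj_apply, MulEquiv.orderOf_eq]
      exact hw
    · show c * (x * w) * c⁻¹ = z * (c * w * c⁻¹)
      rw [← hc]
      group
  set B := Finset.univ.filter (· ∈ principalBlock M G) with hB
  have hmemB : ∀ χ, χ ∈ B ↔ χ ∈ principalBlock M G := fun χ => by simp [hB]
  have hint : ∀ χ : IrrCharacter G, ∃ n : ℤ, (χ : G → ℂ) z = n := fun χ => exists_int_of_sq χ hz2
  choose v hv using hint
  have hnorm : ∑ χ ∈ B, v χ * v χ = 4 := by
    have h := SectionKernel.sum_norm hM hzk hKp hreg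
    rw [hKi, hP] at h
    simp only [hzinv, Set.indicator_apply, hv] at h
    rw [← Finset.sum_filter] at h
    exact_mod_cast h
  have hone_mem : oneIrr G ∈ B := (hmemB _).mpr oneIrr_mem
  have hv1 : v (oneIrr G) = 1 := by
    have h : (1 : ℂ) = ((v (oneIrr G) : ℤ) : ℂ) := hv (oneIrr G)
    exact_mod_cast h.symm
  have hv0 : ∀ χ ∈ B, v χ ≠ 0 := by
    intro χ hχ hc
    have hvan : ∀ g : G, orderOf g = 2 → (χ : G → ℂ) g = 0 := fun g hg => by
      obtain ⟨c, rfl⟩ := isConj_iff.mp (hone z g hzo hg)
      rw [irr_class χ z c, hv, hc, Int.cast_zero]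
    have h1 : blockOf M (χ : G → ℂ) = {χ} := by
      refine blockOf_eq_singleton_of_not_dvd hM χ fun hdvd => ?_
      have hd := factorization_charDegree_of_vanishes χ hvan
      have h2 := (Nat.prime_two.dvd_iff_one_le_factorization (Nat.div_pos (Nat.le_of_dvd Nat.card_pos
        (charDegree_dvd_card χ)) (charDegree_pos χ)).ne').mp hdvd
      rw [Nat.factorization_div (charDegree_dvd_card χ), Finsupp.tsub_apply, hd] at h2
      omega
    have h2 : oneIrr G ∈ blockOf M (χ : G → ℂ) := by
      rw [← isPBlock_eq_blockOf isPBlock_principal ((hmemB χ).mp hχ)]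
      exact oneIrr_mem
    rw [h1] at h2
    have h3 : oneIrr G = χ := h2
    rw [← h3, hv1] at hc
    exact one_ne_zero hc
  have hcard : B.card = 4 := by
    have h1 : ∀ χ ∈ B, v χ = 1 ∨ v χ = -1 := by
      intro χ hχ
      by_contra hne
      rw [not_or] at hne
      have hab : 4 ≤ v χ * v χ := by
        rcases (hv0 χ hχ).lt_or_gt with h | h
        · have : v χ ≤ -2 := by omega
          nlinarith
        · have : 2 ≤ v χ := by omega
          nlinarith
      have hne1 : χ ≠ oneIrr G := fun h => hne.1 (h ▸ hv1)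
      have h3 := Finset.sum_le_sum_of_subset_of_nonneg (s := ({oneIrr G, χ} : Finset _)) (t := B)
        (f := fun η => v η * v η) (by
          intro η hη
          rcases Finset.mem_insert.mp hη with rfl | hη
          · exact hone_mem
          · exact Finset.mem_singleton.mp hη ▸ hχ) (fun η _ _ => mul_self_nonneg _)
      rw [Finset.sum_pair hne1.symm, hnorm, hv1] at h3
      linarith
    have h2 : ∑ χ ∈ B, v χ * v χ = B.card := by
      rw [Finset.sum_congr rfl (g := fun _ => (1 : ℤ)) fun χ hχ => by rcases h1 χ hχ with h | h <;> simp [h]]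
      simp
    rw [hnorm] at h2
    exact_mod_cast h2.symm
  have hk : Nat.card (principalBlock M G) = 4 := by
    rw [Nat.card_eq_fintype_card, Fintype.card_subtype]
    exact hcard
  refine ⟨hk, ?_⟩
  -- relations
  let R : (principalBlock M G → ℂ) →ₗ[ℂ] (G → ℂ) :=
    Fintype.linearCombination ℂ fun χ : principalBlock M G =>
      pRegularPart 2 ((χ : IrrCharacter G) : G → ℂ)
  let u : principalBlock M G → ℂ := fun χ => ((χ : IrrCharacter G) : G → ℂ) z
  have hcol : ∀ g : G, ¬ 2 ∣ orderOf g →
      ∑ χ : principalBlock M G, u χ * ((χ : IrrCharacter G) : G → ℂ) g = 0 := by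
    intro g hg
    have hxg : IsPPart 2 g⁻¹ 1 :=
      ⟨g⁻¹, one_mul _, Commute.one_left _, ⟨0, by simp⟩, by rwa [orderOf_inv]⟩
    have hxz : IsPPart 2 z z := ⟨1, mul_one _, Commute.one_right _, ⟨1, hzk⟩, by simp⟩
    have h := blockOrth_sections hM (isPBlock_principal (G := G)) hxz hxg (fun h => by
      rw [isConj_one_left] at h
      rw [h, orderOf_one] at hzo
      omega)
    rw [inv_inv] at h
    rw [← h, ← finsum_subtype_eq_finsum_cond, finsum_eq_sum_of_fintype]
  have hu : u ∈ LinearMap.ker R := by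
    refine LinearMap.mem_ker.mpr (funext fun g => ?_)
    simp only [R, Fintype.linearCombination_apply, Finset.sum_apply, Pi.smul_apply, smul_eq_mul,
      pRegularPart, IsPRegular, Pi.zero_apply]
    by_cases hg : 2 ∣ orderOf g
    · exact Finset.sum_eq_zero fun χ _ => by simp [hg]
    · refine Eq.trans (Finset.sum_congr rfl fun χ _ => ?_) (hcol g hg)
      simp [hg]
  have hu4 : ∑ χ : principalBlock M G, u χ * u χ = 4 := by
    rw [← Finset.sum_subtype B (fun χ => hmemB χ) (fun χ : IrrCharacter G => (χ : G → ℂ) z * (χ : G → ℂ) z)]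
    rw [Finset.sum_congr rfl fun χ _ => by rw [hv, ← Int.cast_mul], ← Int.cast_sum, hnorm]
    norm_num
  have hker : LinearMap.ker R = Submodule.span ℂ {u} := by
    refine le_antisymm (fun a ha => ?_) (by rwa [Submodule.span_le, Set.singleton_subset_iff])
    set t : ℂ := (∑ χ, a χ * u χ) / 4 with ht
    refine Submodule.mem_span_singleton.mpr ⟨t, (sub_eq_zero.mp ?_).symm⟩
    set w := a - t • u
    set F : G → ℂ := fun g => ∑ χ : principalBlock M G, w χ * ((χ : IrrCharacter G) : G → ℂ) g
    have hwker : w ∈ LinearMap.ker R := Submodule.sub_mem _ ha (Submodule.smul_mem _ t hu)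
    have hF0 : ∀ g, F g = 0 := by
      intro g
      by_cases hg : 2 ∣ orderOf g
      · obtain ⟨c, y, hy, hcy⟩ := hsing g hg
        have e : F g = ∑ χ : principalBlock M G, w χ * u χ := Finset.sum_congr rfl fun χ _ => by
          rw [← irr_class χ.1 g c, hcy, SectionKernel.apply_mul hM hzk hKp hreg χ.2 hy]
        rw [e]
        simp only [w, Pi.sub_apply, Pi.smul_apply, smul_eq_mul, sub_mul, Finset.sum_sub_distrib,
          mul_assoc, ← Finset.mul_sum, hu4, ht]
        ring
      · have h := congrFun (LinearMap.mem_ker.mp hwker) g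
        simp only [R, Fintype.linearCombination_apply, Finset.sum_apply, Pi.smul_apply, smul_eq_mul,
          pRegularPart, IsPRegular, Pi.zero_apply] at h
        refine Eq.trans (Finset.sum_congr rfl fun χ _ => ?_) h
        simp [hg]
    have hF : F = ∑ χ : principalBlock M G, w χ • ((χ : IrrCharacter G) : G → ℂ) := by
      funext g
      simp [F]
    funext χ
    have h1 : classInner F ((χ : IrrCharacter G) : G → ℂ) = w χ := by
      rw [hF, CharCore.classInner_sum_left, Finset.sum_eq_single χ]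
      · rw [CharCore.classInner_smul_left, CharCore.classInner_irr_self, mul_one]
      · intro η _ hne
        rw [CharCore.classInner_smul_left,
          CharCore.classInner_irr_of_ne (fun he => hne (Subtype.ext he)), mul_zero]
      · simp
    rw [← h1, Pi.zero_apply, show F = 0 from funext hF0]
    simp [classInner]
  have hrange : LinearMap.range R =
      Submodule.span ℂ ((fun χ : IrrCharacter G => pRegularPart 2 (χ : G → ℂ)) '' principalBlock M G) := by
    rw [Fintype.range_linearCombination, Set.image_eq_range]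
  have hu0 : u ≠ 0 := fun h => by
    rw [h] at hu4
    simp at hu4
  have h := R.finrank_range_add_finrank_ker
  rw [hker, finrank_span_singleton hu0, Module.finrank_fintype_fun_eq_card,
    ← Nat.card_eq_fintype_card, hk, hrange] at h
  unfold blockRank
  omega

end Cfsg.Agent.BlocksCore.KleinBlock
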