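import Cfsg.Agent.Lib.BlocksCore.AbelianThree
import Cfsg.Agent.Lib.BlocksCore.KleinBlock

/-!
# The degrees when an involution generates the group normally
-/

set_option linter.unusedSectionVars false

namespace Cfsg.Agent.BlocksCore.AbelianThree

open BlocksDefect AbelianPrincipal AbelianShape CyclicPrincipal Finset

variable {G : Type*} [Group G] [Fintype G] {p : ℕ} [Fact p.Prime] {M : Ideal AlgInt}
  {P : Sylow p G}

theorem isPPart_inv {g x : G} (h : IsPPart p g x) : IsPPart p g⁻¹ x⁻¹ := by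
  obtain ⟨w, rfl, hc, hk, hw⟩ := h
  exact ⟨w⁻¹, by rw [← mul_inv_rev, hc.eq], hc.inv_inv, by rwa [orderOf_inv], by rwa [orderOf_inv]⟩

/-- The orbit sum. -/
noncomputable def orbSum (ψ : Dual P) (y : (P : Subgroup G)) : ℂ := by
  classical
  exact ∑ φ ∈ univ.filter (fun φ : Dual P => Rel φ ψ), ((φ y : ℂˣ) : ℂ)

variable (h : Free P)
include h

open scoped Classical in
theorem orbSum_mul_cent {ψ : Dual P} (hψ : ψ ≠ 1) (y : (P : Subgroup G)) :
    orbSum ψ y * (Nat.card (Subgroup.centralizer ((P : Subgroup G) : Set G)) : ℂ) =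
      ∑ n : Subgroup.normalizer ((P : Subgroup G) : Set G), ((ψ (cj P n y) : ℂˣ) : ℂ) := by
  rw [← Finset.sum_fiberwise_of_maps_to (s := univ)
    (t := univ.filter fun φ : Dual P => Rel φ ψ) (g := fun n => ψ.comp (cj P n))
    (fun n _ => mem_filter.mpr ⟨mem_univ _, n, rfl⟩) fun n => ((ψ (cj P n y) : ℂˣ) : ℂ),
    orbSum, Finset.sum_mul]
  refine sum_congr (by convert rfl) fun φ hφ => ?_
  have hrel := (mem_filter.mp hφ).2
  have hφ1 : φ ≠ 1 := by
    rintro rfl
    obtain ⟨n, hn⟩ := rel_symm hrel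
    rw [MonoidHom.one_comp] at hn
    exact hψ hn.symm
  rw [Finset.sum_congr rfl (g := fun _ => ((φ y : ℂˣ) : ℂ)) fun n hn => by
      rw [← (mem_filter.mp hn).2]; rfl,
    Finset.sum_const, nsmul_eq_mul, card_transporter h hφ1,
    if_pos hrel, mul_comm]

variable [Fintype (P : Subgroup G)]

open scoped Classical in
theorem sum_dual_ne_one {w : (P : Subgroup G)} (hw : w ≠ 1) :
    ∑ ψ ∈ univ.erase (1 : Dual P), ((ψ w : ℂˣ) : ℂ) = -1 := by
  rw [Finset.sum_erase_eq_sub (mem_univ _), sum_dual h, if_neg hw]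
  simp

variable (hCN : (Subgroup.centralizer ((P : Subgroup G) : Set G)).relIndex
  (Subgroup.normalizer ((P : Subgroup G) : Set G)) = 3)
include hCN

open scoped Classical in
theorem sum_orbSum {y : (P : Subgroup G)} (hy : y ≠ 1) :
    ∑ ψ ∈ univ.erase (1 : Dual P), orbSum ψ y = -3 := by
  have hc : (Nat.card (Subgroup.centralizer ((P : Subgroup G) : Set G)) : ℂ) ≠ 0 :=
    Nat.cast_ne_zero.mpr Nat.card_pos.ne'
  refine mul_right_cancel₀ hc ?_
  rw [Finset.sum_mul, Finset.sum_congr rfl fun ψ hψ => orbSum_mul_cent h (ne_of_mem_erase hψ) y,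
    Finset.sum_comm, Finset.sum_congr rfl (g := fun _ => (-1 : ℂ)) (fun n _ =>
      sum_dual_ne_one h (fun h1 => hy ?_)), Finset.sum_const, card_univ, nsmul_eq_mul,
    ← Nat.card_eq_fintype_card, natCard_normalizer, hCN]
  · push_cast; ring
  · have h2 := congrArg Subtype.val h1
    rw [coe_cj, OneMemClass.coe_one, conj_eq_one_iff] at h2
    exact Subtype.ext h2

open scoped Classical in
theorem sum_orbSum_sq {t y : (P : Subgroup G)}
    (hne : ∀ a b c : Subgroup.normalizer ((P : Subgroup G) : Set G),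
      cj P a t * cj P b t * cj P c y ≠ 1) :
    ∑ ψ ∈ univ.erase (1 : Dual P), orbSum ψ t ^ 2 * orbSum ψ y = -27 := by
  have hc : (Nat.card (Subgroup.centralizer ((P : Subgroup G) : Set G)) : ℂ) ≠ 0 :=
    Nat.cast_ne_zero.mpr Nat.card_pos.ne'
  refine mul_right_cancel₀ (pow_ne_zero 3 hc) ?_
  have e : ∀ ψ ∈ univ.erase (1 : Dual P), orbSum ψ t ^ 2 * orbSum ψ y *
      (Nat.card (Subgroup.centralizer ((P : Subgroup G) : Set G)) : ℂ) ^ 3 =
      ∑ a : Subgroup.normalizer ((P : Subgroup G) : Set G),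
        ∑ b : Subgroup.normalizer ((P : Subgroup G) : Set G),
          ∑ c : Subgroup.normalizer ((P : Subgroup G) : Set G),
            ((ψ (cj P a t * cj P b t * cj P c y) : ℂˣ) : ℂ) := by
    intro ψ hψ
    calc _ = (orbSum ψ t * (Nat.card (Subgroup.centralizer ((P : Subgroup G) : Set G)) : ℂ)) *
          (orbSum ψ t * (Nat.card (Subgroup.centralizer ((P : Subgroup G) : Set G)) : ℂ)) *
          (orbSum ψ y * (Nat.card (Subgroup.centralizer ((P : Subgroup G) : Set G)) : ℂ)) := by ring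
      _ = _ := by
        rw [orbSum_mul_cent h (ne_of_mem_erase hψ) t, orbSum_mul_cent h (ne_of_mem_erase hψ) y,
          Finset.sum_mul_sum, Finset.sum_mul]
        refine Finset.sum_congr rfl fun a _ => ?_
        rw [Finset.sum_mul]
        refine Finset.sum_congr rfl fun b _ => ?_
        rw [Finset.mul_sum]
        exact Finset.sum_congr rfl fun c _ => by rw [map_mul, map_mul, Units.val_mul, Units.val_mul]
  rw [Finset.sum_mul, Finset.sum_congr rfl e, Finset.sum_comm]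
  simp only [Finset.sum_comm (s := univ.erase (1 : Dual P)), sum_dual_ne_one h (hne _ _ _)]
  simp only [Finset.sum_const, card_univ, nsmul_eq_mul, ← Nat.card_eq_fintype_card,
    natCard_normalizer, hCN]
  push_cast
  ring

open scoped Classical in
/-- Each orbit has three characters. -/
theorem sum_erase_orb (F : Orb P → ℂ) (g : Dual P → ℂ)
    (hg : ∀ ψ (hψ : ψ ≠ 1), g ψ = F (orb ψ hψ)) :
    ∑ ψ ∈ univ.erase (1 : Dual P), g ψ = 3 * ∑ o : Orb P, F o := by
  rw [Finset.sum_subtype (univ.erase (1 : Dual P)) (p := fun ψ => ψ ≠ 1) (by simp) g,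
    ← Finset.sum_fiberwise univ (fun ψ : {ψ : Dual P // ψ ≠ 1} => Quotient.mk (setoid P) ψ),
    Finset.mul_sum]
  refine Finset.sum_congr rfl fun o _ => ?_
  rw [Finset.sum_congr rfl (g := fun _ => F o) fun ψ hψ => by
    rw [hg ψ.1 ψ.2, ← (mem_filter.mp hψ).2], Finset.sum_const, nsmul_eq_mul]
  congr 1
  obtain ⟨⟨ψ, hψ⟩, rfl⟩ := Quotient.exists_rep o
  rw [← Nat.cast_ofNat, ← hCN, ← card_orbit h hψ, Nat.cast_inj]
  refine Finset.card_bij (fun φ _ => φ.1)
    (fun φ hφ => mem_filter.mpr ⟨mem_univ _, Quotient.exact (mem_filter.mp hφ).2⟩)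
    (fun a _ b _ hab => Subtype.ext hab) fun φ hφ => ?_
  have hrel := (mem_filter.mp hφ).2
  refine ⟨⟨φ, ?_⟩, mem_filter.mpr ⟨mem_univ _, Quotient.sound hrel⟩, rfl⟩
  rintro rfl
  obtain ⟨n, hn⟩ := rel_symm hrel
  rw [MonoidHom.one_comp] at hn
  exact hψ hn.symm

variable (hM : IsPModular p M) (D : Data M P 3) (hd : D.d = 0)
include hM hd

open scoped Classical in
theorem apply_f_orb {ψ : Dual P} (hψ : ψ ≠ 1) {y : (P : Subgroup G)} (hy : y ≠ 1) :
    (D.f (orb ψ hψ) : G → ℂ) (y : G) = (D.ε : ℂ) * orbSum ψ y := by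
  rw [apply_of_exceptional h (D.f (orb ψ hψ)) D.d D.ε hψ (fun o => D.vec_f _ o) hy, hd, orbSum]
  simp

theorem sum_f_apply {y : (P : Subgroup G)} (hy : y ≠ 1) :
    ∑ o : Orb P, (D.f o : G → ℂ) (y : G) = -(D.ε : ℂ) := by
  classical
  refine mul_left_cancel₀ (show (3 : ℂ) ≠ 0 by norm_num) ?_
  rw [← sum_erase_orb h hCN (fun o => (D.f o : G → ℂ) (y : G))
    (fun ψ => (D.ε : ℂ) * orbSum ψ y) (fun ψ hψ => (apply_f_orb h hCN hM D hd hψ hy).symm),
    ← Finset.mul_sum, sum_orbSum h hCN hy]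
  ring

theorem sum_f_sq_mul {t y : (P : Subgroup G)} (ht : t ≠ 1) (hy : y ≠ 1)
    (hne : ∀ a b c : Subgroup.normalizer ((P : Subgroup G) : Set G),
      cj P a t * cj P b t * cj P c y ≠ 1) :
    ∑ o : Orb P, (D.f o : G → ℂ) (t : G) ^ 2 * (D.f o : G → ℂ) (y : G) = -9 * (D.ε : ℂ) := by
  classical
  refine mul_left_cancel₀ (show (3 : ℂ) ≠ 0 by norm_num) ?_
  rw [← sum_erase_orb h hCN (fun o => (D.f o : G → ℂ) (t : G) ^ 2 * (D.f o : G → ℂ) (y : G))
    (fun ψ => (D.ε : ℂ) ^ 3 * (orbSum ψ t ^ 2 * orbSum ψ y))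
    (fun ψ hψ => by
      simp only [apply_f_orb h hCN hM D hd hψ ht, apply_f_orb h hCN hM D hd hψ hy]
      ring), ← Finset.mul_sum, sum_orbSum_sq h hCN hne]
  rcases D.sign with e | e <;> rw [e] <;> norm_num

theorem degree_modEq_X {χ : IrrCharacter G} (hχ : χ ∈ D.X) :
    (Nat.card P : ℤ) ∣ (charDegree (χ : G → ℂ) : ℤ) + D.c χ := by
  classical
  obtain ⟨a, ha⟩ := CharCore.IsCharacter.exists_classInner_eq_natCast
    (CharCore.isCharacter_comp (CharCore.irr_isCharacter χ) (P : Subgroup G).subtype)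
    (CharCore.IsIrrCharacter.isCharacter
      (CharCore.isIrrCharacter_hom (1 : ↥(P : Subgroup G) →* ℂˣ)))
  have h1 : ∑ y : (P : Subgroup G), (χ : G → ℂ) (y : G) = (Nat.card P : ℂ) * a := by
    rw [← ha, Cfsg.classInner, ← mul_assoc,
      mul_inv_cancel₀ (Nat.cast_ne_zero.mpr Nat.card_pos.ne'), one_mul]
    exact Finset.sum_congr rfl fun y _ => by simp
  rw [← Finset.add_sum_erase _ _ (mem_univ (1 : (P : Subgroup G))), Finset.sum_congr rfl
    (g := fun _ => ((-D.c χ : ℤ) : ℂ)) (fun y hy => D.apply_X hM h hχ (isPPart_self y.2) y.2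
      fun h1 => ne_of_mem_erase hy (Subtype.ext h1)), Finset.sum_const,
    Finset.card_erase_of_mem (mem_univ _), card_univ, ← Nat.card_eq_fintype_card, nsmul_eq_mul,
    OneMemClass.coe_one, irr_one_eq, Nat.cast_sub Nat.card_pos] at h1
  refine ⟨(a : ℤ) + D.c χ, Int.cast_injective (α := ℂ) ?_⟩
  push_cast at h1 ⊢
  linear_combination h1

theorem degree_modEq_f (o : Orb P) :
    (Nat.card P : ℤ) ∣ (charDegree (D.f o : G → ℂ) : ℤ) - 3 * D.ε := by
  classical
  obtain ⟨⟨ψ, hψ⟩, rfl⟩ := Quotient.exists_rep o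
  obtain ⟨a, ha⟩ := CharCore.IsCharacter.exists_classInner_eq_natCast
    (CharCore.isCharacter_comp (CharCore.irr_isCharacter (D.f (orb ψ hψ))) (P : Subgroup G).subtype)
    (CharCore.IsIrrCharacter.isCharacter
      (CharCore.isIrrCharacter_hom (1 : ↥(P : Subgroup G) →* ℂˣ)))
  have h1 : ∑ y : (P : Subgroup G), (D.f (orb ψ hψ) : G → ℂ) (y : G) = (Nat.card P : ℂ) * a := by
    rw [← ha, Cfsg.classInner, ← mul_assoc,
      mul_inv_cancel₀ (Nat.cast_ne_zero.mpr Nat.card_pos.ne'), one_mul]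
    exact Finset.sum_congr rfl fun y _ => by simp
  have hsum : ∑ y ∈ univ.erase (1 : (P : Subgroup G)), orbSum ψ y = -3 := by
    unfold orbSum
    rw [Finset.sum_comm, Finset.sum_congr rfl (g := fun _ => (-1 : ℂ)) fun φ hφ => ?_,
      Finset.sum_const, nsmul_eq_mul, card_orbit h hψ, hCN]
    · norm_num
    · rw [Finset.sum_erase_eq_sub (mem_univ _), AbelianPrincipal.sum_apply, if_neg ?_]
      · simp
      rintro rfl
      obtain ⟨n, hn⟩ := rel_symm (mem_filter.mp hφ).2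
      rw [MonoidHom.one_comp] at hn
      exact hψ hn.symm
  rw [← Finset.add_sum_erase _ _ (mem_univ (1 : (P : Subgroup G))), Finset.sum_congr rfl
    (g := fun y => (D.ε : ℂ) * orbSum ψ y)
    (fun y hy => apply_f_orb h hCN hM D hd hψ (ne_of_mem_erase hy)), ← Finset.mul_sum, hsum,
    OneMemClass.coe_one, irr_one_eq] at h1
  refine ⟨(a : ℤ), Int.cast_injective (α := ℂ) ?_⟩
  push_cast
  linear_combination h1

omit h hCN hM hd

/-- A nonprincipal member is nontrivial at `t`. -/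
theorem apply_ne_degree {χ : IrrCharacter G} (hχ : χ ≠ oneIrr G) {t : G}
    (hgen : ∀ K : Subgroup G, K.Normal → t ∈ K → K = ⊤) : (χ : G → ℂ) t ≠ (χ : G → ℂ) 1 := by
  intro he
  have hK := hgen (CharCore.charKernel (CharCore.irr_isCharacter χ))
    (CharCore.charKernel_normal _) he
  have hall : ∀ g, (χ : G → ℂ) g = (χ : G → ℂ) 1 := fun g =>
    (CharCore.mem_charKernel (CharCore.irr_isCharacter χ) g).mp (hK ▸ Subgroup.mem_top g)
  have h0 := sum_char_mul_inv χ (oneIrr G)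
  rw [if_neg hχ] at h0
  simp only [coe_oneIrr, mul_one, hall, Finset.sum_const, card_univ, nsmul_eq_mul] at h0
  exact irr_one_ne_zero χ ((mul_eq_zero.mp h0).resolve_left (Nat.cast_ne_zero.mpr Fintype.card_ne_zero))

/-- An integral value below the degree. -/
theorem exists_int_lt {χ : IrrCharacter G} (hχ : χ ≠ oneIrr G) {t : G} (ht : t ^ 2 = 1)
    (hgen : ∀ K : Subgroup G, K.Normal → t ∈ K → K = ⊤) :
    ∃ n : ℤ, (χ : G → ℂ) t = n ∧ n < (charDegree (χ : G → ℂ) : ℤ) := by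
  obtain ⟨n, hn⟩ := KleinBlock.exists_int_of_sq χ ht
  refine ⟨n, hn, ?_⟩
  obtain ⟨m, ρ, -, hρ⟩ := χ.2
  have h1 : |n| ≤ (charDegree (χ : G → ℂ) : ℤ) := by
    have hb := CharCore.norm_character_le ρ t
    have hm : (χ : G → ℂ) 1 = (Module.finrank ℂ (Fin m → ℂ) : ℂ) := by
      rw [← hρ, Representation.char_one]
    rw [hρ, hn, Complex.norm_intCast] at hb
    rw [irr_one_eq] at hm
    have hm' : charDegree (χ : G → ℂ) = Module.finrank ℂ (Fin m → ℂ) := by exact_mod_cast hm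
    rw [hm']
    exact_mod_cast hb
  refine lt_of_le_of_ne ((le_abs_self n).trans h1) fun he => apply_ne_degree hχ hgen ?_
  rw [hn, he, irr_one_eq]
  norm_cast

include h hCN hM hd

/-- The contribution of the family to the class equation. -/
theorem class_equation {t y : G} (hy : y ∈ (P : Subgroup G)) {u v : IrrCharacter G}
    (hX : D.X = {oneIrr G, u, v}) (hu : u ≠ oneIrr G) (hv : v ≠ oneIrr G) (huv : u ≠ v) (hy1 : y ≠ 1)
    (hno : ∀ t₁ t₂ : G, IsConj t t₁ → IsConj t t₂ → ¬ IsPPart p (t₁ * t₂)⁻¹ y) (x : ℤ)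
    (hx : ∀ o, (charDegree (D.f o : G → ℂ) : ℤ) = x) :
    1 - (D.c u : ℂ) * ((u : G → ℂ) t ^ 2 / (u : G → ℂ) 1) -
        (D.c v : ℂ) * ((v : G → ℂ) t ^ 2 / (v : G → ℂ) 1) +
      (∑ o, (D.f o : G → ℂ) t ^ 2 * (D.f o : G → ℂ) y) / (x : ℂ) = 0 := by
  classical
  have h0 := sum_sq_mul_eq_zero h hM hy hno
  have hsub : Finset.univ.image D.f ⊆ members M G := fun χ hχ => by
    obtain ⟨o, -, rfl⟩ := Finset.mem_image.mp hχ
    exact D.mem o
  have hXd : members M G \ Finset.univ.image D.f = D.X := by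
    ext χ
    simp [D.mem_X hM h]
  rw [← Finset.sum_sdiff hsub, hXd, Finset.sum_image fun a _ b _ hab => D.inj hab, hX,
    Finset.sum_insert (by simp [hu.symm, hv.symm]), Finset.sum_pair huv] at h0
  have hval : ∀ χ ∈ D.X, (χ : G → ℂ) y = -(D.c χ : ℂ) := fun χ hχ => by
    rw [D.apply_X hM h hχ (isPPart_self hy) hy hy1, Int.cast_neg]
  rw [hval u (by simp [hX]), hval v (by simp [hX])] at h0
  simp only [coe_oneIrr] at h0
  rw [Finset.sum_congr rfl (g := fun o => (D.f o : G → ℂ) t ^ 2 * (D.f o : G → ℂ) y / (x : ℂ))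
    fun o _ => by
      rw [irr_one_eq, ← hx o]
      push_cast
      ring, ← Finset.sum_div] at h0
  linear_combination h0

/-- For `p = 2` there is no such group. -/
theorem false_of_two (hp2 : p = 2) (hm2 : 3 + 1 < Nat.card P) (hcard : D.X.card = 3)
    (hsmall : ∀ χ ∈ D.X, D.c χ = 1 ∨ D.c χ = -1) {t : G} (ht : orderOf t = 2)
    (hgen : ∀ K : Subgroup G, K.Normal → t ∈ K → K = ⊤) : False := by
  classical
  subst hp2
  have := isPrime hM
  -- move `t` into `P`
  have hpart : ∀ s : G, orderOf s = 2 → IsPGroup 2 (Subgroup.zpowers s) := fun s hs =>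
    IsPGroup.of_card (n := 1) (by rw [Nat.card_zpowers, hs, pow_one])
  obtain ⟨T, hT⟩ := (hpart t ht).exists_le_sylow
  obtain ⟨c, hc⟩ := MulAction.exists_smul_eq G T P
  have hτ : c * t * c⁻¹ ∈ (P : Subgroup G) := by
    rw [← hc]
    exact ⟨t, hT (Subgroup.mem_zpowers t), rfl⟩
  set τ := c * t * c⁻¹ with hτd
  have hτo : orderOf τ = 2 := by rw [hτd, ← MulAut.conj_apply, MulEquiv.orderOf_eq, ht]
  have hτgen : ∀ K : Subgroup G, K.Normal → τ ∈ K → K = ⊤ := fun K hK hmem =>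
    hgen K hK (by simpa [hτd, mul_assoc] using hK.conj_mem _ hmem c⁻¹)
  have hτ1 : τ ≠ 1 := fun h1 => by rw [h1, orderOf_one] at hτo; omega
  -- the orbit of `τ` in `P`
  set N := Subgroup.normalizer ((P : Subgroup G) : Set G) with hN
  set Cn := (Subgroup.centralizer ((P : Subgroup G) : Set G)).subgroupOf N with hCn
  haveI := Fintype.ofFinite (N ⧸ Cn)
  let f : N ⧸ Cn → G := fun q => (q.out : G) * τ * (q.out : G)⁻¹
  have hf : ∀ n : N, (n : G) * τ * (n : G)⁻¹ = f (QuotientGroup.mk n) := by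
    intro n
    obtain ⟨k, hk⟩ := QuotientGroup.mk_out_eq_mul Cn n
    show _ = ((QuotientGroup.mk n : N ⧸ Cn).out : G) * τ * _
    rw [hk]
    have hk' := Subgroup.mem_centralizer_iff.mp (Subgroup.mem_subgroupOf.mp k.2) τ hτ
    calc (n : G) * τ * (n : G)⁻¹
        = (n : G) * (τ * ((k : N) : G)) * ((k : N) : G)⁻¹ * (n : G)⁻¹ := by group
      _ = (n : G) * (((k : N) : G) * τ) * ((k : N) : G)⁻¹ * (n : G)⁻¹ := by rw [hk']
      _ = _ := by rw [Subgroup.coe_mul]; group
  set S : Finset G := (Finset.univ ×ˢ Finset.univ).image fun q : (N ⧸ Cn) × (N ⧸ Cn) => f q.1 * f q.2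
    with hS
  have hScard : S.card ≤ 9 := by
    refine Finset.card_image_le.trans ?_
    rw [Finset.card_product, card_univ, ← Nat.card_eq_fintype_card,
      show Nat.card (N ⧸ Cn) = 3 from hCN]
  have hTT : ∀ a b : G, IsConj τ a → IsConj τ b → a ∈ (P : Subgroup G) → b ∈ (P : Subgroup G) →
      a * b ∈ S := by
    intro a b ha hb haP hbP
    obtain ⟨n, hn⟩ := exists_normalizer_conj h hτ haP ha
    obtain ⟨n', hn'⟩ := exists_normalizer_conj h hτ hbP hb
    exact Finset.mem_image.mpr ⟨(QuotientGroup.mk n, QuotientGroup.mk n'), by simp,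
      by rw [← hf, ← hf, hn, hn']⟩
  obtain ⟨j, hj⟩ := IsPGroup.iff_card.mp P.2
  have hq16 : 16 ≤ Nat.card P := by
    have hrm := card_orb_mul h
    rw [hCN] at hrm
    rw [hj] at hm2 hrm ⊢
    rcases Nat.lt_or_ge j 4 with hlt | hge
    · exfalso
      interval_cases j <;> omega
    · exact le_trans (by norm_num) (Nat.pow_le_pow_right (by norm_num) hge)
  obtain ⟨⟨y, hy⟩, -, hyS⟩ : ∃ y ∈ (univ : Finset (P : Subgroup G)), (y : G) ∉ insert 1 S := by
    by_contra hcon
    push Not at hcon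
    have hle := Finset.card_le_card_of_injOn (fun y : (P : Subgroup G) => (y : G)) hcon
      fun a _ b _ hab => Subtype.ext hab
    rw [card_univ, ← Nat.card_eq_fintype_card] at hle
    have := Finset.card_insert_le (1 : G) S
    omega
  rw [Finset.mem_insert, not_or] at hyS
  obtain ⟨hy1, hyS⟩ := hyS
  -- `y` is no product over the section
  have hno : ∀ t₁ t₂ : G, IsConj τ t₁ → IsConj τ t₂ → ¬ IsPPart 2 (t₁ * t₂)⁻¹ y := by
    intro t₁ t₂ h₁ h₂ hpp
    have ho : ∀ s, IsConj τ s → s⁻¹ = s := fun s hs => by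
      obtain ⟨g, hg⟩ := isConj_iff.mp hs
      refine inv_eq_of_mul_eq_one_right ?_
      rw [← hg, show g * τ * g⁻¹ * (g * τ * g⁻¹) = g * τ ^ 2 * g⁻¹ by rw [pow_two]; group, ← hτo,
        pow_orderOf_eq_one, mul_one, mul_inv_cancel]
    have hg : (t₁ * t₂)⁻¹ = t₂ * t₁ := by rw [mul_inv_rev, ho t₁ h₁, ho t₂ h₂]
    rw [hg] at hpp
    have hinv : t₁ * y * t₁⁻¹ = y⁻¹ := by
      refine isPPart_unique Nat.prime_two (g := t₁ * (t₂ * t₁) * t₁⁻¹) (isPPart_conj hpp t₁) ?_
      have := isPPart_inv hpp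
      rwa [mul_inv_rev, ho t₁ h₁, ho t₂ h₂, show t₁ * t₂ = t₁ * (t₂ * t₁) * t₁⁻¹ by group] at this
    have hyy : y⁻¹ = y := inv_eq_of_mul_eq_one_right
      (sq_eq_one_of_isConj h hCN hy (isConj_iff.mpr ⟨t₁, hinv⟩))
    rw [hyy] at hinv
    set C := Subgroup.centralizer ({y} : Set G) with hC
    have h1C : t₁ ∈ C := Subgroup.mem_centralizer_singleton_iff.mpr (mul_inv_eq_iff_eq_mul.mp hinv)
    obtain ⟨w, hw, hyw, ⟨k, hk⟩, hwr⟩ := hpp
    have hwC : w ∈ C := Subgroup.mem_centralizer_singleton_iff.mpr hyw.eq.symm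
    have hyC : y ∈ C := Subgroup.mem_centralizer_singleton_iff.mpr rfl
    have h2C : t₂ ∈ C := by
      have := C.mul_mem (C.mul_mem hyC hwC) h1C
      rwa [hw, mul_assoc,
        show t₁ * t₁ = 1 from mul_eq_one_iff_eq_inv.mpr (ho t₁ h₁).symm, mul_one] at this
    obtain ⟨K, hKn, hKp, hreg, hKi⟩ := AbelianPrincipal.exists_kernel hM h hy hy1
    have hPC : (P : Subgroup G) ≤ C := fun a ha =>
      Subgroup.mem_centralizer_singleton_iff.mpr (h.comm' a ha y hy)
    let π : (P : Subgroup G) →* C ⧸ K := (QuotientGroup.mk' K).comp (Subgroup.inclusion hPC)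
    have hπ : Function.Bijective π := by
      refine (Nat.bijective_iff_injective_and_card π).mpr ⟨?_, ?_⟩
      · rw [injective_iff_map_eq_one]
        intro a ha
        have hmem : Subgroup.inclusion hPC a ∈ K := (QuotientGroup.eq_one_iff _).mp ha
        obtain ⟨i, hi⟩ := IsPGroup.iff_orderOf.mp P.2 a
        have hd : orderOf a ∣ Nat.card K := by
          rw [← orderOf_injective (Subgroup.inclusion hPC) (Subgroup.inclusion_injective hPC) a]
          exact Subgroup.orderOf_dvd_natCard K hmem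
        rcases Nat.eq_zero_or_pos i with rfl | hi0
        · exact orderOf_eq_one_iff.mp (by simpa using hi)
        · exact absurd ((hi ▸ dvd_pow_self 2 hi0.ne').trans hd) hKp
      · exact hKi.symm
    -- an involution of `C` is in the coset of a conjugate inside `P`
    have hmove : ∀ s : C, IsConj τ (s : G) → ∃ a : (P : Subgroup G),
        IsConj τ (a : G) ∧ QuotientGroup.mk' K s = π a := by
      intro s hs
      have hso : orderOf s = 2 := by
        obtain ⟨g, hg⟩ := isConj_iff.mp hs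
        rw [← Subgroup.orderOf_coe, ← hg, ← MulAut.conj_apply, MulEquiv.orderOf_eq, hτo]
      obtain ⟨T, hT⟩ := (IsPGroup.of_card (n := 1) (by rw [Nat.card_zpowers, hso, pow_one]) :
        IsPGroup 2 (Subgroup.zpowers s)).exists_le_sylow
      obtain ⟨d, hd⟩ := MulAction.exists_smul_eq C T (P.subtype hPC)
      have hmem : d * s * d⁻¹ ∈ (P.subtype hPC : Subgroup C) := by
        rw [← hd]
        exact ⟨s, hT (Subgroup.mem_zpowers s), rfl⟩
      obtain ⟨d₀, hd₀⟩ := hπ.2 (QuotientGroup.mk' K d)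
      refine ⟨⟨((d * s * d⁻¹ : C) : G), hmem⟩, hs.trans (isConj_iff.mpr ⟨(d : G), by simp⟩), ?_⟩
      have e : π ⟨((d * s * d⁻¹ : C) : G), hmem⟩ =
          π d₀ * QuotientGroup.mk' K s * (π d₀)⁻¹ := by
        rw [hd₀]
        show QuotientGroup.mk' K _ = _
        rw [← map_inv, ← map_mul, ← map_mul]
        rfl
      obtain ⟨a, ha⟩ := hπ.2 (QuotientGroup.mk' K s)
      have hcomm : Commute d₀ a := Subtype.ext (h.comm' _ d₀.2 _ a.2)
      rw [e, ← ha, ← map_mul, ← map_inv, ← map_mul, hcomm.eq, mul_inv_cancel_right]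
    obtain ⟨a, ha, hπa⟩ := hmove ⟨t₁, h1C⟩ h₁
    obtain ⟨b, hb, hπb⟩ := hmove ⟨t₂, h2C⟩ h₂
    have he : π ⟨y, hy⟩ = π (b * a) := by
      rw [map_mul, ← hπb, ← hπa, ← map_mul]
      refine QuotientGroup.eq.mpr ?_
      have hw' : (⟨w, hwC⟩ : C) ∈ K := hreg _ (by rwa [Subgroup.orderOf_mk])
      convert hw' using 1
      refine Subtype.ext ?_
      show y⁻¹ * (t₂ * t₁) = w
      rw [← hw, inv_mul_cancel_left]
    have hyba : y = (b : G) * a := congrArg Subtype.val (hπ.1 he)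
    exact hyS (hyba ▸ hTT _ _ hb ha b.2 a.2)
  -- the members
  have h1X := D.one_mem_X hM h
  obtain ⟨u, v, huv, hrest⟩ := Finset.card_eq_two.mp
    (show (D.X.erase (oneIrr G)).card = 2 by rw [Finset.card_erase_of_mem h1X, hcard])
  have hX : D.X = {oneIrr G, u, v} := by rw [← Finset.insert_erase h1X, hrest]
  have hu : u ∈ D.X.erase (oneIrr G) := by simp [hrest]
  have hv : v ∈ D.X.erase (oneIrr G) := by simp [hrest]
  haveI : Nonempty (Orb P) := Fintype.card_pos_iff.mp (by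
    have := card_orb_mul h
    rw [hCN] at this
    omega)
  obtain ⟨o⟩ := ‹Nonempty (Orb P)›
  set x : ℤ := (charDegree (D.f o : G → ℂ) : ℤ) with hxd
  have hx : ∀ o', (charDegree (D.f o' : G → ℂ) : ℤ) = x := fun o' => by
    have := D.eq_regular hM h o' o (g := 1) (by rw [orderOf_one]; norm_num)
    rw [irr_one_eq, irr_one_eq] at this
    rw [hxd]
    exact_mod_cast this
  have heq := class_equation h hCN hM D hd hy hX (ne_of_mem_erase hu) (ne_of_mem_erase hv) huv hy1 hno x hx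
  have hsq := sum_f_sq_mul h hCN hM D hd (t := ⟨τ, hτ⟩) (y := ⟨y, hy⟩)
    (fun h1 => hτ1 (congrArg Subtype.val h1)) (fun h1 => hy1 (congrArg Subtype.val h1))
    (fun a b e he => by
      have h' : (e : G) * y * (e : G)⁻¹ =
          (((a : G) * τ * (a : G)⁻¹) * ((b : G) * τ * (b : G)⁻¹))⁻¹ :=
        eq_inv_of_mul_eq_one_right (congrArg Subtype.val he)
      have hτi : τ⁻¹ = τ := inv_eq_of_mul_eq_one_right (by
        rw [← pow_two, ← hτo, pow_orderOf_eq_one])
      have hya : y = ((e : G)⁻¹ * (b : G)) * τ * ((e : G)⁻¹ * (b : G))⁻¹ *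
          (((e : G)⁻¹ * (a : G)) * τ * ((e : G)⁻¹ * (a : G))⁻¹) := by
        calc y = (e : G)⁻¹ * ((e : G) * y * (e : G)⁻¹) * (e : G) := by group
          _ = (e : G)⁻¹ * ((b : G) * τ⁻¹ * (b : G)⁻¹ * ((a : G) * τ⁻¹ * (a : G)⁻¹)) * (e : G) := by
            rw [h']; group
          _ = _ := by rw [hτi]; group
      have hmem := hTT _ _ (isConj_iff.mpr ⟨((e : G)⁻¹ * (b : G)), rfl⟩)
        (isConj_iff.mpr ⟨((e : G)⁻¹ * (a : G)), rfl⟩)
        ((Subgroup.mem_normalizer_iff.mp (mul_mem (inv_mem e.2) b.2) τ).mp hτ)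
        ((Subgroup.mem_normalizer_iff.mp (mul_mem (inv_mem e.2) a.2) τ).mp hτ)
      rw [← hya] at hmem
      exact hyS hmem)
  rw [hsq] at heq
  have hval : ∀ χ ∈ D.X, (χ : G → ℂ) τ = -(D.c χ : ℂ) := fun χ hχ => by
    rw [D.apply_X hM h hχ (isPPart_self hτ) hτ hτ1, Int.cast_neg]
  rw [hval u (mem_of_mem_erase hu), hval v (mem_of_mem_erase hv), irr_one_eq u, irr_one_eq v] at heq
  set X := (charDegree (u : G → ℂ) : ℤ) with hXd
  set Y := (charDegree (v : G → ℂ) : ℤ) with hYd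
  have hbig : ∀ χ ∈ D.X.erase (oneIrr G), 1 < (charDegree (χ : G → ℂ) : ℤ) := by
    intro χ hχ
    have hpos := charDegree_pos χ
    by_contra hle
    have h1 : charDegree (χ : G → ℂ) = 1 := by omega
    have hdvd := degree_modEq_X h hCN hM D hd (mem_of_mem_erase hχ)
    rw [h1] at hdvd
    rcases hsmall χ (mem_of_mem_erase hχ) with e | e <;> rw [e] at hdvd
    · have := Int.le_of_dvd (by norm_num) hdvd
      omega
    · refine apply_ne_degree (ne_of_mem_erase hχ) hτgen ?_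
      rw [hval χ (mem_of_mem_erase hχ), e, irr_one_eq, h1]
      norm_num
  have hneg : ∀ χ ∈ D.X, -D.c χ = 1 ∨ -D.c χ = -1 := fun χ hχ => by
    rcases hsmall χ hχ with e | e <;> rw [e] <;> norm_num
  refine no_solution_two (q := (Nat.card P : ℤ)) (A := -D.c u) (B := -D.c v) (δ := D.ε)
    (X := X) (Y := Y) (Z := x) (by exact_mod_cast hq16) (hneg u (mem_of_mem_erase hu))
    (hneg v (mem_of_mem_erase hv)) D.sign (hbig u hu) (hbig v hv)
    (by rw [hxd]; exact_mod_cast charDegree_pos (D.f o))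
    (by simpa using degree_modEq_X h hCN hM D hd (mem_of_mem_erase hu))
    (by simpa using degree_modEq_X h hCN hM D hd (mem_of_mem_erase hv))
    (degree_modEq_f h hCN hM D hd o) ?_
  have hXn : (charDegree (u : G → ℂ) : ℂ) ≠ 0 := Nat.cast_ne_zero.mpr (charDegree_pos u).ne'
  have hYn : (charDegree (v : G → ℂ) : ℂ) ≠ 0 := Nat.cast_ne_zero.mpr (charDegree_pos v).ne'
  have hxn : (x : ℂ) ≠ 0 := by
    rw [hxd]
    exact_mod_cast (charDegree_pos (D.f o)).ne'
  have hsqu : ((D.c u : ℂ)) ^ 2 = 1 := by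
    rcases hsmall u (mem_of_mem_erase hu) with e | e <;> rw [e] <;> norm_num
  have hsqv : ((D.c v : ℂ)) ^ 2 = 1 := by
    rcases hsmall v (mem_of_mem_erase hv) with e | e <;> rw [e] <;> norm_num
  simp only [neg_sq, hsqu, hsqv] at heq
  field_simp at heq
  refine Int.cast_injective (α := ℂ) ?_
  push_cast [hXd, hYd]
  linear_combination heq

/-- Two signs are negative and the product of the degrees is a square. -/
theorem involution_part (hm2 : 3 + 1 < Nat.card P) (hcard : D.X.card = 3)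
    (hsmall : ∀ χ ∈ D.X, D.c χ = 1 ∨ D.c χ = -1) {t : G} (ht : orderOf t = 2)
    (hgen : ∀ K : Subgroup G, K.Normal → t ∈ K → K = ⊤) :
    ∃ u v : IrrCharacter G, u ≠ oneIrr G ∧ v ≠ oneIrr G ∧ u ≠ v ∧ D.X = {oneIrr G, u, v} ∧
      (if -D.c u = -1 then 1 else 0) + (if -D.c v = -1 then 1 else 0) +
        (if D.ε = 1 then 1 else 0) = 2 ∧
      ∀ o, IsSquare (charDegree (D.f o : G → ℂ) *
        (charDegree (u : G → ℂ) * charDegree (v : G → ℂ))) := by
  classical
  have := isPrime hM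
  have hp : p.Prime := Fact.out
  by_cases hp2 : p = 2
  · exact (false_of_two h hCN hM D hd hp2 hm2 hcard hsmall ht hgen).elim
  have htreg : ¬ p ∣ orderOf t := by
    rw [ht]
    exact fun hdv => hp2 ((Nat.prime_dvd_prime_iff_eq hp Nat.prime_two).mp hdv)
  have ht2 : t ^ 2 = 1 := by rw [← ht, pow_orderOf_eq_one]
  have htinv : ∀ s, IsConj t s → s⁻¹ = s := fun s hs => by
    obtain ⟨g, hg⟩ := isConj_iff.mp hs
    refine inv_eq_of_mul_eq_one_right ?_
    rw [← hg, show g * t * g⁻¹ * (g * t * g⁻¹) = g * t ^ 2 * g⁻¹ by rw [pow_two]; group, ht2,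
      mul_one, mul_inv_cancel]
  haveI : Nontrivial (P : Subgroup G) := Finite.one_lt_card_iff_nontrivial.mp (by omega)
  obtain ⟨⟨y, hy⟩, hy1'⟩ := exists_ne (1 : (P : Subgroup G))
  have hy1 : y ≠ 1 := fun h1 => hy1' (Subtype.ext h1)
  have hno : ∀ t₁ t₂ : G, IsConj t t₁ → IsConj t t₂ → ¬ IsPPart p (t₁ * t₂)⁻¹ y := by
    intro t₁ t₂ h₁ h₂ hpp
    rw [mul_inv_rev, htinv t₁ h₁, htinv t₂ h₂] at hpp
    have hinv : t₁ * y * t₁⁻¹ = y⁻¹ := by
      refine isPPart_unique hp (g := t₁ * (t₂ * t₁) * t₁⁻¹) (isPPart_conj hpp t₁) ?_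
      have := isPPart_inv hpp
      rwa [mul_inv_rev, htinv t₁ h₁, htinv t₂ h₂,
        show t₁ * t₂ = t₁ * (t₂ * t₁) * t₁⁻¹ by group] at this
    have hyy := sq_eq_one_of_isConj h hCN hy (isConj_iff.mpr ⟨t₁, hinv⟩)
    obtain ⟨k, hk⟩ := IsPGroup.iff_orderOf.mp P.2 ⟨y, hy⟩
    rw [Subgroup.orderOf_mk] at hk
    rcases (Nat.dvd_prime Nat.prime_two).mp (orderOf_dvd_of_pow_eq_one (by rw [pow_two]; exact hyy) :
      orderOf y ∣ 2) with e | e
    · exact hy1 (orderOf_eq_one_iff.mp e)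
    · have hdv : 2 ∣ p ^ k := by rw [← hk, e]
      exact hp2 ((Nat.prime_dvd_prime_iff_eq Nat.prime_two hp).mp
        (Nat.prime_two.dvd_of_dvd_pow hdv)).symm
  have h1X := D.one_mem_X hM h
  obtain ⟨u, v, huv, hrest⟩ := Finset.card_eq_two.mp
    (show (D.X.erase (oneIrr G)).card = 2 by rw [Finset.card_erase_of_mem h1X, hcard])
  have hu : u ∈ D.X.erase (oneIrr G) := by simp [hrest]
  have hv : v ∈ D.X.erase (oneIrr G) := by simp [hrest]
  have hX : D.X = {oneIrr G, u, v} := by rw [← Finset.insert_erase h1X, hrest]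
  have hu1 := ne_of_mem_erase hu
  have hv1 := ne_of_mem_erase hv
  haveI : Nonempty (Orb P) := Fintype.card_pos_iff.mp (by
    have := card_orb_mul h
    rw [hCN] at this
    omega)
  obtain ⟨o⟩ := ‹Nonempty (Orb P)›
  set x : ℤ := (charDegree (D.f o : G → ℂ) : ℤ) with hxd
  have hx : ∀ o', (charDegree (D.f o' : G → ℂ) : ℤ) = x := fun o' => by
    have := D.eq_regular hM h o' o (g := 1) (by rw [orderOf_one]; exact hp.not_dvd_one)
    rw [irr_one_eq, irr_one_eq] at this
    rw [hxd]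
    exact_mod_cast this
  obtain ⟨nu, hnu, hltu⟩ := exists_int_lt hu1 ht2 hgen
  obtain ⟨nv, hnv, hltv⟩ := exists_int_lt hv1 ht2 hgen
  obtain ⟨no', hno', hlto⟩ := exists_int_lt (D.one_ne o) ht2 hgen
  -- the relation at `1` and at `t`
  have hrel : ∀ g : G, ¬ p ∣ orderOf g → (D.ε : ℂ) * (D.f o : G → ℂ) g +
      (-1 + ((D.c u : ℂ) * (u : G → ℂ) g + (D.c v : ℂ) * (v : G → ℂ) g)) = 0 := by
    intro g hg
    have h1 := D.regular_relation hM h o hg
    rw [hd, Int.cast_zero, mul_zero, zero_add, hX, Finset.sum_insert (by simp [hu1.symm, hv1.symm]),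
      Finset.sum_pair huv, D.c_one hM h, coe_oneIrr] at h1
    push_cast at h1
    linear_combination h1
  have e1 : (-D.c u) * (charDegree (u : G → ℂ) : ℤ) + (-D.c v) * (charDegree (v : G → ℂ) : ℤ) +
      (-D.ε) * x = -1 := by
    have h1 := hrel 1 (by rw [orderOf_one]; exact hp.not_dvd_one)
    rw [irr_one_eq, irr_one_eq, irr_one_eq] at h1
    apply Int.cast_injective (α := ℂ)
    push_cast [hxd]
    linear_combination -h1
  have e2 : (-D.c u) * nu + (-D.c v) * nv + (-D.ε) * no' = -1 := by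
    have h1 := hrel t htreg
    rw [hnu, hnv, hno'] at h1
    apply Int.cast_injective (α := ℂ)
    push_cast
    linear_combination -h1
  have e3 := class_equation h hCN hM D hd hy hX hu1 hv1 huv hy1 hno x hx
  have hsum : ∑ o', (D.f o' : G → ℂ) t ^ 2 * (D.f o' : G → ℂ) y = (no' : ℂ) ^ 2 * -(D.ε : ℂ) := by
    rw [← sum_f_apply h hCN hM D hd (y := ⟨y, hy⟩) hy1', Finset.mul_sum]
    exact Finset.sum_congr rfl fun o' _ => by rw [D.eq_regular hM h o' o htreg, hno']
  rw [hnu, hnv, hsum, irr_one_eq u, irr_one_eq v] at e3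
  set X := (charDegree (u : G → ℂ) : ℤ) with hXd
  set Y := (charDegree (v : G → ℂ) : ℤ) with hYd
  have hXn : (charDegree (u : G → ℂ) : ℂ) ≠ 0 := Nat.cast_ne_zero.mpr (charDegree_pos u).ne'
  have hYn : (charDegree (v : G → ℂ) : ℂ) ≠ 0 := Nat.cast_ne_zero.mpr (charDegree_pos v).ne'
  have hxn : (x : ℂ) ≠ 0 := by
    rw [hxd]
    exact_mod_cast (charDegree_pos (D.f o)).ne'
  field_simp at e3
  have e3' : X * Y * x + (-D.c u) * nu ^ 2 * (Y * x) + (-D.c v) * nv ^ 2 * (X * x) +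
      (-D.ε) * no' ^ 2 * (X * Y) = 0 := by
    apply Int.cast_injective (α := ℂ)
    push_cast [hXd, hYd]
    linear_combination e3
  obtain ⟨hcount, hsquare⟩ := sign_square (a := ![-D.c u, -D.c v, -D.ε]) (x := ![X, Y, x])
    (d := ![X - nu, Y - nv, x - no'])
    (fun i => by
      fin_cases i
      · rcases hsmall u (mem_of_mem_erase hu) with e | e <;> simp [e]
      · rcases hsmall v (mem_of_mem_erase hv) with e | e <;> simp [e]
      · rcases D.sign with e | e <;> simp [e])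
    (fun i => by
      fin_cases i <;> simp [hXd, hYd, hxd, charDegree_pos])
    (fun i => by
      fin_cases i <;> simp [hXd, hYd, hxd] <;> assumption)
    (by simpa using e1) (by simp; linear_combination e1 - e2)
    (by simp; linear_combination e3' + (X * Y * x) * (e1 - 2 * e2))
  refine ⟨u, v, hu1, hv1, huv, hX, ?_, fun o' => ?_⟩
  · rw [Finset.card_filter, Fin.sum_univ_three] at hcount
    simp only [Matrix.cons_val_zero, Matrix.cons_val_one, Matrix.cons_val_two, Matrix.head_cons,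
      Matrix.tail_cons, Matrix.cons_val] at hcount
    rw [← hcount]
    congr 1
    exact if_congr (by omega) rfl rfl
  · simp only [Matrix.cons_val_zero, Matrix.cons_val_one, Matrix.cons_val_two, Matrix.head_cons,
      Matrix.tail_cons, Matrix.cons_val] at hsquare
    rw [← Int.isSquare_natCast_iff, Nat.cast_mul, Nat.cast_mul, hx o', mul_comm, ← hXd, ← hYd]
    exact hsquare

end Cfsg.Agent.BlocksCore.AbelianThree
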