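import Cfsg.Prelude.Def_Blocks
import Mathlib.RingTheory.IntegralClosure.IntegrallyClosed
import Mathlib.RingTheory.Ideal.Quotient.Operations
import Mathlib.RingTheory.Localization.Rat
import Mathlib.RingTheory.RootsOfUnity.PrimitiveRoots
import Mathlib.RingTheory.Polynomial.Cyclotomic.Basic
import Mathlib.Algebra.CharP.Lemmas
import Mathlib.Algebra.CharP.Quotient
import Mathlib.Analysis.Complex.Polynomial.Basic

/-!
# The local ring of the algebraic integers at a modular maximal ideal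

API for `Cfsg.AlgInt`, `Cfsg.IsPModular`, `Cfsg.MemLocalRing`, `Cfsg.MemLocalIdeal`.
-/

namespace Cfsg.Agent.BlocksCore

variable {p : ℕ} {M : Ideal AlgInt}

section Modular

theorem isMaximal (hM : IsPModular p M) : M.IsMaximal := hM.2.1

theorem isPrime (hM : IsPModular p M) : M.IsPrime := hM.2.1.isPrime

theorem natCast_mem_iff (hM : IsPModular p M) (n : ℕ) : (n : AlgInt) ∈ M ↔ p ∣ n := by
  refine ⟨fun h => ?_, fun h => ?_⟩
  · by_contra hn
    have hc : IsCoprime (p : ℤ) (n : ℤ) :=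
      Int.isCoprime_iff_gcd_eq_one.mpr ((Nat.Prime.coprime_iff_not_dvd hM.1).mpr hn)
    obtain ⟨a, b, hab⟩ := hc
    have h1 : ((a : AlgInt) * (p : AlgInt) + (b : AlgInt) * (n : AlgInt)) = 1 := by
      exact_mod_cast congrArg (Int.cast (R := AlgInt)) hab
    exact hM.2.1.ne_top (M.eq_top_iff_one.mpr
      (h1 ▸ M.add_mem (M.mul_mem_left _ hM.2.2) (M.mul_mem_left _ h)))
  · obtain ⟨c, rfl⟩ := h
    simpa using M.mul_mem_right (c : AlgInt) hM.2.2

theorem intCast_mem_iff (hM : IsPModular p M) (n : ℤ) : (n : AlgInt) ∈ M ↔ (p : ℤ) ∣ n := by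
  rcases Int.eq_nat_or_neg n with ⟨m, rfl | rfl⟩
  · simpa [Int.natCast_dvd_natCast] using natCast_mem_iff hM m
  · simpa [Int.natCast_dvd_natCast] using natCast_mem_iff hM m

theorem natCast_notMem (hM : IsPModular p M) {n : ℕ} (hn : ¬ p ∣ n) : (n : AlgInt) ∉ M :=
  fun h => hn ((natCast_mem_iff hM n).mp h)

theorem coe_natCast (n : ℕ) : ((n : AlgInt) : ℂ) = (n : ℂ) := by simp

end Modular

section Local

theorem memLocalRing_of_mem {z : ℂ} [hP : M.IsPrime] (hz : z ∈ AlgInt) : MemLocalRing M z :=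
  ⟨⟨z, hz⟩, 1, hP.one_notMem, by simp⟩

theorem memLocalRing_of_isIntegral {z : ℂ} [M.IsPrime] (hz : IsIntegral ℤ z) :
    MemLocalRing M z :=
  memLocalRing_of_mem hz

theorem memLocalRing_of_memLocalIdeal {z : ℂ} (hz : MemLocalIdeal M z) : MemLocalRing M z := by
  obtain ⟨a, b, -, hb, h⟩ := hz
  exact ⟨a, b, hb, h⟩

theorem coe_ne_zero_of_notMem {b : AlgInt} (hb : b ∉ M) : (b : ℂ) ≠ 0 := by
  intro h
  exact hb ((Subtype.ext (by simpa using h) : b = 0) ▸ M.zero_mem)

/-- For an algebraic integer, lying in the local ideal is lying in `M`. -/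
theorem memLocalIdeal_coe_iff [hP : M.IsPrime] (x : AlgInt) :
    MemLocalIdeal M (x : ℂ) ↔ x ∈ M := by
  refine ⟨?_, fun hx => ⟨x, 1, hx, hP.one_notMem, by simp⟩⟩
  rintro ⟨a, b, ha, hb, h⟩
  rw [div_eq_iff (coe_ne_zero_of_notMem hb)] at h
  have hab : a = x * b := Subtype.ext (by simpa using h)
  exact (hP.mem_or_mem (hab ▸ ha)).resolve_right hb

variable (M)

/-- The local ring at `M` as a subring of `ℂ`. -/
def localRing [hP : M.IsPrime] : Subring ℂ where
  carrier := {z | MemLocalRing M z}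
  zero_mem' := memLocalRing_of_mem (zero_mem _)
  one_mem' := memLocalRing_of_mem (one_mem _)
  add_mem' := by
    rintro x y ⟨a, b, hb, rfl⟩ ⟨c, d, hd, rfl⟩
    refine ⟨a * d + b * c, b * d, fun h => (hP.mem_or_mem h).elim hb hd, ?_⟩
    rw [div_add_div _ _ (coe_ne_zero_of_notMem hb) (coe_ne_zero_of_notMem hd)]
    simp
  mul_mem' := by
    rintro x y ⟨a, b, hb, rfl⟩ ⟨c, d, hd, rfl⟩
    refine ⟨a * c, b * d, fun h => (hP.mem_or_mem h).elim hb hd, ?_⟩
    rw [div_mul_div_comm]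
    simp
  neg_mem' := by
    rintro x ⟨a, b, hb, rfl⟩
    exact ⟨-a, b, hb, by simp [neg_div]⟩

variable {M}

@[simp] theorem mem_localRing_iff [M.IsPrime] {z : ℂ} : z ∈ localRing M ↔ MemLocalRing M z :=
  Iff.rfl

variable [hP : M.IsPrime]

include hP

set_option linter.unusedSectionVars false

theorem memLocalIdeal_zero : MemLocalIdeal M (0 : ℂ) := by
  simpa using (memLocalIdeal_coe_iff (M := M) 0).mpr M.zero_mem

theorem memLocalIdeal_add {x y : ℂ} (hx : MemLocalIdeal M x) (hy : MemLocalIdeal M y) :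
    MemLocalIdeal M (x + y) := by
  obtain ⟨a, b, ha, hb, rfl⟩ := hx
  obtain ⟨c, d, hc, hd, rfl⟩ := hy
  refine ⟨a * d + b * c, b * d, M.add_mem (M.mul_mem_right _ ha) (M.mul_mem_left _ hc),
    fun h => (hP.mem_or_mem h).elim hb hd, ?_⟩
  rw [div_add_div _ _ (coe_ne_zero_of_notMem hb) (coe_ne_zero_of_notMem hd)]
  simp

theorem memLocalIdeal_mul_right {x y : ℂ} (hx : MemLocalIdeal M x) (hy : MemLocalRing M y) :
    MemLocalIdeal M (x * y) := by
  obtain ⟨a, b, ha, hb, rfl⟩ := hx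
  obtain ⟨c, d, hd, rfl⟩ := hy
  refine ⟨a * c, b * d, M.mul_mem_right _ ha, fun h => (hP.mem_or_mem h).elim hb hd, ?_⟩
  rw [div_mul_div_comm]
  simp

theorem memLocalIdeal_mul_left {x y : ℂ} (hx : MemLocalRing M x) (hy : MemLocalIdeal M y) :
    MemLocalIdeal M (x * y) := by
  rw [mul_comm]
  exact memLocalIdeal_mul_right hy hx

theorem memLocalIdeal_neg {x : ℂ} (hx : MemLocalIdeal M x) : MemLocalIdeal M (-x) := by
  obtain ⟨a, b, ha, hb, rfl⟩ := hx
  exact ⟨-a, b, M.neg_mem ha, hb, by simp [neg_div]⟩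

theorem memLocalIdeal_sub {x y : ℂ} (hx : MemLocalIdeal M x) (hy : MemLocalIdeal M y) :
    MemLocalIdeal M (x - y) := by
  simpa [sub_eq_add_neg] using memLocalIdeal_add hx (memLocalIdeal_neg hy)

theorem not_memLocalIdeal_one : ¬ MemLocalIdeal M (1 : ℂ) := by
  simpa using (memLocalIdeal_coe_iff (M := M) 1).not.mpr hP.one_notMem

theorem memLocalIdeal_mem_or_mem {x y : ℂ} (hx : MemLocalRing M x) (hy : MemLocalRing M y)
    (h : MemLocalIdeal M (x * y)) : MemLocalIdeal M x ∨ MemLocalIdeal M y := by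
  obtain ⟨a, b, hb, rfl⟩ := hx
  obtain ⟨c, d, hd, rfl⟩ := hy
  have hbd : b * d ∉ M := fun h => (hP.mem_or_mem h).elim hb hd
  have h2 : MemLocalIdeal M ((a * c : AlgInt) : ℂ) := by
    have := memLocalIdeal_mul_right h (memLocalRing_of_mem (b * d).2)
    rw [div_mul_div_comm] at this
    have hne : (b : ℂ) * (d : ℂ) ≠ 0 :=
      mul_ne_zero (coe_ne_zero_of_notMem hb) (coe_ne_zero_of_notMem hd)
    simpa [div_mul_cancel₀ _ hne] using this
  rcases hP.mem_or_mem ((memLocalIdeal_coe_iff _).mp h2) with h | h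
  · exact Or.inl ⟨a, b, h, hb, rfl⟩
  · exact Or.inr ⟨c, d, h, hd, rfl⟩

/-- A local integer outside the local ideal is invertible in the local ring. -/
theorem memLocalRing_inv {z : ℂ} (hz : MemLocalRing M z) (hz' : ¬ MemLocalIdeal M z) :
    z ≠ 0 ∧ MemLocalRing M z⁻¹ := by
  obtain ⟨a, b, hb, rfl⟩ := hz
  have ha : a ∉ M := fun ha => hz' ⟨a, b, ha, hb, rfl⟩
  exact ⟨div_ne_zero (coe_ne_zero_of_notMem ha) (coe_ne_zero_of_notMem hb),
    b, a, ha, by rw [inv_div]⟩

theorem memLocalIdeal_pow_iff {z : ℂ} (hz : MemLocalRing M z) {n : ℕ} (hn : n ≠ 0) :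
    MemLocalIdeal M (z ^ n) ↔ MemLocalIdeal M z := by
  refine ⟨fun h => ?_, fun h => ?_⟩
  · induction n with
    | zero => exact absurd rfl hn
    | succ m ih =>
      rcases eq_or_ne m 0 with rfl | hm
      · simpa using h
      · rw [pow_succ] at h
        exact (memLocalIdeal_mem_or_mem ((localRing M).pow_mem hz m) hz h).elim (ih hm) id
  · obtain ⟨m, rfl⟩ := Nat.exists_eq_succ_of_ne_zero hn
    rw [pow_succ]
    exact memLocalIdeal_mul_left ((localRing M).pow_mem hz m) h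

variable (M) in
/-- The maximal ideal of the local ring. -/
def localIdeal : Ideal (localRing M) where
  carrier := {z | MemLocalIdeal M (z : ℂ)}
  zero_mem' := memLocalIdeal_zero
  add_mem' := fun hx hy => memLocalIdeal_add hx hy
  smul_mem' := fun c _ hx => memLocalIdeal_mul_left c.2 hx

@[simp] theorem mem_localIdeal_iff {z : localRing M} :
    z ∈ localIdeal M ↔ MemLocalIdeal M (z : ℂ) :=
  Iff.rfl

instance localIdeal_isMaximal : (localIdeal M).IsMaximal := by
  refine Ideal.isMaximal_iff.mpr ⟨not_memLocalIdeal_one, fun J x hJ hx hxJ => ?_⟩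
  obtain ⟨hne, hinv⟩ := memLocalRing_inv (M := M) x.2 hx
  have : (⟨_, hinv⟩ : localRing M) * x = 1 := Subtype.ext (inv_mul_cancel₀ hne)
  exact this ▸ J.mul_mem_left _ hxJ

theorem memLocalRing_sum {ι : Type*} {s : Finset ι} {f : ι → ℂ}
    (h : ∀ i ∈ s, MemLocalRing M (f i)) : MemLocalRing M (∑ i ∈ s, f i) :=
  (localRing M).sum_mem h

theorem memLocalRing_prod {ι : Type*} {s : Finset ι} {f : ι → ℂ}
    (h : ∀ i ∈ s, MemLocalRing M (f i)) : MemLocalRing M (∏ i ∈ s, f i) :=
  (localRing M).prod_mem h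

theorem memLocalIdeal_sum {ι : Type*} {s : Finset ι} {f : ι → ℂ}
    (h : ∀ i ∈ s, MemLocalIdeal M (f i)) : MemLocalIdeal M (∑ i ∈ s, f i) :=
  Finset.sum_induction f (MemLocalIdeal M) (fun _ _ => memLocalIdeal_add) memLocalIdeal_zero h

theorem memLocalRing_natCast (n : ℕ) : MemLocalRing M (n : ℂ) := natCast_mem (localRing M) n

theorem memLocalRing_intCast (n : ℤ) : MemLocalRing M (n : ℂ) := intCast_mem (localRing M) n

omit hP

theorem memLocalIdeal_natCast_iff (hM : IsPModular p M) (n : ℕ) :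
    MemLocalIdeal M (n : ℂ) ↔ p ∣ n := by
  have := isPrime hM
  rw [← natCast_mem_iff hM n, ← memLocalIdeal_coe_iff (M := M), coe_natCast]

theorem memLocalIdeal_intCast_iff (hM : IsPModular p M) (n : ℤ) :
    MemLocalIdeal M (n : ℂ) ↔ (p : ℤ) ∣ n := by
  have := isPrime hM
  rw [← intCast_mem_iff hM n, ← memLocalIdeal_coe_iff (M := M)]
  simp

theorem memLocalRing_natCast_inv (hM : IsPModular p M) {n : ℕ} (hn : ¬ p ∣ n) :
    MemLocalRing M (n : ℂ)⁻¹ := by
  have := isPrime hM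
  exact (memLocalRing_inv (memLocalRing_natCast n)
    (fun h => hn ((memLocalIdeal_natCast_iff hM n).mp h))).2

end Local

section Residue

theorem charP_quotient (hM : IsPModular p M) : CharP (AlgInt ⧸ M) p where
  cast_eq_zero_iff n := by
    rw [← map_natCast (Ideal.Quotient.mk M), Ideal.Quotient.eq_zero_iff_mem]
    exact natCast_mem_iff hM n

theorem charP_residue [M.IsPrime] (hM : IsPModular p M) :
    CharP (localRing M ⧸ localIdeal M) p where
  cast_eq_zero_iff n := by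
    rw [← map_natCast (Ideal.Quotient.mk (localIdeal M)), Ideal.Quotient.eq_zero_iff_mem]
    simpa using memLocalIdeal_natCast_iff hM n

/-- A `p`-power root of unity is congruent to `1` modulo `M`. -/
theorem sub_one_mem_of_pow_prime_pow (hM : IsPModular p M) {z : AlgInt} {k : ℕ}
    (hz : z ^ p ^ k = 1) : z - 1 ∈ M := by
  have := isPrime hM
  have := Fact.mk hM.1
  have := charP_quotient hM
  rw [← Ideal.Quotient.eq_zero_iff_mem]
  refine pow_eq_zero_iff (pow_ne_zero k hM.1.ne_zero) |>.mp ?_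
  rw [map_sub, map_one, sub_pow_char_pow, one_pow, ← map_pow, hz, map_one, sub_self]

/-- For a `p`-power root of unity `z : ℂ`, `z - 1` is in the local ideal. -/
theorem memLocalIdeal_sub_one_of_pow (hM : IsPModular p M) {z : ℂ} {k : ℕ}
    (hz : z ^ p ^ k = 1) : MemLocalIdeal M (z - 1) := by
  have := isPrime hM
  have hi : z ∈ AlgInt :=
    IsIntegral.of_pow (R := ℤ) (pow_pos hM.1.pos k) (hz ▸ isIntegral_one)
  have h := sub_one_mem_of_pow_prime_pow hM (z := ⟨z, hi⟩) (k := k) (Subtype.ext (by simpa using hz))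
  simpa using (memLocalIdeal_coe_iff _).mpr h

/-- Roots of unity of order prime to `p` are distinct modulo `M`. -/
theorem eq_one_of_sub_one_mem (hM : IsPModular p M) {z : AlgInt} {m : ℕ} (hm : ¬ p ∣ m)
    (hz : z ^ m = 1) (h : z - 1 ∈ M) : z = 1 := by
  by_contra hne
  have hgeom : (∑ i ∈ Finset.range m, z ^ i) = 0 := by
    have := geom_sum_mul z m
    rw [hz, sub_self] at this
    exact (mul_eq_zero.mp this).resolve_right (sub_ne_zero.mpr hne)
  have h2 : (∑ i ∈ Finset.range m, (z ^ i - 1)) ∈ M :=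
    M.sum_mem fun i _ => by
      obtain ⟨c, hc⟩ := sub_one_dvd_pow_sub_one z i
      exact hc ▸ M.mul_mem_right c h
  rw [Finset.sum_sub_distrib, hgeom] at h2
  exact natCast_notMem hM hm (by simpa using h2)

end Residue

end Cfsg.Agent.BlocksCore
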