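import Cfsg.Agent.Lib.BlocksCore.Ortho

/-!
# The ring of central character values, blocks, block idempotents
-/

set_option linter.unusedSectionVars false

namespace Cfsg.Agent.BlocksCore

open scoped ComplexConjugate

variable {G : Type*} [Group G] [Finite G] {p : ℕ} {M : Ideal AlgInt}

section Fintype

variable [Fintype G]

/-- Class functions are determined by their central character values. -/
theorem eq_of_omega_eq {a b : G → ℂ} (ha : IsClassFunction G a) (hb : IsClassFunction G b)
    (h : ∀ χ : IrrCharacter G, omega (χ : G → ℂ) a = omega (χ : G → ℂ) b) : a = b := by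
  refine sub_eq_zero.mp (classFunction_eq_zero (fun g h => by simp [ha g h, hb g h]) fun χ => ?_)
  have h1 := h χ
  rw [omega_eq_sum, omega_eq_sum, div_left_inj' (irr_one_ne_zero χ)] at h1
  simp only [Pi.sub_apply, sub_mul, Finset.sum_sub_distrib, h1, sub_self]

theorem blockCoeff_eq_sum (A : Set (IrrCharacter G)) [Fintype (IrrCharacter G)] (g : G) :
    blockCoeff A g = (Nat.card G : ℂ)⁻¹ *
      ∑ χ : IrrCharacter G, A.indicator 1 χ * ((χ : G → ℂ) 1 * (χ : G → ℂ) g⁻¹) := by
  classical
  rw [blockCoeff, finsum_mem_def, finsum_eq_sum_of_fintype]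
  congr 1
  refine Finset.sum_congr rfl fun χ _ => ?_
  by_cases hχ : χ ∈ A <;> simp [hχ, conj_irr]

theorem isClassFunction_blockCoeff (A : Set (IrrCharacter G)) :
    IsClassFunction G (blockCoeff A) := by
  have := finite_irr (G := G)
  have := Fintype.ofFinite (IrrCharacter G)
  intro g h
  rw [blockCoeff_eq_sum, blockCoeff_eq_sum]
  congr 1
  refine Finset.sum_congr rfl fun χ _ => ?_
  rw [show (h * g * h⁻¹)⁻¹ = h * g⁻¹ * h⁻¹ by group, irr_class χ g⁻¹ h]

/-- `blockCoeff A` is the central idempotent of `A`. -/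
theorem omega_blockCoeff (A : Set (IrrCharacter G)) (χ : IrrCharacter G) :
    omega (χ : G → ℂ) (blockCoeff A) = A.indicator 1 χ := by
  classical
  have := finite_irr (G := G)
  have := Fintype.ofFinite (IrrCharacter G)
  rw [omega_eq_sum, div_eq_iff (irr_one_ne_zero χ)]
  simp only [blockCoeff_eq_sum, mul_assoc, Finset.sum_mul, ← Finset.mul_sum]
  rw [Finset.sum_comm]
  simp only [mul_assoc, ← Finset.mul_sum]
  rw [Finset.sum_eq_single χ]
  · rw [Finset.sum_congr rfl fun g _ => mul_comm ((χ : G → ℂ) g⁻¹) _, sum_char_mul_inv, if_pos rfl]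
    field_simp [Nat.cast_ne_zero.mpr (Nat.card_pos (α := G)).ne']
  · intro ψ _ hψ
    rw [Finset.sum_congr rfl fun g _ => mul_comm ((ψ : G → ℂ) g⁻¹) _, sum_char_mul_inv,
      if_neg (Ne.symm hψ), mul_zero, mul_zero]
  · exact fun h => absurd (Finset.mem_univ χ) h

/-- Expansion of `omega` over conjugacy classes. -/
theorem omega_eq_sum_classes [Fintype (ConjClasses G)] (χ : G → ℂ) {a : G → ℂ}
    (ha : IsClassFunction G a) :
    omega χ a = ∑ C : ConjClasses G, a (Quotient.out C) * omega χ (classInd (Quotient.out C)) := by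
  have h : a = ∑ C : ConjClasses G, a (Quotient.out C) • classInd (Quotient.out C) := by
    funext x
    rw [Finset.sum_apply, Finset.sum_eq_single (ConjClasses.mk x)]
    · have hc : IsConj (Quotient.out (ConjClasses.mk x)) x :=
        ConjClasses.mk_eq_mk_iff_isConj.mp (Quotient.out_eq _)
      obtain ⟨c, hc'⟩ := isConj_iff.mp hc
      rw [Pi.smul_apply, classInd_apply_of_isConj hc, smul_eq_mul, mul_one]
      conv_lhs => rw [← hc', ha]
    · intro C _ hC
      rw [Pi.smul_apply, classInd_apply_of_not_isConj fun hc => hC ?_, smul_zero]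
      rw [← Quotient.out_eq C]
      exact ConjClasses.mk_eq_mk_iff_isConj.mpr hc
    · exact fun h => absurd (Finset.mem_univ _) h
  conv_lhs => rw [h]
  simp only [omega_sum, omega_smul]

theorem omega_memLocalRing [M.IsPrime] (χ : IrrCharacter G) {a : G → ℂ}
    (ha : IsIntClassFun M a) : MemLocalRing M (omega (χ : G → ℂ) a) := by
  classical
  have : Finite (ConjClasses G) := Finite.of_surjective _ ConjClasses.mk_surjective
  have := Fintype.ofFinite (ConjClasses G)
  rw [omega_eq_sum_classes _ ha.1]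
  refine memLocalRing_sum fun C _ => ?_
  rw [omega_classInd (irr_class χ)]
  exact (localRing M).mul_mem (ha.2 _) (centralChar_memLocalRing χ _)

theorem isIntClassFun_conv [M.IsPrime] {a b : G → ℂ} (ha : IsIntClassFun M a)
    (hb : IsIntClassFun M b) : IsIntClassFun M (conv a b) :=
  ⟨isClassFunction_conv ha.1 hb.1, fun g => by
    rw [conv_apply]
    exact memLocalRing_sum fun y _ => (localRing M).mul_mem (ha.2 y) (hb.2 _)⟩

theorem isIntClassFun_add [M.IsPrime] {a b : G → ℂ} (ha : IsIntClassFun M a)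
    (hb : IsIntClassFun M b) : IsIntClassFun M (a + b) :=
  ⟨fun g h => by simp [ha.1 g h, hb.1 g h], fun g => (localRing M).add_mem (ha.2 g) (hb.2 g)⟩

theorem isIntClassFun_neg [M.IsPrime] {a : G → ℂ} (ha : IsIntClassFun M a) :
    IsIntClassFun M (-a) :=
  ⟨fun g h => by simp [ha.1 g h], fun g => (localRing M).neg_mem (ha.2 g)⟩

theorem isIntClassFun_smul [M.IsPrime] {a : G → ℂ} (ha : IsIntClassFun M a) {c : ℂ}
    (hc : MemLocalRing M c) : IsIntClassFun M (c • a) :=
  ⟨fun g h => by simp [ha.1 g h], fun g => (localRing M).mul_mem hc (ha.2 g)⟩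

theorem isIntClassFun_zero [M.IsPrime] : IsIntClassFun M (0 : G → ℂ) :=
  ⟨fun _ _ => rfl, fun _ => (localRing M).zero_mem⟩

/-- The values of the central characters at integral class functions form a ring. -/
def omegaRing (M : Ideal AlgInt) [M.IsPrime] : Subring (IrrCharacter G → ℂ) where
  carrier := {v | ∃ a : G → ℂ, IsIntClassFun M a ∧ ∀ χ : IrrCharacter G, omega (χ : G → ℂ) a = v χ}
  zero_mem' := ⟨0, isIntClassFun_zero, fun χ => omega_zero _⟩
  one_mem' := ⟨classInd 1, isIntClassFun_classInd 1, omega_classInd_one⟩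
  add_mem' := by
    rintro _ _ ⟨a, ha, hav⟩ ⟨b, hb, hbv⟩
    exact ⟨a + b, isIntClassFun_add ha hb, fun χ => by rw [omega_add, hav, hbv]; rfl⟩
  mul_mem' := by
    rintro _ _ ⟨a, ha, hav⟩ ⟨b, hb, hbv⟩
    exact ⟨conv a b, isIntClassFun_conv ha hb,
      fun χ => by rw [omega_conv χ ha.1 hb.1, hav, hbv]; rfl⟩
  neg_mem' := by
    rintro _ ⟨a, ha, hav⟩
    exact ⟨-a, isIntClassFun_neg ha, fun χ => by rw [omega_neg, hav]; rfl⟩

theorem omega_mem_omegaRing [M.IsPrime] {a : G → ℂ} (ha : IsIntClassFun M a) :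
    (fun χ : IrrCharacter G => omega (χ : G → ℂ) a) ∈ omegaRing M :=
  ⟨a, ha, fun _ => rfl⟩

theorem const_mem_omegaRing [M.IsPrime] {c : ℂ} (hc : MemLocalRing M c) :
    (fun _ : IrrCharacter G => c) ∈ omegaRing M :=
  ⟨c • classInd 1, isIntClassFun_smul (isIntClassFun_classInd 1) hc,
    fun χ => by rw [omega_smul, omega_classInd_one, mul_one]⟩

theorem omegaRing_apply_memLocalRing [M.IsPrime] {v : IrrCharacter G → ℂ}
    (hv : v ∈ omegaRing M) (χ : IrrCharacter G) : MemLocalRing M (v χ) := by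
  obtain ⟨a, ha, hav⟩ := hv
  rw [← hav]
  exact omega_memLocalRing χ ha

end Fintype

section Blocks

theorem sameBlock_refl [M.IsPrime] (χ : G → ℂ) : SameBlock M χ χ := fun g => by
  rw [sub_self]; exact memLocalIdeal_zero

theorem sameBlock_symm [M.IsPrime] {χ ψ : G → ℂ} (h : SameBlock M χ ψ) : SameBlock M ψ χ :=
  fun g => by rw [← neg_sub]; exact memLocalIdeal_neg (h g)

theorem sameBlock_trans [M.IsPrime] {χ ψ φ : G → ℂ} (h : SameBlock M χ ψ)
    (h' : SameBlock M ψ φ) : SameBlock M χ φ := fun g => by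
  rw [← sub_add_sub_cancel _ (centralChar ψ g)]; exact memLocalIdeal_add (h g) (h' g)

theorem mem_blockOf_self [M.IsPrime] (χ : IrrCharacter G) : χ ∈ blockOf M (χ : G → ℂ) :=
  sameBlock_refl _

theorem blockOf_eq_of_sameBlock [M.IsPrime] {χ ψ : G → ℂ} (h : SameBlock M χ ψ) :
    blockOf M χ = blockOf M ψ :=
  Set.ext fun _ => ⟨fun h' => sameBlock_trans (sameBlock_symm h) h',
    fun h' => sameBlock_trans h h'⟩

theorem isPBlock_eq_blockOf [M.IsPrime] {B : Set (IrrCharacter G)} (hB : IsPBlock M B)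
    {χ : IrrCharacter G} (hχ : χ ∈ B) : B = blockOf M (χ : G → ℂ) := by
  obtain ⟨φ, rfl⟩ := hB
  exact blockOf_eq_of_sameBlock hχ

theorem isPBlock_nonempty [M.IsPrime] {B : Set (IrrCharacter G)} (hB : IsPBlock M B) :
    B.Nonempty := by
  obtain ⟨φ, rfl⟩ := hB
  exact ⟨φ, mem_blockOf_self φ⟩

theorem isPBlock_eq_of_mem [M.IsPrime] {B B' : Set (IrrCharacter G)} (hB : IsPBlock M B)
    (hB' : IsPBlock M B') {χ : IrrCharacter G} (h : χ ∈ B) (h' : χ ∈ B') : B = B' := by
  rw [isPBlock_eq_blockOf hB h, isPBlock_eq_blockOf hB' h']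

theorem sameBlock_of_mem [M.IsPrime] {B : Set (IrrCharacter G)} (hB : IsPBlock M B)
    {χ ψ : IrrCharacter G} (h : χ ∈ B) (h' : ψ ∈ B) : SameBlock M (χ : G → ℂ) (ψ : G → ℂ) := by
  rw [isPBlock_eq_blockOf hB h] at h'
  exact h'

theorem isPBlock_blockOf (χ : IrrCharacter G) : IsPBlock M (blockOf M (χ : G → ℂ)) :=
  ⟨χ, rfl⟩

variable [Fintype G]

/-- Characters of one block agree modulo the local ideal on every integral class function. -/
theorem omega_sub_memLocalIdeal [M.IsPrime] {χ ψ : IrrCharacter G}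
    (h : SameBlock M (χ : G → ℂ) (ψ : G → ℂ)) {a : G → ℂ} (ha : IsIntClassFun M a) :
    MemLocalIdeal M (omega (χ : G → ℂ) a - omega (ψ : G → ℂ) a) := by
  classical
  have : Finite (ConjClasses G) := Finite.of_surjective _ ConjClasses.mk_surjective
  have := Fintype.ofFinite (ConjClasses G)
  rw [omega_eq_sum_classes _ ha.1, omega_eq_sum_classes _ ha.1, ← Finset.sum_sub_distrib]
  refine memLocalIdeal_sum fun C _ => ?_
  rw [← mul_sub, omega_classInd (irr_class χ), omega_classInd (irr_class ψ)]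
  exact memLocalIdeal_mul_left (ha.2 _) (h _)

theorem sameBlock_iff_omega [M.IsPrime] (χ ψ : IrrCharacter G) :
    SameBlock M (χ : G → ℂ) (ψ : G → ℂ) ↔ ∀ a : G → ℂ, IsIntClassFun M a →
      MemLocalIdeal M (omega (χ : G → ℂ) a - omega (ψ : G → ℂ) a) := by
  refine ⟨fun h a ha => omega_sub_memLocalIdeal h ha, fun h g => ?_⟩
  rw [← omega_classInd (irr_class χ), ← omega_classInd (irr_class ψ)]
  exact h _ (isIntClassFun_classInd g)

theorem omegaRing_sub_memLocalIdeal [M.IsPrime] {v : IrrCharacter G → ℂ}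
    (hv : v ∈ omegaRing M) {χ ψ : IrrCharacter G}
    (h : SameBlock M (χ : G → ℂ) (ψ : G → ℂ)) : MemLocalIdeal M (v χ - v ψ) := by
  obtain ⟨a, ha, hav⟩ := hv
  rw [← hav, ← hav]
  exact omega_sub_memLocalIdeal h ha

/-- An element of the ring supported on a finite set where its values are units is a factor of
the indicator of that set. -/
theorem exists_mul_eq_indicator [M.IsPrime] {x : IrrCharacter G → ℂ} (hx : x ∈ omegaRing M)
    (B : Set (IrrCharacter G)) (hout : ∀ χ ∉ B, x χ = 0)
    (hin : ∀ χ ∈ B, ¬ MemLocalIdeal M (x χ)) :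
    ∃ y ∈ omegaRing M, x * y = B.indicator 1 := by
  classical
  have := finite_irr (G := G)
  suffices ∀ s : Finset (IrrCharacter G), (∀ χ ∈ s, χ ∈ B) → ∃ y ∈ omegaRing M,
      x * y = 1 - ∏ χ ∈ s, (1 - (fun _ : IrrCharacter G => (x χ)⁻¹) * x) by
    letI hFin := Fintype.ofFinite (IrrCharacter G)
    obtain ⟨y, hy, h⟩ := this (Finset.univ.filter (· ∈ B)) (fun χ hχ => (Finset.mem_filter.mp hχ).2)
    refine ⟨y, hy, h.trans (funext fun χ => ?_)⟩
    simp only [Pi.sub_apply, Pi.one_apply, Finset.prod_apply, Pi.mul_apply]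
    by_cases hχ : χ ∈ B
    · rw [Set.indicator_of_mem hχ, Finset.prod_eq_zero (i := χ) (by simp [hχ]), sub_zero]
      · rfl
      · rw [inv_mul_cancel₀ (memLocalRing_inv (omegaRing_apply_memLocalRing hx χ) (hin χ hχ)).1,
          sub_self]
    · rw [Set.indicator_of_notMem hχ, hout χ hχ]
      simp
  intro s hs
  induction s using Finset.induction with
  | empty => exact ⟨0, zero_mem _, by simp⟩
  | insert χ s hχ ih =>
    obtain ⟨y, hy, h⟩ := ih fun ψ hψ => hs ψ (Finset.mem_insert_of_mem hψ)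
    have hc : (fun _ : IrrCharacter G => (x χ)⁻¹) ∈ omegaRing M :=
      const_mem_omegaRing (memLocalRing_inv (omegaRing_apply_memLocalRing hx χ)
        (hin χ (hs χ (Finset.mem_insert_self χ s)))).2
    refine ⟨(fun _ : IrrCharacter G => (x χ)⁻¹) + y * (1 - (fun _ : IrrCharacter G => (x χ)⁻¹) * x),
      add_mem hc (mul_mem hy (sub_mem (one_mem _) (mul_mem hc hx))), ?_⟩
    rw [Finset.prod_insert hχ, mul_add, ← mul_assoc, h]
    ring

/-- The indicator of a block lies in the ring of central character values. -/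
theorem indicator_block_mem_omegaRing [M.IsPrime] {B : Set (IrrCharacter G)}
    (hB : IsPBlock M B) : B.indicator 1 ∈ omegaRing M := by
  classical
  have := finite_irr (G := G)
  have := Fintype.ofFinite (IrrCharacter G)
  obtain ⟨χ, hχ⟩ := isPBlock_nonempty hB
  have hsep : ∀ ψ : IrrCharacter G, ∃ u ∈ omegaRing M, u χ = 1 ∧ (ψ ∉ B → u ψ = 0) := by
    intro ψ
    by_cases hψ : ψ ∈ B
    · exact ⟨1, one_mem _, rfl, fun h => absurd hψ h⟩
    · have hns : ¬ SameBlock M (χ : G → ℂ) (ψ : G → ℂ) := fun h => hψ (by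
        rw [isPBlock_eq_blockOf hB hχ]; exact h)
      rw [SameBlock] at hns
      push Not at hns
      obtain ⟨g, hg⟩ := hns
      rw [← omega_classInd (irr_class χ), ← omega_classInd (irr_class ψ)] at hg
      set v := fun φ : IrrCharacter G => omega (φ : G → ℂ) (classInd g) with hv
      have hvm : v ∈ omegaRing M := omega_mem_omegaRing (isIntClassFun_classInd g)
      have hd := memLocalRing_inv ((localRing M).sub_mem (omegaRing_apply_memLocalRing hvm χ)
        (omegaRing_apply_memLocalRing hvm ψ)) hg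
      refine ⟨(fun _ => (v χ - v ψ)⁻¹) * (v - fun _ => v ψ), mul_mem (const_mem_omegaRing hd.2)
        (sub_mem hvm (const_mem_omegaRing (omegaRing_apply_memLocalRing hvm ψ))), ?_, ?_⟩
      · simp only [Pi.mul_apply, Pi.sub_apply]
        exact inv_mul_cancel₀ hd.1
      · intro _; simp
  choose u hu hu1 hu0 using hsep
  set w : IrrCharacter G → ℂ := ∏ ψ, u ψ with hw
  have hwm : w ∈ omegaRing M := prod_mem fun ψ _ => hu ψ
  have hw0 : ∀ ψ ∉ B, w ψ = 0 := fun ψ hψ => by
    rw [hw, Finset.prod_apply]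
    exact Finset.prod_eq_zero (Finset.mem_univ ψ) (hu0 ψ hψ)
  have hw1 : w χ = 1 := by
    rw [hw, Finset.prod_apply]
    exact Finset.prod_eq_one fun ψ _ => hu1 ψ
  obtain ⟨y, hy, h⟩ := exists_mul_eq_indicator hwm B hw0 fun ψ hψ hm => by
    have := memLocalIdeal_add (omegaRing_sub_memLocalIdeal hwm (sameBlock_of_mem hB hχ hψ)) hm
    rw [sub_add_cancel, hw1] at this
    exact not_memLocalIdeal_one this
  exact h ▸ mul_mem hwm hy

/-- The coefficients of a block idempotent are local integers. -/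
theorem isIntClassFun_blockCoeff (hM : IsPModular p M) {B : Set (IrrCharacter G)}
    (hB : IsPBlock M B) : IsIntClassFun M (blockCoeff B) := by
  have := isPrime hM
  obtain ⟨a, ha, h⟩ := indicator_block_mem_omegaRing hB
  rw [eq_of_omega_eq (isClassFunction_blockCoeff B) ha.1 fun χ => by rw [omega_blockCoeff, h]]
  exact ha

/-- A set with integral idempotent coefficients is a union of blocks. -/
theorem blockOf_subset_of_integral (hM : IsPModular p M) {A : Set (IrrCharacter G)}
    (hA : ∀ g, MemLocalRing M (blockCoeff A g)) {χ : IrrCharacter G} (hχ : χ ∈ A) :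
    blockOf M (χ : G → ℂ) ⊆ A := by
  have := isPrime hM
  intro ψ hψ
  by_contra hψA
  have := omega_sub_memLocalIdeal hψ ⟨isClassFunction_blockCoeff A, hA⟩
  rw [omega_blockCoeff, omega_blockCoeff, Set.indicator_of_mem hχ,
    Set.indicator_of_notMem hψA, sub_zero] at this
  exact not_memLocalIdeal_one this

theorem conv_blockCoeff_self (A : Set (IrrCharacter G)) :
    conv (blockCoeff A) (blockCoeff A) = blockCoeff A :=
  eq_of_omega_eq (isClassFunction_conv (isClassFunction_blockCoeff A) (isClassFunction_blockCoeff A))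
    (isClassFunction_blockCoeff A) fun χ => by
      rw [omega_conv χ (isClassFunction_blockCoeff A) (isClassFunction_blockCoeff A),
        omega_blockCoeff]
      by_cases h : χ ∈ A <;> simp [h]

/-- An integral class function with unit central character on a block divides the block
idempotent. -/
theorem exists_conv_eq_blockCoeff (hM : IsPModular p M) {B : Set (IrrCharacter G)}
    (hB : IsPBlock M B) {a : G → ℂ} (ha : IsIntClassFun M a) {χ : IrrCharacter G} (hχ : χ ∈ B)
    (h : ¬ MemLocalIdeal M (omega (χ : G → ℂ) a)) :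
    ∃ c : G → ℂ, IsIntClassFun M c ∧ conv a c = blockCoeff B := by
  have := isPrime hM
  obtain ⟨y, hy, hxy⟩ := exists_mul_eq_indicator
    (mul_mem (omega_mem_omegaRing ha) (indicator_block_mem_omegaRing hB)) B
    (fun ψ hψ => by simp [hψ]) (fun ψ hψ hm => by
      simp only [Pi.mul_apply, Set.indicator_of_mem hψ, Pi.one_apply, mul_one] at hm
      have := memLocalIdeal_add (omega_sub_memLocalIdeal (sameBlock_of_mem hB hχ hψ) ha) hm
      rw [sub_add_cancel] at this
      exact h this)
  obtain ⟨c, hc, hcv⟩ := mul_mem (indicator_block_mem_omegaRing hB) hy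
  refine ⟨c, hc, eq_of_omega_eq (isClassFunction_conv ha.1 hc.1) (isClassFunction_blockCoeff B)
    fun ψ => ?_⟩
  rw [omega_conv ψ ha.1 hc.1, hcv, omega_blockCoeff]
  have := congrFun hxy ψ
  simp only [Pi.mul_apply] at this ⊢
  rw [← mul_assoc]
  exact this

end Blocks

end Cfsg.Agent.BlocksCore
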