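import Mathlib.LinearAlgebra.Eigenspace.Triangularizable
import Mathlib.LinearAlgebra.Dual.Lemmas
import Mathlib.GroupTheory.Sylow
import Mathlib.GroupTheory.GroupAction.Quotient
import Mathlib.RepresentationTheory.Basic
import Mathlib.Algebra.CharP.Lemmas
import Mathlib.Algebra.Polynomial.AlgebraMap
import Mathlib.RingTheory.Nilpotent.Lemmas

/-!
# Equivariant functionals modulo traces from a Sylow subgroup of prime order

Let `z` generate the subgroup `P` of order `p`, `p` not dividing its index, and let `N` be the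
normalizer of `P`.  A functional on a representation is a trace when it factors through the sum
of the elements of `P`.  An irreducible representation admits an `N`-equivariant functional
which is no trace for at most one linear character of `N` trivial on `P`.
-/

set_option linter.unusedSectionVars false

namespace Cfsg.Agent.BlocksCore.StableHom

open Finset

/-- Sum over a set with a free action of a finite group. -/
theorem sum_eq_sum_free {P S A : Type*} [Group P] [MulAction P S] [Fintype P] [Fintype S]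
    [AddCommMonoid A] [Fintype (Quotient (MulAction.orbitRel P S))]
    (free : ∀ (u : P) (s : S), u • s = s → u = 1) (F : S → A) :
    ∑ s, F s = ∑ u : P, ∑ q : Quotient (MulAction.orbitRel P S), F (u • q.out) := by
  rw [← Fintype.sum_prod_type' (fun (u : P) (q : Quotient (MulAction.orbitRel P S)) =>
    F (u • q.out))]
  refine (Fintype.sum_bijective (fun uq : P × Quotient (MulAction.orbitRel P S) => uq.1 • uq.2.out)
    ⟨?_, fun s => ?_⟩ _ _ fun _ => rfl).symm
  · rintro ⟨u, q⟩ ⟨u', q'⟩ h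
    simp only at h
    have hq : q = q' := by
      rw [← Quotient.out_eq q, ← Quotient.out_eq q']
      refine Quotient.sound (show q.out ∈ MulAction.orbit P q'.out from ⟨u⁻¹ * u', ?_⟩)
      show (u⁻¹ * u') • q'.out = q.out
      rw [mul_smul, ← h, inv_smul_smul]
    subst hq
    have h1 := free (u'⁻¹ * u) q.out (by rw [mul_smul, h, inv_smul_smul])
    exact Prod.ext (inv_mul_eq_one.mp h1).symm rfl
  · obtain ⟨u, hu⟩ : (Quotient.mk (MulAction.orbitRel P S) s).out ∈ MulAction.orbit P s :=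
      Quotient.mk_out (s := MulAction.orbitRel P S) s
    exact ⟨⟨u⁻¹, Quotient.mk _ s⟩, by simp only [← hu, inv_smul_smul]⟩

variable {K : Type*} [Field K] {V : Type*} [AddCommGroup V] [Module K V]

section ConjSum

variable {X : Type*} [Group X] (H : Subgroup X) (π : X →* Module.End K V) (h : Module.End K V)

/-- The sum of the conjugates of `h` over the cosets of `H`. -/
noncomputable def conjSum [Fintype (X ⧸ H)] : Module.End K V :=
  ∑ q : X ⧸ H, π q.out * h * π q.out⁻¹

theorem map_mul_inv (x : X) : π x * π x⁻¹ = 1 := by rw [← map_mul, mul_inv_cancel, map_one]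

theorem map_inv_mul (x : X) : π x⁻¹ * π x = 1 := by rw [← map_mul, inv_mul_cancel, map_one]

theorem conj_eq_of_mk_eq (hh : ∀ y ∈ H, π y * h = h * π y) {a b : X}
    (hab : (a : X ⧸ H) = (b : X ⧸ H)) : π a * h * π a⁻¹ = π b * h * π b⁻¹ := by
  have hy := QuotientGroup.eq.mp hab
  have e1 : π b = π a * π (a⁻¹ * b) := by rw [← map_mul, mul_inv_cancel_left]
  have e2 : π b⁻¹ = π (a⁻¹ * b)⁻¹ * π a⁻¹ := by
    rw [← map_mul]
    congr 1
    group
  rw [e1, e2]
  calc π a * h * π a⁻¹ = π a * (h * (π (a⁻¹ * b) * π (a⁻¹ * b)⁻¹)) * π a⁻¹ := by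
        rw [map_mul_inv, mul_one]
    _ = π a * (π (a⁻¹ * b) * h * π (a⁻¹ * b)⁻¹) * π a⁻¹ := by
        rw [hh _ hy]
        simp only [mul_assoc]
    _ = _ := by simp only [mul_assoc]

theorem conjSum_commute [Fintype (X ⧸ H)] (hh : ∀ y ∈ H, π y * h = h * π y) (x : X) :
    π x * conjSum H π h = conjSum H π h * π x := by
  have key : π x * conjSum H π h * π x⁻¹ = conjSum H π h := by
    rw [conjSum, Finset.mul_sum, Finset.sum_mul]
    refine Fintype.sum_equiv (MulAction.toPerm x) _ _ fun q => ?_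
    have e : ((x * q.out : X) : X ⧸ H) = ((x • q).out : X ⧸ H) := by
      rw [QuotientGroup.out_eq']
      conv_rhs => rw [← QuotientGroup.out_eq' q]
      rfl
    rw [MulAction.toPerm_apply, ← conj_eq_of_mk_eq H π h hh e, map_mul, mul_inv_rev, map_mul]
    simp only [mul_assoc]
  conv_rhs => rw [← key]
  rw [mul_assoc, map_inv_mul, mul_one]

end ConjSum

variable {G : Type*} [Group G]

/-- A functional factoring through the sum of the elements of `P`. -/
def StZero (ρ : Representation K G V) (P : Subgroup G) [Fintype P] (f : V →ₗ[K] K) : Prop :=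
  ∃ ψ : V →ₗ[K] K, ∀ v, f v = ∑ u : P, ψ (ρ u v)

/-- `f` is equivariant for the character `lam` of `N`. -/
def IsEquiv (ρ : Representation K G V) (N : Subgroup G) (lam : N →* K) (f : V →ₗ[K] K) : Prop :=
  ∀ (n : N) (v : V), f (ρ n v) = lam n * f v

/-- Irreducibility by invariant subspaces. -/
def IsIrr (ρ : Representation K G V) : Prop :=
  ∀ A : Submodule K V, (∀ (g : G), ∀ v ∈ A, ρ g v ∈ A) → A = ⊥ ∨ A = ⊤

variable {p : ℕ} [Fact p.Prime] [CharP K p] [Finite G]

/-- A Sylow subgroup of prime order with a generator. -/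
structure Setting (p : ℕ) (P : Subgroup G) (z : G) : Prop where
  zpowers_eq : Subgroup.zpowers z = P
  orderOf_eq : orderOf z = p
  not_dvd_index : ¬ p ∣ P.index

variable {P : Subgroup G} {z : G} (hs : Setting p P z) (ρ : Representation K G V)

include hs

theorem Setting.card_eq : Nat.card P = p := by
  rw [← hs.zpowers_eq, Nat.card_zpowers, hs.orderOf_eq]

theorem Setting.mem : z ∈ P := hs.zpowers_eq ▸ Subgroup.mem_zpowers z

theorem Setting.exists_pow {u : G} (hu : u ∈ P) : ∃ a : ℕ, z ^ a = u := by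
  rw [← hs.zpowers_eq, ← mem_powers_iff_mem_zpowers] at hu
  exact hu

theorem Setting.zpowers_eq_of_mem {u : G} (hu : u ∈ P) (h1 : u ≠ 1) : Subgroup.zpowers u = P := by
  refine Subgroup.eq_of_le_of_card_ge (Subgroup.zpowers_le.mpr hu) ?_
  have h2 : orderOf u ∣ p := hs.card_eq ▸ Subgroup.orderOf_dvd_natCard P hu
  rcases (Nat.dvd_prime Fact.out).mp h2 with h | h
  · exact absurd (orderOf_eq_one_iff.mp h) h1
  · rw [Nat.card_zpowers, h, hs.card_eq]

theorem Setting.mem_normalizer {g u : G} (hu : u ∈ P) (h1 : u ≠ 1) (h : g⁻¹ * u * g ∈ P) :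
    g ∈ Subgroup.normalizer (P : Set G) := by
  have hg : ∀ x ∈ P, g⁻¹ * x * g ∈ P := by
    intro x hx
    rw [← hs.zpowers_eq_of_mem hu h1] at hx
    obtain ⟨i, rfl⟩ := Subgroup.mem_zpowers_iff.mp hx
    have e : g⁻¹ * u ^ i * g = (g⁻¹ * u * g) ^ i := by
      have := map_zpow (MulAut.conj g⁻¹).toMonoidHom u i
      simpa [mul_assoc] using this
    rw [e]
    exact zpow_mem h i
  have hne : g⁻¹ ∈ Subgroup.normalizer (P : Set G) := by
    refine Subgroup.mem_normalizer_iff.mpr fun x => ⟨fun hx => by simpa using hg x hx, fun hx => ?_⟩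
    have hmap : P.map (MulAut.conj g⁻¹).toMonoidHom = P := by
      refine Subgroup.eq_of_le_of_card_ge ?_ ?_
      · rintro _ ⟨y, hy, rfl⟩
        simpa using hg y hy
      · rw [Nat.card_congr (P.equivMapOfInjective _ (MulAut.conj g⁻¹).injective).symm.toEquiv]
    rw [← hmap] at hx
    obtain ⟨y, hy, hyx⟩ := hx
    simp only [MulEquiv.coe_toMonoidHom, MulAut.conj_apply, mul_left_inj, mul_right_inj] at hyx
    exact hyx ▸ hy
  simpa using inv_mem hne

variable [Fintype P]

theorem sum_eq_pow : ∑ u : P, ρ (u : G) = (ρ z - 1) ^ (p - 1) := by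
  have hp : p.Prime := Fact.out
  have e1 : ∑ u : P, ρ (u : G) = ∑ i ∈ range p, ρ z ^ i := by
    rw [Finset.sum_range]
    let e : Fin p → P := fun i => ⟨z ^ (i : ℕ), pow_mem hs.mem _⟩
    refine (Fintype.sum_bijective e ⟨fun i j h => ?_, fun u => ?_⟩ _ _ fun i => ?_).symm
    · refine Fin.ext ?_
      have h' : z ^ (i : ℕ) = z ^ (j : ℕ) := congrArg Subtype.val h
      rw [pow_eq_pow_iff_modEq, hs.orderOf_eq] at h'
      exact Nat.ModEq.eq_of_lt_of_lt h' i.2 j.2
    · obtain ⟨a, ha⟩ := hs.exists_pow u.2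
      refine ⟨⟨a % p, Nat.mod_lt _ hp.pos⟩, Subtype.ext ?_⟩
      show z ^ (a % p) = u
      rw [← ha, ← hs.orderOf_eq, pow_mod_orderOf]
    · exact (map_pow ρ z i).symm
  have e2 : (∑ i ∈ range p, (Polynomial.X : Polynomial K) ^ i) =
      (Polynomial.X - 1) ^ (p - 1) := by
    refine mul_right_cancel₀ (b := (Polynomial.X : Polynomial K) - 1) ?_ ?_
    · simpa using Polynomial.X_sub_C_ne_zero (1 : K)
    · rw [geom_sum_mul, ← pow_succ, Nat.sub_add_cancel hp.one_le, sub_pow_char, one_pow]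
  have e3 := congrArg (Polynomial.aeval (ρ z)) e2
  simp only [map_sum, map_pow, map_sub, map_one, Polynomial.aeval_X] at e3
  rw [e1, e3]

theorem sum_apply_eq (v : V) : ∑ u : P, ρ (u : G) v = ((ρ z - 1) ^ (p - 1)) v := by
  rw [← sum_eq_pow hs ρ, LinearMap.sum_apply]

theorem stZero_iff (f : V →ₗ[K] K) :
    StZero ρ P f ↔ ∀ v, ((ρ z - 1) ^ (p - 1)) v = 0 → f v = 0 := by
  constructor
  · rintro ⟨ψ, hψ⟩ v hv
    rw [hψ, ← map_sum, sum_apply_eq hs, hv, map_zero]
  · intro h
    have : f ∈ LinearMap.range ((ρ z - 1) ^ (p - 1)).dualMap := by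
      rw [LinearMap.range_dualMap_eq_dualAnnihilator_ker, Submodule.mem_dualAnnihilator]
      exact fun v hv => h v hv
    obtain ⟨ψ, hψ⟩ := this
    refine ⟨ψ, fun v => ?_⟩
    rw [← map_sum, sum_apply_eq hs, ← hψ]
    rfl

/-- `P` fixes a functional equivariant for a character trivial on it. -/
theorem apply_sub_one {N : Subgroup G} (hPN : P ≤ N) {lam : N →* K}
    (hlam : ∀ n : N, (n : G) ∈ P → lam n = 1) {f : V →ₗ[K] K} (hf : IsEquiv ρ N lam f) (v : V) :
    f ((ρ z - 1) v) = 0 := by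
  have h := hf ⟨z, hPN hs.mem⟩ v
  rw [hlam _ hs.mem, one_mul] at h
  rw [LinearMap.sub_apply, Module.End.one_apply, map_sub, h, sub_self]

/-- The powers of `ρ z - 1` have kernels invariant under the normalizer. -/
theorem pow_apply_eq_zero {n : G} (hn : n ∈ Subgroup.normalizer (P : Set G)) {i : ℕ} {w : V}
    (hw : ((ρ z - 1) ^ i) w = 0) : ((ρ z - 1) ^ i) (ρ n w) = 0 := by
  obtain ⟨a, ha⟩ := hs.exists_pow (u := n⁻¹ * z * n) (by
    simpa using (Subgroup.mem_normalizer_iff.mp (inv_mem hn) z).mp hs.mem)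
  have e : (ρ z - 1) * ρ n = ρ n * ((∑ l ∈ range a, ρ z ^ l) * (ρ z - 1)) := by
    rw [geom_sum_mul, mul_sub, mul_one, ← map_pow, ha, ← map_mul, sub_mul, one_mul, ← map_mul]
    congr 2
    group
  have e2 : ∀ j : ℕ, (ρ z - 1) ^ j * ρ n = ρ n * ((∑ l ∈ range a, ρ z ^ l) * (ρ z - 1)) ^ j := by
    intro j
    induction j with
    | zero => simp
    | succ j ih => rw [pow_succ, mul_assoc, e, ← mul_assoc, ih, mul_assoc, ← pow_succ]
  have hcomm : Commute (∑ l ∈ range a, ρ z ^ l) (ρ z - 1) :=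
    (Commute.sum_left _ _ _ fun l _ => (Commute.pow_self (ρ z) l).sub_right (Commute.one_right _))
  have h := congrArg (fun T : Module.End K V => T w) (e2 i)
  rw [hcomm.mul_pow] at h
  simp only [Module.End.mul_apply, hw, map_zero] at h
  exact h

theorem pow_apply_sub_eq_zero {i : ℕ} {v : V} (hv : ((ρ z - 1) ^ (i + 1)) v = 0) {u : G}
    (hu : u ∈ P) : ((ρ z - 1) ^ i) (ρ u v - v) = 0 := by
  obtain ⟨a, ha⟩ := hs.exists_pow hu
  have hcomm : Commute ((ρ z - 1) ^ i) (∑ l ∈ range a, ρ z ^ l) :=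
    ((Commute.sum_left _ _ _ fun l _ =>
      (Commute.pow_self (ρ z) l).sub_right (Commute.one_right _)).pow_right i).symm
  have e : ρ u v - v = ((∑ l ∈ range a, ρ z ^ l) * (ρ z - 1)) v := by
    rw [geom_sum_mul, ← map_pow, ha, LinearMap.sub_apply, Module.End.one_apply]
  rw [e, ← Module.End.mul_apply, ← mul_assoc, hcomm.eq, mul_assoc, ← pow_succ,
    Module.End.mul_apply, hv, map_zero]

/-- Endomorphisms of an irreducible representation commuting with the normalizer are scalars
up to traces from `P`. -/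
theorem exists_scalar [IsAlgClosed K] [FiniteDimensional K V] [Nontrivial V] (hirr : IsIrr ρ)
    (h : Module.End K V)
    (hh : ∀ n ∈ Subgroup.normalizer (P : Set G), ρ n * h = h * ρ n) :
    ∃ (c : K) (ψ : Module.End K V), h = c • (1 : Module.End K V) +
      ∑ u : P, ρ (u : G) * ψ * ρ (u : G)⁻¹ := by
  classical
  set N := Subgroup.normalizer (P : Set G) with hN
  haveI := Fintype.ofFinite (G ⧸ N)
  set H := conjSum N ρ h with hH
  have hHc := conjSum_commute N ρ h hh
  obtain ⟨c, hc⟩ := Module.End.exists_eigenvalue H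
  have hHc' : ∀ v, H v = c • v := by
    have hA := hirr (Module.End.eigenspace H c) fun g v hv => by
      rw [Module.End.mem_eigenspace_iff] at hv ⊢
      rw [← Module.End.mul_apply, ← hHc g, Module.End.mul_apply, hv, map_smul]
    intro v
    have htop : Module.End.eigenspace H c = ⊤ := hA.resolve_left hc
    exact Module.End.mem_eigenspace_iff.mp (htop ▸ Submodule.mem_top)
  set F : G ⧸ N → Module.End K V := fun q => ρ q.out * h * ρ q.out⁻¹ with hF
  set q₀ : G ⧸ N := ((1 : G) : G ⧸ N) with hq₀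
  let S := {q : G ⧸ N // q ≠ q₀}
  have hstab : ∀ (u : P) (q : S), ((u : G) • q.1) ≠ q₀ := by
    intro u q hq
    refine q.2 ?_
    have := congrArg ((u : G)⁻¹ • ·) hq
    simp only [inv_smul_smul] at this
    rw [this, hq₀]
    show (((u : G)⁻¹ * 1 : G) : G ⧸ N) = _
    rw [mul_one]
    exact QuotientGroup.eq.mpr (by
      rw [inv_inv, mul_one]; exact Subgroup.le_normalizer u.2)
  let _ : MulAction P S :=
    { smul := fun u q => ⟨(u : G) • q.1, hstab u q⟩
      one_smul := fun q => Subtype.ext (one_smul G q.1)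
      mul_smul := fun u v q => Subtype.ext (mul_smul (u : G) (v : G) q.1) }
  have hfree : ∀ (u : P) (q : S), u • q = q → u = 1 := by
    intro u q huq
    by_contra hu1
    have h1 : (u : G) • q.1 = q.1 := congrArg Subtype.val huq
    refine q.2 ?_
    refine (QuotientGroup.out_eq' q.1).symm.trans (QuotientGroup.eq.mpr ?_)
    rw [mul_one]
    refine inv_mem (hs.mem_normalizer u.2 (fun h => hu1 (Subtype.ext h)) ?_)
    have h2 : (((u : G) * q.1.out : G) : G ⧸ N) = (q.1.out : G ⧸ N) :=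
      calc (((u : G) * q.1.out : G) : G ⧸ N) = (u : G) • (q.1.out : G ⧸ N) := rfl
        _ = (u : G) • q.1 := by rw [QuotientGroup.out_eq']
        _ = q.1 := h1
        _ = _ := (QuotientGroup.out_eq' q.1).symm
    have h3 := QuotientGroup.eq.mp h2
    rw [mul_inv_rev, mul_assoc] at h3
    -- a `p`-element of the normalizer lies in `P`
    have h4 : q.1.out⁻¹ * (u : G) * q.1.out ∈ N := by
      have := inv_mem h3
      simpa [mul_assoc] using this
    have hpg : IsPGroup p (P.subgroupOf N) :=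
      (IsPGroup.of_card (n := 1) (by rw [hs.card_eq, pow_one]) :
        IsPGroup p P).of_equiv (Subgroup.subgroupOfEquivOfLe Subgroup.le_normalizer).symm
    have hnd : ¬ p ∣ (P.subgroupOf N).index := fun hd =>
      hs.not_dvd_index (hd.trans (Subgroup.relIndex_dvd_index_of_le Subgroup.le_normalizer))
    haveI : (P.subgroupOf N).Normal := Subgroup.normal_in_normalizer
    have hle : Subgroup.zpowers (⟨_, h4⟩ : N) ≤ P.subgroupOf N := by
      have hz : IsPGroup p (Subgroup.zpowers (⟨_, h4⟩ : N)) := by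
        refine IsPGroup.of_card (n := 1) ?_
        rw [pow_one, Nat.card_zpowers, Subgroup.orderOf_mk,
          show q.1.out⁻¹ * (u : G) * q.1.out = MulAut.conj q.1.out⁻¹ (u : G) by simp,
          MulEquiv.orderOf_eq, ← Nat.card_zpowers,
          hs.zpowers_eq_of_mem u.2 (fun h => hu1 (Subtype.ext h)), hs.card_eq]
      have hsup : P.subgroupOf N ⊔ Subgroup.zpowers (⟨_, h4⟩ : N) = P.subgroupOf N :=
        (hpg.toSylow hnd).3 (hpg.to_sup_of_normal_left hz) le_sup_left
      exact hsup ▸ le_sup_right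
    exact hle (Subgroup.mem_zpowers _)
  have hsum : H = h + ∑ q : S, F q.1 := by
    rw [hH, conjSum, ← Finset.sum_subtype (p := fun q => q ≠ q₀) (Finset.univ.erase q₀)
      (fun q => by simp) F, ← Finset.add_sum_erase _ F (Finset.mem_univ q₀)]
    congr 1
    have hn : q₀.out ∈ N := by
      have := QuotientGroup.eq.mp (QuotientGroup.out_eq' q₀).symm
      simpa using this
    rw [hF]
    show ρ q₀.out * h * ρ q₀.out⁻¹ = h
    rw [hh _ hn, mul_assoc, map_mul_inv, mul_one]
  haveI := Fintype.ofFinite (Quotient (MulAction.orbitRel P S))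
  refine ⟨c, -∑ q : Quotient (MulAction.orbitRel P S), F q.out.1, ?_⟩
  have hH1 : H = c • (1 : Module.End K V) := LinearMap.ext fun v => by
    rw [hHc' v, LinearMap.smul_apply, Module.End.one_apply]
  rw [← hH1, hsum, sum_eq_sum_free hfree]
  simp only [mul_neg, neg_mul, Finset.sum_neg_distrib]
  rw [eq_comm, add_neg_eq_iff_eq_add, add_right_inj]
  refine Finset.sum_congr rfl fun u _ => ?_
  rw [Finset.mul_sum, Finset.sum_mul]
  refine Finset.sum_congr rfl fun q _ => ?_
  have e : (((u : G) * q.out.1.out : G) : G ⧸ N) = (((u • q.out).1).out : G ⧸ N) := by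
    rw [QuotientGroup.out_eq']
    show _ = (u : G) • q.out.1
    conv_rhs => rw [← QuotientGroup.out_eq' q.out.1]
    rfl
  rw [hF]
  simp only
  rw [← conj_eq_of_mk_eq N ρ h hh e, map_mul, mul_inv_rev, map_mul]
  simp only [mul_assoc]

/-- The projector onto equivariant vectors modulo a kernel. -/
theorem exists_eigen_mod {N : Subgroup G} (hPN : P ≤ N) (hNn : N ≤ Subgroup.normalizer (P : Set G))
    {lam : N →* K} (hlam : ∀ n : N, (n : G) ∈ P → lam n = 1) {f : V →ₗ[K] K}
    (hf : IsEquiv ρ N lam f) {i : ℕ} {v₀ : V} (hv₀ : ((ρ z - 1) ^ (i + 1)) v₀ = 0)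
    (hfv : f v₀ = 1) :
    ∃ v, ((ρ z - 1) ^ (i + 1)) v = 0 ∧ f v = 1 ∧
      ∀ n : N, ((ρ z - 1) ^ i) (ρ n v - lam n • v) = 0 := by
  classical
  haveI := Fintype.ofFinite N
  set P' := P.subgroupOf N with hP'
  haveI : P'.Normal := Subgroup.normal_subgroupOf_of_le_normalizer hNn
  haveI := Fintype.ofFinite (N ⧸ P')
  set m : K := (Fintype.card (N ⧸ P') : K) with hm
  have hm0 : m ≠ 0 := by
    rw [hm, Ne, CharP.cast_eq_zero_iff K p, ← Nat.card_eq_fintype_card]
    exact fun hd => hs.not_dvd_index (hd.trans (Subgroup.relIndex_dvd_index_of_le hPN))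
  have hlam0 : ∀ n : N, lam n ≠ 0 := fun n h => by
    have := map_mul lam n n⁻¹
    rw [mul_inv_cancel, map_one, h, zero_mul] at this
    exact one_ne_zero this
  refine ⟨m⁻¹ • ∑ q : N ⧸ P', (lam q.out)⁻¹ • ρ (q.out : G) v₀, ?_, ?_, fun n => ?_⟩
  · rw [map_smul, map_sum, Finset.sum_eq_zero, smul_zero]
    intro q _
    rw [map_smul, pow_apply_eq_zero hs ρ (hNn q.out.2) hv₀, smul_zero]
  · rw [map_smul, map_sum]
    simp only [map_smul, smul_eq_mul, hf _ v₀, hfv, mul_one, inv_mul_cancel₀ (hlam0 _)]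
    rw [Finset.sum_const, Finset.card_univ, nsmul_eq_mul, mul_one, ← hm, inv_mul_cancel₀ hm0]
  · have key : lam n • ∑ q : N ⧸ P', (lam q.out)⁻¹ • ρ (q.out : G) v₀ =
        ∑ q : N ⧸ P', (lam q.out)⁻¹ • ρ (((n : N ⧸ P') * q).out : G) v₀ := by
      rw [Finset.smul_sum]
      refine (Fintype.sum_equiv (Equiv.mulLeft (n : N ⧸ P')) _ _ fun q => ?_).symm
      rw [Equiv.coe_mulLeft, smul_smul]
      congr 1
      have e : (((n * q.out : N)) : N ⧸ P') = ((((n : N ⧸ P') * q).out : N) : N ⧸ P') := by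
        rw [QuotientGroup.out_eq', QuotientGroup.mk_mul, QuotientGroup.out_eq']
      have h1 : lam ((n * q.out)⁻¹ * ((n : N ⧸ P') * q).out) = 1 :=
        hlam _ (Subgroup.mem_subgroupOf.mp (QuotientGroup.eq.mp e))
      have h2 : lam (((n : N ⧸ P') * q).out) = lam n * lam q.out := by
        conv_lhs => rw [show ((n : N ⧸ P') * q).out =
          n * q.out * ((n * q.out)⁻¹ * ((n : N ⧸ P') * q).out) by group]
        rw [map_mul, h1, mul_one, map_mul]
      rw [h2, mul_inv, ← mul_assoc, mul_inv_cancel₀ (hlam0 n), one_mul]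
    rw [map_smul (ρ (n : G)), map_sum, smul_comm, key, ← smul_sub, map_smul,
      ← Finset.sum_sub_distrib, map_sum, Finset.sum_eq_zero, smul_zero]
    intro q _
    rw [map_smul, ← smul_sub, map_smul]
    set o : N := ((n : N ⧸ P') * q).out
    have e : (o : N ⧸ P') = (((n * q.out : N)) : N ⧸ P') := by
      rw [QuotientGroup.out_eq', QuotientGroup.mk_mul, QuotientGroup.out_eq']
    have hu : ((o⁻¹ * (n * q.out) : N) : G) ∈ P :=
      Subgroup.mem_subgroupOf.mp (QuotientGroup.eq.mp e)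
    rw [← Module.End.mul_apply, ← map_mul, ← Subgroup.coe_mul,
      show n * q.out = o * (o⁻¹ * (n * q.out)) by group, Subgroup.coe_mul, map_mul,
      Module.End.mul_apply, ← map_sub,
      pow_apply_eq_zero hs ρ (hNn o.2) (pow_apply_sub_eq_zero hs ρ hv₀ hu), smul_zero]

/-- The key step: two different characters cannot both have functionals which are no traces. -/
theorem false_of_two_aux [IsAlgClosed K] [FiniteDimensional K V] [Nontrivial V] (hirr : IsIrr ρ)
    {lam mu : Subgroup.normalizer (P : Set G) →* K}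
    (hlam : ∀ n : Subgroup.normalizer (P : Set G), (n : G) ∈ P → lam n = 1)
    (hmu : ∀ n : Subgroup.normalizer (P : Set G), (n : G) ∈ P → mu n = 1)
    (hne : lam ≠ mu) {f g : V →ₗ[K] K}
    (hf : IsEquiv ρ _ lam f) (hg : IsEquiv ρ _ mu g) (hgs : ¬ StZero ρ P g) {i : ℕ}
    (hi : i + 1 ≤ p - 1) {v₀ : V} (hv₀ : ((ρ z - 1) ^ (i + 1)) v₀ = 0) (hfv : f v₀ ≠ 0)
    (hfk : ∀ w, ((ρ z - 1) ^ i) w = 0 → f w = 0)
    (hgk : ∀ w, ((ρ z - 1) ^ i) w = 0 → g w = 0) : False := by
  classical
  set X := ρ z - 1 with hX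
  obtain ⟨v, hv, hfv1, hve⟩ := exists_eigen_mod hs ρ (Subgroup.le_normalizer) le_rfl hlam hf
    (v₀ := (f v₀)⁻¹ • v₀) (by rw [map_smul, hv₀, smul_zero])
    (by rw [map_smul, smul_eq_mul, inv_mul_cancel₀ hfv])
  rw [← hX] at hv
  -- `g v = 0`
  have hgv : g v = 0 := by
    obtain ⟨n, hn⟩ : ∃ n, lam n ≠ mu n := by
      by_contra hno
      push Not at hno
      exact hne (MonoidHom.ext hno)
    have h := hgk _ (hve n)
    rw [map_sub, map_smul, smul_eq_mul, hg, ← sub_mul] at h
    exact (mul_eq_zero.mp h).resolve_left (sub_ne_zero.mpr hn.symm)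
  have hgX : ∀ w, g (X w) = 0 := fun w => apply_sub_one hs ρ Subgroup.le_normalizer hmu hg w
  have hfX : ∀ w, f (X w) = 0 := fun w => apply_sub_one hs ρ Subgroup.le_normalizer hlam hf w
  -- a functional detecting `X ^ i v`
  obtain ⟨F, hF1, hF0⟩ : ∃ F : V →ₗ[K] K, F ((X ^ i) v) = 1 ∧ ∀ w, F ((X ^ (i + 1)) w) = 0 := by
    have hnot : (X ^ i) v ∉ LinearMap.range (X ^ (i + 1)) := by
      rintro ⟨w, hw⟩
      rw [pow_succ, Module.End.mul_apply, ← sub_eq_zero, ← map_sub] at hw
      have := hfk _ hw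
      rw [map_sub, hfX, hfv1, zero_sub, neg_eq_zero] at this
      exact one_ne_zero this
    obtain ⟨F, hF1, hF0⟩ := Submodule.exists_dual_map_eq_bot_of_notMem hnot inferInstance
    refine ⟨(F ((X ^ i) v))⁻¹ • F, by simp [hF1], fun w => ?_⟩
    have : F ((X ^ (i + 1)) w) = 0 := by
      have h1 : F ((X ^ (i + 1)) w) ∈ (LinearMap.range (X ^ (i + 1))).map F :=
        Submodule.mem_map_of_mem (LinearMap.mem_range_self _ w)
      rwa [hF0, Submodule.mem_bot] at h1
    simp [this]
  set E₀ : Module.End K V :=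
    ∑ l ∈ range (i + 1), (F.comp (X ^ l)).smulRight ((X ^ (i - l)) v) with hE₀
  have hE₀a : ∀ w, E₀ w = ∑ l ∈ range (i + 1), F ((X ^ l) w) • (X ^ (i - l)) v := fun w => by
    simp [hE₀, LinearMap.sum_apply]
  have hE₀X : X * E₀ = E₀ * X := by
    refine LinearMap.ext fun w => ?_
    rw [Module.End.mul_apply, Module.End.mul_apply, hE₀a, hE₀a, map_sum]
    rw [Finset.sum_range_succ' (fun l => X (F ((X ^ l) w) • (X ^ (i - l)) v)),
      Finset.sum_range_succ (fun l => F ((X ^ l) (X w)) • (X ^ (i - l)) v)]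
    simp only [Nat.sub_zero, map_smul, ← Module.End.mul_apply, ← pow_succ, ← pow_succ', hv,
      smul_zero, add_zero, hF0, zero_smul, Nat.sub_self]
    refine Finset.sum_congr rfl fun l hl => ?_
    have : i - (l + 1) + 1 = i - l := by
      have := Finset.mem_range.mp hl
      omega
    rw [this]
  have hE₀z : ρ z * E₀ = E₀ * ρ z := by
    have e : ρ z = X + 1 := (sub_add_cancel _ _).symm
    rw [e, add_mul, mul_add, hE₀X, one_mul, mul_one]
  set P' := P.subgroupOf (Subgroup.normalizer (P : Set G)) with hP'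
  haveI := Fintype.ofFinite (Subgroup.normalizer (P : Set G))
  haveI := Fintype.ofFinite ((Subgroup.normalizer (P : Set G)) ⧸ P')
  have hE₀P : ∀ y ∈ P', ρ.comp (Subgroup.normalizer (P : Set G)).subtype y * E₀ = E₀ * ρ.comp (Subgroup.normalizer (P : Set G)).subtype y := by
    intro y hy
    obtain ⟨a, ha⟩ := hs.exists_pow hy
    show ρ (y : G) * E₀ = E₀ * ρ (y : G)
    rw [show (y : G) = z ^ a from ha.symm, map_pow]
    exact (Commute.pow_left hE₀z a).eq
  set E := conjSum P' (ρ.comp (Subgroup.normalizer (P : Set G)).subtype) E₀ with hE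
  have hEN : ∀ n ∈ (Subgroup.normalizer (P : Set G)), ρ n * E = E * ρ n := fun n hn =>
    conjSum_commute P' (ρ.comp (Subgroup.normalizer (P : Set G)).subtype) E₀ hE₀P ⟨n, hn⟩
  have hEa : ∀ w, E w = ∑ q : (Subgroup.normalizer (P : Set G)) ⧸ P', ρ (q.out : G) (E₀ (ρ ((q.out⁻¹ : (Subgroup.normalizer (P : Set G))) : G) w)) := fun w => by
    rw [hE, conjSum, LinearMap.sum_apply]
    rfl
  have hval : ∀ (χ : V →ₗ[K] K), (∀ w, χ (X w) = 0) → ∀ w,
      χ (E₀ w) = F ((X ^ i) w) * χ v := by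
    intro χ hχ w
    rw [hE₀a, map_sum, Finset.sum_eq_single i]
    · simp
    · intro l hl hli
      obtain ⟨d, hd⟩ : ∃ d, i - l = d + 1 := ⟨i - l - 1, by have := Finset.mem_range.mp hl; omega⟩
      rw [map_smul, hd, pow_succ', Module.End.mul_apply, hχ, smul_zero]
    · simp
  obtain ⟨c, ψ, hcψ⟩ := exists_scalar hs ρ hirr E hEN
  have hker : ∀ (χ : V →ₗ[K] K), (∀ u : P, ∀ w, χ (ρ (u : G) w) = χ w) → ∀ w,
      (X ^ (p - 1)) w = 0 → χ (E w) = c * χ w := by
    intro χ hχ w hw
    rw [hcψ, LinearMap.add_apply, LinearMap.smul_apply, Module.End.one_apply, map_add, map_smul,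
      smul_eq_mul, LinearMap.sum_apply, map_sum, add_eq_left]
    simp only [Module.End.mul_apply, hχ]
    rw [← map_sum, ← map_sum, Fintype.sum_equiv (Equiv.inv P) (fun u : P => ρ (u : G)⁻¹ w)
      (fun u : P => ρ (u : G) w) (fun u => by simp), sum_apply_eq hs, hw, map_zero, map_zero]
  have hPinv : ∀ {nu : (Subgroup.normalizer (P : Set G)) →* K}, (∀ n : (Subgroup.normalizer (P : Set G)), (n : G) ∈ P → nu n = 1) → ∀ {χ : V →ₗ[K] K},
      IsEquiv ρ (Subgroup.normalizer (P : Set G)) nu χ → ∀ u : P, ∀ w, χ (ρ (u : G) w) = χ w := by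
    intro nu hnu χ hχ u w
    have := hχ ⟨u, Subgroup.le_normalizer u.2⟩ w
    rwa [hnu _ u.2, one_mul] at this
  have hc : c = 0 := by
    by_contra hc
    refine hgs ((stZero_iff hs ρ g).mpr fun w hw => ?_)
    have h1 := hker g (hPinv hmu hg) w hw
    have h2 : g (E w) = 0 := by
      rw [hEa, map_sum]
      exact Finset.sum_eq_zero fun q _ => by rw [hg, hval g hgX, hgv, mul_zero, mul_zero]
    rw [h2] at h1
    exact (mul_eq_zero.mp h1.symm).resolve_left hc
  have hvp : (X ^ (p - 1)) v = 0 := by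
    rw [← Nat.sub_add_cancel hi, pow_add, Module.End.mul_apply, hv, map_zero]
  have hfin := hker f (hPinv hlam hf) v hvp
  rw [hc, zero_mul, hEa, map_sum, Finset.sum_eq_card_nsmul (b := (1 : K))] at hfin
  · rw [nsmul_eq_mul, mul_one, Finset.card_univ, CharP.cast_eq_zero_iff K p,
      ← Nat.card_eq_fintype_card] at hfin
    exact hs.not_dvd_index (hfin.trans (Subgroup.relIndex_dvd_index_of_le Subgroup.le_normalizer))
  · intro q _
    rw [hf, hval f hfX, hfv1, mul_one]
    have h1 := hve q.out⁻¹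
    rw [map_sub, sub_eq_zero, map_smul] at h1
    rw [h1, map_smul, smul_eq_mul, hF1, mul_one, ← map_mul, mul_inv_cancel, map_one]

/-- At most one character has an equivariant functional which is no trace. -/
theorem false_of_two [IsAlgClosed K] [FiniteDimensional K V] (hirr : IsIrr ρ)
    {lam mu : Subgroup.normalizer (P : Set G) →* K}
    (hlam : ∀ n : Subgroup.normalizer (P : Set G), (n : G) ∈ P → lam n = 1)
    (hmu : ∀ n : Subgroup.normalizer (P : Set G), (n : G) ∈ P → mu n = 1)
    (hne : lam ≠ mu) {f g : V →ₗ[K] K}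
    (hf : IsEquiv ρ _ lam f) (hg : IsEquiv ρ _ mu g) (hfs : ¬ StZero ρ P f)
    (hgs : ¬ StZero ρ P g) : False := by
  classical
  haveI : Nontrivial V := by
    by_contra hnt
    rw [not_nontrivial_iff_subsingleton] at hnt
    exact hfs ⟨0, fun v => by simp [Subsingleton.elim v 0]⟩
  have hex : ∃ j, ∃ v, ((ρ z - 1 : Module.End K V) ^ j) v = 0 ∧ (f v ≠ 0 ∨ g v ≠ 0) := by
    rw [stZero_iff hs] at hfs
    push Not at hfs
    obtain ⟨v, hv, hv'⟩ := hfs
    exact ⟨p - 1, v, hv, Or.inl hv'⟩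
  have hspec := Nat.find_spec hex
  obtain ⟨v, hv, hv'⟩ := hspec
  have hle : Nat.find hex ≤ p - 1 := by
    refine Nat.find_min' hex ?_
    rw [stZero_iff hs] at hfs
    push Not at hfs
    obtain ⟨w, hw, hw'⟩ := hfs
    exact ⟨w, hw, Or.inl hw'⟩
  obtain ⟨i, hi⟩ : ∃ i, Nat.find hex = i + 1 := by
    refine Nat.exists_eq_succ_of_ne_zero fun h0 => ?_
    rw [h0, pow_zero, Module.End.one_apply] at hv
    subst hv
    simp at hv'
  rw [hi] at hv hle
  have hk : ∀ w, ((ρ z - 1) ^ i) w = 0 → f w = 0 ∧ g w = 0 := by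
    intro w hw
    have := Nat.find_min hex (m := i) (by omega)
    push Not at this
    exact this w hw
  rcases hv' with h | h
  · exact false_of_two_aux hs ρ hirr hlam hmu hne hf hg hgs hle hv h (fun w hw => (hk w hw).1)
      (fun w hw => (hk w hw).2)
  · exact false_of_two_aux hs ρ hirr hmu hlam hne.symm hg hf hfs hle hv h (fun w hw => (hk w hw).2)
      (fun w hw => (hk w hw).1)

end Cfsg.Agent.BlocksCore.StableHom
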