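import Cfsg.Agent.Lib.BlocksCore.StableSimple

/-!
# Irreducible representations fixed by a central element in characteristic prime to the order
-/

set_option linter.unusedSectionVars false

namespace Cfsg.Agent.BlocksCore.CyclicReps

open Finset StableHom

variable {K : Type*} [Field K] [IsAlgClosed K]

/-- Irreducible representations without intertwiners have independent traces. -/
theorem traces_independent {G : Type*} [Group G] [Finite G] {ι : Type*} [Fintype ι] {n : ι → ℕ}
    (ρ : ∀ i, Representation K G (Fin (n i) → K)) (hirr : ∀ i, IsIrr (ρ i))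
    (hnt : ∀ i, Nontrivial (Fin (n i) → K))
    (hint : ∀ i j, i ≠ j → ∀ φ : (Fin (n i) → K) →ₗ[K] (Fin (n j) → K),
      (∀ g v, φ (ρ i g v) = ρ j g (φ v)) → φ = 0)
    (a : ι → K) (ha : ∀ g : G, ∑ i, a i * LinearMap.trace K _ (ρ i g) = 0) : a = 0 := by
  classical
  funext j
  haveI := hnt j
  haveI hsimple : ∀ i, IsSimpleModule (MonoidAlgebra K G) (ρ i).asModule := by
    intro i
    rw [← Representation.irreducible_iff_isSimpleModule_asModule]
    haveI := hnt i
    haveI : Nontrivial (Subrepresentation (ρ i)) := ⟨⟨⊥, ⊤, fun h => by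
      have := congrArg Subrepresentation.toSubmodule h
      exact bot_ne_top this⟩⟩
    refine ⟨fun A => ?_⟩
    rcases hirr i A.toSubmodule A.apply_mem_toSubmodule with h | h
    · exact Or.inl (Subrepresentation.toSubmodule_injective h)
    · exact Or.inr (Subrepresentation.toSubmodule_injective h)
  have hsm : ∀ (i : ι) (g : G) (v : Fin (n i) → K),
      (MonoidAlgebra.of K G g • (show (ρ i).asModule from v) : (ρ i).asModule) = ρ i g v := by
    intro i g v
    exact ((ρ i).asModuleEquiv_map_smul _ _).trans (by rw [Representation.asAlgebraHom_of]; rfl)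
  -- endomorphisms of the sum are diagonal scalars
  have hdiag : ∀ φ : Module.End (MonoidAlgebra K G) (∀ i, (ρ i).asModule),
      ∀ i, ∃ c : K, ∀ m, (ρ i).asModuleEquiv (φ m i) = c • (ρ i).asModuleEquiv (m i) := by
    intro φ i
    let comp : ∀ k, (Fin (n k) → K) →ₗ[K] (Fin (n i) → K) := fun k =>
      { toFun := fun v => φ (Pi.single k (show (ρ k).asModule from v)) i
        map_add' := fun v w => by
          exact (congrArg (fun m => φ m i) (Pi.single_add k _ _)).trans
            (by rw [map_add]; rfl)
        map_smul' := fun c v => by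
          have h : (Pi.single k (show (ρ k).asModule from (c • v : Fin (n k) → K)) :
              ∀ i, (ρ i).asModule) =
              (MonoidAlgebra.single 1 c : MonoidAlgebra K G) •
                Pi.single k (show (ρ k).asModule from v) := by
            rw [← Pi.single_smul]
            congr 1
            exact ((Representation.single_smul (ρ k) c 1 _).trans (by rw [map_one]; rfl)).symm
          rw [h, map_smul, Pi.smul_apply, Representation.single_smul, map_one]
          rfl }
    have hcomp : ∀ k g v, comp k (ρ k g v) = ρ i g (comp k v) := by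
      intro k g v
      show φ (Pi.single k (show (ρ k).asModule from ρ k g v)) i = _
      rw [← hsm k g v, Pi.single_smul, map_smul, Pi.smul_apply]
      exact hsm i g _
    haveI := hnt i
    obtain ⟨c, hc⟩ := Module.End.exists_eigenvalue (comp i)
    have hA := hirr i (Module.End.eigenspace (comp i) c) fun g v hv => by
      rw [Module.End.mem_eigenspace_iff] at hv ⊢
      rw [hcomp, hv, map_smul]
    have hci : ∀ v, comp i v = c • v := fun v =>
      Module.End.mem_eigenspace_iff.mp (hA.resolve_left hc ▸ Submodule.mem_top)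
    refine ⟨c, fun m => ?_⟩
    conv_lhs => rw [← Finset.univ_sum_single m]
    rw [map_sum, Finset.sum_apply, Finset.sum_eq_single i]
    · exact hci _
    · intro k _ hk
      exact LinearMap.congr_fun
        (hint k i hk (comp k) (hcomp k)) (m k)
    · simp
  obtain ⟨x₀⟩ : Nonempty (Fin (n j)) := by
    by_contra h
    rw [not_nonempty_iff] at h
    exact not_subsingleton (Fin (n j) → K) inferInstance
  -- an element acting as a rank one projection on the `j`-th summand and as zero elsewhere
  let Tj : Module.End K (Fin (n j) → K) :=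
    (LinearMap.proj x₀).smulRight (Pi.single x₀ (1 : K))
  let U : ∀ i, Module.End K (Fin (n i) → K) := Function.update 0 j Tj
  let F : Module.End (Module.End (MonoidAlgebra K G) (∀ i, (ρ i).asModule))
      (∀ i, (ρ i).asModule) :=
    { toFun := fun m i => (ρ i).asModuleEquiv.symm (U i ((ρ i).asModuleEquiv (m i)))
      map_add' := fun a b => funext fun i => by simp only [Pi.add_apply, map_add]
      map_smul' := fun φ m => funext fun i => by
        obtain ⟨c, hc⟩ := hdiag φ i
        refine (ρ i).asModuleEquiv.injective ?_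
        simp only [RingHom.id_apply, Module.End.smul_def, LinearEquiv.apply_symm_apply, hc,
          map_smul] }
  obtain ⟨r, hr⟩ := jacobson_density F (Finset.univ.image fun ix : Σ i, Fin (n i) =>
    (Pi.single ix.1 (show (ρ ix.1).asModule from (Pi.single ix.2 1 : Fin (n ix.1) → K)) :
      ∀ i, (ρ i).asModule))
  have hact : ∀ i, (ρ i).asAlgebraHom r = U i := by
    intro i
    refine LinearMap.pi_ext' fun x => LinearMap.ext_ring ?_
    have h := congrFun (hr _ (Finset.mem_image.mpr ⟨⟨i, x⟩, Finset.mem_univ _, rfl⟩)) i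
    simp only [Pi.smul_apply, Pi.single_eq_same] at h
    have h2 := congrArg (ρ i).asModuleEquiv h
    rw [Representation.asModuleEquiv_map_smul] at h2
    have e : (Pi.single i (show (ρ i).asModule from (Pi.single x 1 : Fin (n i) → K)) :
        ∀ i, (ρ i).asModule) i = (show (ρ i).asModule from (Pi.single x 1 : Fin (n i) → K)) :=
      Pi.single_eq_same _ _
    refine Eq.trans ?_ (h2.symm.trans ?_)
    · rw [e]; rfl
    · show (ρ i).asModuleEquiv ((ρ i).asModuleEquiv.symm _) = _
      rw [LinearEquiv.apply_symm_apply, e]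
      rfl
  have hlin : ∀ r : MonoidAlgebra K G,
      ∑ i, a i * LinearMap.trace K _ ((ρ i).asAlgebraHom r) = 0 := by
    intro r
    induction r using MonoidAlgebra.induction_on with
    | of g => simpa [Representation.asAlgebraHom_of] using ha g
    | add u v hu hv => simp [mul_add, Finset.sum_add_distrib, hu, hv]
    | smul c u hu =>
      simp only [map_smul, smul_eq_mul, mul_left_comm, ← Finset.mul_sum, hu, mul_zero]
  have htr : LinearMap.trace K _ Tj = 1 := by
    simp [Tj]
  have h := hlin r
  simp only [hact] at h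
  rw [Finset.sum_eq_single j (fun i _ hi => by simp [U, Function.update_of_ne hi]) (by simp)] at h
  simpa [U, htr] using h


variable {H : Type*} [Group H] [Fintype H]

/-- A class function acts by a scalar in an irreducible representation. -/
theorem exists_scalar_of_class {V : Type*} [AddCommGroup V] [Module K V] [FiniteDimensional K V]
    [Nontrivial V] (σ : Representation K H V) (hirr : IsIrr σ) {τ : H → K}
    (hτ : ∀ g h, τ (g * h * g⁻¹) = τ h) :
    ∃ l : K, ∑ h, τ h • σ h = l • (1 : Module.End K V) := by
  set Z := ∑ h, τ h • σ h with hZ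
  have hc : ∀ g, σ g * Z = Z * σ g := fun g => by
    rw [hZ, Finset.mul_sum, Finset.sum_mul]
    refine Fintype.sum_equiv (MulAut.conj g).toEquiv _ _ fun h => ?_
    show σ g * (τ h • σ h) = τ (g * h * g⁻¹) • σ (g * h * g⁻¹) * σ g
    rw [hτ, mul_smul_comm, smul_mul_assoc, ← map_mul, ← map_mul, inv_mul_cancel_right]
  obtain ⟨l, hl⟩ := Module.End.exists_eigenvalue Z
  have hA := hirr (Module.End.eigenspace Z l) fun g v hv => by
    rw [Module.End.mem_eigenspace_iff] at hv ⊢
    rw [← Module.End.mul_apply, ← hc g, Module.End.mul_apply, hv, map_smul]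
  refine ⟨l, LinearMap.ext fun v => ?_⟩
  rw [LinearMap.smul_apply, Module.End.one_apply]
  exact Module.End.mem_eigenspace_iff.mp (hA.resolve_left hl ▸ Submodule.mem_top)

/-- A representation on coordinates. -/
theorem exists_fin_ne_zero {V : Type*} [AddCommGroup V] [Module K V] [FiniteDimensional K V]
    (σ : Representation K H V) (τ : H → K) (h : ∑ h, τ h • σ h ≠ 0) :
    ∃ σ' : Representation K H (Fin (Module.finrank K V) → K), ∑ h, τ h • σ' h ≠ 0 := by
  set e := (Module.finBasis K V).equivFun
  refine ⟨(e.conjAlgEquiv K).toMonoidHom.comp σ, fun h0 => h ?_⟩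
  refine (e.conjAlgEquiv K).injective ?_
  rw [map_zero, map_sum, ← h0]
  exact Finset.sum_congr rfl fun g _ => map_smul _ _ _

/-- A nonzero class function is nonzero in some irreducible representation. -/
theorem exists_irr_of_ne_zero (hH : (Fintype.card H : K) ≠ 0) {τ : H → K}
    (hτ : ∀ g h, τ (g * h * g⁻¹) = τ h) (hne : τ ≠ 0) :
    ∃ (n : ℕ) (σ : Representation K H (Fin n → K)),
      IsIrr σ ∧ ∑ h, τ h • σ h ≠ 0 := by
  classical
  have hex : ∃ n : ℕ, ∃ σ : Representation K H (Fin n → K), ∑ h, τ h • σ h ≠ 0 := by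
    let ρ : Representation K H (H → K) :=
      { toFun := fun x => LinearMap.funLeft K K (x⁻¹ * ·)
        map_one' := by
          refine LinearMap.ext fun φ => funext fun g => ?_
          show φ (1⁻¹ * g) = φ g
          rw [inv_one, one_mul]
        map_mul' := fun a b => by
          refine LinearMap.ext fun φ => funext fun g => ?_
          show φ ((a * b)⁻¹ * g) = φ (b⁻¹ * (a⁻¹ * g))
          rw [mul_inv_rev, mul_assoc] }
    obtain ⟨σ', hσ'⟩ := exists_fin_ne_zero ρ τ fun h0 => hne (funext fun g => by
      have h1 := congrFun (LinearMap.congr_fun h0 (Pi.single 1 1)) g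
      rw [LinearMap.sum_apply, Finset.sum_apply, Finset.sum_eq_single g] at h1
      · simpa [ρ, LinearMap.funLeft] using h1
      · intro b _ hb
        have : b⁻¹ * g ≠ 1 := fun h => hb (inv_mul_eq_one.mp h)
        simp [ρ, LinearMap.funLeft, this]
      · simp)
    exact ⟨_, σ', hσ'⟩
  obtain ⟨n, ⟨σ, hσ⟩, hmin⟩ : ∃ n, (∃ σ : Representation K H (Fin n → K),
      ∑ h, τ h • σ h ≠ 0) ∧ ∀ m < n, ¬ ∃ σ : Representation K H (Fin m → K),
      ∑ h, τ h • σ h ≠ 0 := ⟨_, Nat.find_spec hex, fun m hm => Nat.find_min hex hm⟩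
  refine ⟨_, σ, fun A hA => ?_, hσ⟩
  by_contra hAne
  push Not at hAne
  have hlt : Module.finrank K A < n := by
    have := Submodule.finrank_lt (lt_top_iff_ne_top.mpr hAne.2).ne
    rwa [Module.finrank_fintype_fun_eq_card, Fintype.card_fin] at this
  have hlt2 : Module.finrank K ((Fin n → K) ⧸ A) < n := by
    have h1 := A.finrank_quotient_add_finrank
    rw [Module.finrank_fintype_fun_eq_card, Fintype.card_fin] at h1
    have := Submodule.one_le_finrank_iff.mpr hAne.1
    omega
  set Z := ∑ h, τ h • σ h with hZ
  have hA0 : ∀ a ∈ A, Z a = 0 := by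
    let σA : Representation K H A :=
      { toFun := fun g => LinearMap.restrict (σ g) (hA g)
        map_one' := LinearMap.ext fun a => Subtype.ext (by
          show σ 1 a.1 = a.1
          rw [map_one]; rfl)
        map_mul' := fun a b => LinearMap.ext fun v => Subtype.ext (by
          show σ (a * b) v.1 = σ a (σ b v.1)
          rw [map_mul]; rfl) }
    have h0 : ∑ h, τ h • σA h = 0 := by
      by_contra h
      exact hmin _ hlt (exists_fin_ne_zero σA τ h)
    intro a ha
    have h1 := congrArg Subtype.val (LinearMap.congr_fun h0 ⟨a, ha⟩)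
    simpa [hZ, σA, LinearMap.sum_apply] using h1
  have hZA : ∀ v, Z v ∈ A := by
    let σq : Representation K H ((Fin n → K) ⧸ A) :=
      { toFun := fun g => A.mapQ A (σ g) (hA g)
        map_one' := Submodule.linearMap_qext _ (LinearMap.ext fun v => by
          show Submodule.Quotient.mk (σ 1 v) = Submodule.Quotient.mk v
          rw [map_one]; rfl)
        map_mul' := fun a b => Submodule.linearMap_qext _ (LinearMap.ext fun v => by
          show Submodule.Quotient.mk (σ (a * b) v) = Submodule.Quotient.mk (σ a (σ b v))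
          rw [map_mul]; rfl) }
    have h0 : ∑ h, τ h • σq h = 0 := by
      by_contra h
      exact hmin _ hlt2 (exists_fin_ne_zero σq τ h)
    intro v
    rw [← Submodule.Quotient.mk_eq_zero]
    have h1 := LinearMap.congr_fun h0 (A.mkQ v)
    rw [LinearMap.zero_apply, LinearMap.sum_apply] at h1
    rw [← h1, ← Submodule.mkQ_apply, hZ, LinearMap.sum_apply, map_sum]
    refine Finset.sum_congr rfl fun g _ => ?_
    show A.mkQ (τ g • σ g v) = τ g • A.mkQ (σ g v)
    rw [map_smul]
  obtain ⟨π₀, hπ₀⟩ := LinearMap.exists_extend (LinearMap.id : A →ₗ[K] A)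
  set π' : Module.End K (Fin n → K) := A.subtype.comp π₀ with hπ'
  have hπ'A : ∀ a ∈ A, π' a = a := fun a ha =>
    congrArg Subtype.val (LinearMap.congr_fun hπ₀ ⟨a, ha⟩)
  set π : Module.End K (Fin n → K) :=
    (Fintype.card H : K)⁻¹ • ∑ h : H, σ h * π' * σ h⁻¹ with hπ
  have hπA : ∀ a ∈ A, π a = a := by
    intro a ha
    rw [hπ, LinearMap.smul_apply, LinearMap.sum_apply, Finset.sum_eq_card_nsmul (b := a),
      Finset.card_univ, ← Nat.cast_smul_eq_nsmul K, smul_smul, inv_mul_cancel₀ hH, one_smul]
    intro h _
    rw [Module.End.mul_apply, Module.End.mul_apply, hπ'A _ (hA _ a ha), ← Module.End.mul_apply,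
      ← map_mul, mul_inv_cancel, map_one, Module.End.one_apply]
  have hπv : ∀ v, π v ∈ A := by
    intro v
    rw [hπ, LinearMap.smul_apply, LinearMap.sum_apply]
    exact A.smul_mem _ (A.sum_mem fun h _ => hA h _ (π₀ (σ h⁻¹ v)).2)
  have hπc : ∀ g, σ g * π = π * σ g := by
    intro g
    rw [hπ, mul_smul_comm, smul_mul_assoc, Finset.mul_sum, Finset.sum_mul]
    congr 1
    refine Fintype.sum_equiv (Equiv.mulLeft g) _ _ fun h => ?_
    rw [Equiv.coe_mulLeft, mul_inv_rev, map_mul, map_mul]
    have e : σ g⁻¹ * σ g = 1 := by rw [← map_mul, inv_mul_cancel, map_one]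
    simp only [mul_assoc]
    rw [e, mul_one]
  clear_value π
  have hπZ : π * Z = Z * π := by
    rw [hZ, Finset.mul_sum, Finset.sum_mul]
    exact Finset.sum_congr rfl fun g _ => by rw [mul_smul_comm, smul_mul_assoc, hπc]
  refine hσ (LinearMap.ext fun v => ?_)
  rw [LinearMap.zero_apply, ← hπA (Z v) (hZA v), ← Module.End.mul_apply, hπZ,
    Module.End.mul_apply]
  exact hA0 _ (hπv v)

/-- As many irreducible representations fixed by a central element as independent class
functions fixed by it. -/
theorem exists_fixed_reps (hH : (Fintype.card H : K) ≠ 0) (w : H → K) {e : ℕ}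
    (τ : Fin e → H → K) (hτ : ∀ i g h, τ i (g * h * g⁻¹) = τ i h)
    (hfix : ∀ i h, ∑ x, w x * τ i (x⁻¹ * h) = τ i h) (hli : LinearIndependent K τ) :
    ∃ (n : Fin e → ℕ) (σ : ∀ i, Representation K H (Fin (n i) → K)),
      (∀ i, IsIrr (σ i)) ∧ (∀ i, Nontrivial (Fin (n i) → K)) ∧
      (∀ i, ∑ x, w x • σ i x = 1) ∧
      ∀ i j, i ≠ j → ∀ φ : (Fin (n i) → K) →ₗ[K] (Fin (n j) → K),
        (∀ g v, φ (σ i g v) = σ j g (φ v)) → φ = 0 := by
  classical
  suffices h : ∀ m ≤ e, ∃ S : Fin m → Σ n : ℕ, Representation K H (Fin n → K),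
      (∀ i, IsIrr (S i).2) ∧ (∀ i, Nontrivial (Fin (S i).1 → K)) ∧
      (∀ i, ∑ x, w x • (S i).2 x = 1) ∧
      ∀ i j, i ≠ j → ∀ φ : (Fin (S i).1 → K) →ₗ[K] (Fin (S j).1 → K),
        (∀ g v, φ ((S i).2 g v) = (S j).2 g (φ v)) → φ = 0 by
    obtain ⟨S, h1, h2, h3, h4⟩ := h e le_rfl
    exact ⟨fun i => (S i).1, fun i => (S i).2, h1, h2, h3, h4⟩
  intro m
  induction m with
  | zero => exact fun _ => ⟨Fin.elim0, fun i => i.elim0, fun i => i.elim0, fun i => i.elim0,
      fun i => i.elim0⟩
  | succ m ih =>
    intro hm
    obtain ⟨S, h1, h2, h3, h4⟩ := ih (by omega)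
    choose l hl using fun i j => haveI := h2 i; exists_scalar_of_class (S i).2 (h1 i) (hτ j)
    let Φ : (Fin e → K) →ₗ[K] (Fin m → K) :=
      ∑ j, (LinearMap.proj j).smulRight (fun i => l i j)
    obtain ⟨a, haΦ, ha⟩ : ∃ a ∈ LinearMap.ker Φ, a ≠ 0 :=
      Submodule.exists_mem_ne_zero_of_ne_bot
        (LinearMap.ker_ne_bot_of_finrank_lt (by simpa using Nat.lt_of_succ_le hm))
    set τa : H → K := ∑ j, a j • τ j with hτa
    have hτac : ∀ g h, τa (g * h * g⁻¹) = τa h := fun g h => by simp [hτa, hτ]
    have hτne : τa ≠ 0 := fun h0 => ha (funext (Fintype.linearIndependent_iff.mp hli a h0))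
    have hτfix : ∀ h, ∑ x, w x * τa (x⁻¹ * h) = τa h := fun h => by
      simp only [hτa, Finset.sum_apply, Pi.smul_apply, smul_eq_mul, Finset.mul_sum]
      rw [Finset.sum_comm]
      refine Finset.sum_congr rfl fun j _ => ?_
      rw [← hfix j h, Finset.mul_sum]
      exact Finset.sum_congr rfl fun x _ => mul_left_comm _ _ _
    have hold : ∀ i, ∑ h, τa h • (S i).2 h = 0 := by
      intro i
      have h0 : ∑ j, a j * l i j = 0 := by
        have := congrFun (LinearMap.mem_ker.mp haΦ) i
        simpa [Φ] using this
      simp only [hτa, Finset.sum_apply, Pi.smul_apply, smul_eq_mul, Finset.sum_smul, ← smul_smul]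
      rw [Finset.sum_comm]
      simp only [← Finset.smul_sum, hl]
      simp only [smul_smul, ← Finset.sum_smul, h0, zero_smul]
    obtain ⟨n, σ, hσ, hσne⟩ := exists_irr_of_ne_zero hH hτac hτne
    haveI hnt : Nontrivial (Fin n → K) := by
      by_contra hnt
      rw [not_nontrivial_iff_subsingleton] at hnt
      exact hσne (LinearMap.ext fun v => Subsingleton.elim _ _)
    obtain ⟨c, hc⟩ := exists_scalar_of_class σ hσ hτac
    have hc0 : c ≠ 0 := fun h => hσne (by rw [hc, h, zero_smul])
    have hD : ∑ x, w x • σ x = 1 := by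
      have e1 : (∑ x, w x • σ x) * ∑ h, τa h • σ h = ∑ h, τa h • σ h := by
        rw [Finset.sum_mul, Finset.sum_congr rfl fun x _ => by rw [Finset.mul_sum],
          Finset.sum_congr rfl fun x _ => Fintype.sum_equiv (Equiv.mulLeft x)
            (fun h => (w x • σ x) * (τa h • σ h))
            (fun h => (w x * τa (x⁻¹ * h)) • σ h) fun h => by
              simp [smul_smul, mul_comm],
          Finset.sum_comm]
        exact Finset.sum_congr rfl fun h _ => by rw [← Finset.sum_smul, hτfix]
      rw [hc, mul_smul_comm, mul_one] at e1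
      exact smul_right_injective _ hc0 e1
    refine ⟨Fin.snoc S ⟨n, σ⟩, fun i => ?_, fun i => ?_, fun i => ?_, fun i j hij => ?_⟩
    · cases i using Fin.lastCases with
      | last => rw [Fin.snoc_last]; exact hσ
      | cast i => rw [Fin.snoc_castSucc]; exact h1 i
    · cases i using Fin.lastCases with
      | last => rw [Fin.snoc_last]; exact hnt
      | cast i => rw [Fin.snoc_castSucc]; exact h2 i
    · cases i using Fin.lastCases with
      | last => rw [Fin.snoc_last]; exact hD
      | cast i => rw [Fin.snoc_castSucc]; exact h3 i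
    · have hcross : ∀ i : Fin m,
          (∀ φ : (Fin (S i).1 → K) →ₗ[K] (Fin n → K),
            (∀ g v, φ ((S i).2 g v) = σ g (φ v)) → φ = 0) ∧
          ∀ φ : (Fin n → K) →ₗ[K] (Fin (S i).1 → K),
            (∀ g v, φ (σ g v) = (S i).2 g (φ v)) → φ = 0 := by
        intro i
        refine ⟨fun φ hφ => LinearMap.ext fun v => ?_, fun φ hφ => LinearMap.ext fun v => ?_⟩
        · have e1 : φ ((∑ h, τa h • (S i).2 h) v) = (∑ h, τa h • σ h) (φ v) := by
            simp only [LinearMap.sum_apply, map_sum, LinearMap.smul_apply, map_smul, hφ]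
          rw [hold, hc, LinearMap.zero_apply, map_zero, LinearMap.smul_apply,
            Module.End.one_apply] at e1
          exact (smul_eq_zero.mp e1.symm).resolve_left hc0
        · have e1 : φ ((∑ h, τa h • σ h) v) = (∑ h, τa h • (S i).2 h) (φ v) := by
            simp only [LinearMap.sum_apply, map_sum, LinearMap.smul_apply, map_smul, hφ]
          rw [hold, hc, LinearMap.zero_apply, LinearMap.smul_apply, Module.End.one_apply,
            map_smul] at e1
          exact (smul_eq_zero.mp e1).resolve_left hc0
      revert hij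
      cases i using Fin.lastCases with
      | last =>
        cases j using Fin.lastCases with
        | last => exact fun h => absurd rfl h
        | cast j => rw [Fin.snoc_last, Fin.snoc_castSucc]; exact fun _ => (hcross j).2
      | cast i =>
        cases j using Fin.lastCases with
        | last => rw [Fin.snoc_last, Fin.snoc_castSucc]; exact fun _ => (hcross i).1
        | cast j =>
          rw [Fin.snoc_castSucc, Fin.snoc_castSucc]
          exact fun hij => h4 i j fun h => hij (by rw [h])

end Cfsg.Agent.BlocksCore.CyclicReps
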