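import Cfsg.Agent.Lib.BlocksCore.FirstMain
import Cfsg.Agent.Lib.BlocksDefect.Rank
import Cfsg.Agent.Lib.BlocksDefect.Normal
import Mathlib.GroupTheory.Transfer
import Mathlib.GroupTheory.Perm.Cycle.Type

/-!
# Counting blocks of full defect
-/

set_option linter.unusedSectionVars false

namespace Cfsg.Agent.BlocksCore

open BlocksDefect

variable {G : Type*} [Group G] [Fintype G] {p : ℕ} [Fact p.Prime] {M : Ideal AlgInt}
  {P : Subgroup G}

/-- A function supported on a normal subgroup of order prime to `p` with all central character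
values in the local ideal has its values in the local ideal. -/
theorem memLocalIdeal_of_supported_pPrime (hM : IsPModular p M) {K : Subgroup G} [K.Normal]
    (hK : ¬ p ∣ Nat.card K) {a : G → ℂ} (ha : IsIntClassFun M a) (hs : ∀ x, x ∉ K → a x = 0)
    (hω : ∀ χ : IrrCharacter G, MemLocalIdeal M (omega (χ : G → ℂ) a)) (x : G) :
    MemLocalIdeal M (a x) := by
  classical
  have := isPrime hM
  by_cases hx : x ∈ K
  swap
  · rw [hs x hx]; exact memLocalIdeal_zero
  haveI := Fintype.ofFinite K
  haveI := finite_irr (G := K)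
  haveI := Fintype.ofFinite (IrrCharacter K)
  have heq : res K a = ∑ θ : IrrCharacter K, omega (θ : K → ℂ) (res K a) •
      blockCoeff ({θ} : Set (IrrCharacter K)) := by
    refine eq_of_omega_eq (isClassFunction_res K ha.1) (fun g h => ?_) fun η => ?_
    · rw [Finset.sum_apply, Finset.sum_apply]
      exact Finset.sum_congr rfl fun θ _ => by simp [isClassFunction_blockCoeff _ g h]
    · rw [omega_sum, Finset.sum_eq_single η]
      · rw [omega_smul, omega_blockCoeff, Set.indicator_of_mem (Set.mem_singleton η), Pi.one_apply,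
          mul_one]
      · intro θ _ hne
        rw [omega_smul, omega_blockCoeff, Set.indicator_of_notMem (by simpa using hne.symm), mul_zero]
      · exact fun h => absurd (Finset.mem_univ _) h
  have h1 := congrFun heq ⟨x, hx⟩
  rw [Finset.sum_apply] at h1
  change a x = _ at h1
  rw [h1]
  refine memLocalIdeal_sum fun θ _ => ?_
  rw [Pi.smul_apply, smul_eq_mul]
  refine memLocalIdeal_mul_right ?_ ?_
  · obtain ⟨χ, hχ⟩ := BlocksDefect.exists_over (G := G) θ
    rw [← omega_eq_of_constituent hχ ha.1 hs]
    exact hω χ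
  · rw [blockCoeff, finsum_mem_singleton, conj_irr]
    exact (localRing M).mul_mem (memLocalRing_natCast_inv hM hK)
      ((localRing M).mul_mem (memLocalRing_of_isIntegral (isIntegral_irr θ _))
        (memLocalRing_of_isIntegral (isIntegral_irr θ _)))

/-- The centralizer of a normal Sylow `p`-subgroup has a normal subgroup of order prime to `p`
containing all its `p`-regular elements. -/
theorem exists_pPrime_normal (hP : IsPGroup p P) [P.Normal] (hidx : ¬ p ∣ P.index) :
    ∃ K : Subgroup G, K.Normal ∧ ¬ p ∣ Nat.card K ∧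
      ∀ x ∈ Subgroup.centralizer (P : Set G), ¬ p ∣ orderOf x → x ∈ K := by
  classical
  have hp : p.Prime := Fact.out
  set C := Subgroup.centralizer (P : Set G) with hC
  set m := (Subgroup.center C).index with hm
  have hmp : ¬ p ∣ m := by
    intro hd
    have hle : P.subgroupOf C ≤ Subgroup.center C := fun u hu => Subgroup.mem_center_iff.mpr
      fun g => Subtype.ext (Subgroup.mem_centralizer_iff.mp g.2 u hu).symm
    have h1 : (P.subgroupOf C).index ∣ P.index := Subgroup.relIndex_dvd_index_of_normal P C
    exact hidx ((hd.trans (Subgroup.index_dvd_of_le hle)).trans h1)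
  obtain ⟨a, r, hr, hcard⟩ :=
    Nat.exists_eq_pow_mul_and_not_dvd (Nat.card_pos (α := Subgroup.center C)).ne' p hp.ne_one
  let φ : C →* Subgroup.center C :=
    { toFun := fun x => MonoidHom.transferCenterPow C x ^ r
      map_one' := by rw [map_one, one_pow]
      map_mul' := fun x y => by
        rw [map_mul]
        refine Commute.mul_pow ?_ r
        exact Subtype.ext (Subgroup.mem_center_iff.mp (MonoidHom.transferCenterPow C y).2 _) }
  let K : Subgroup G := φ.ker.map C.subtype
  have hmemK : ∀ x : G, x ∈ K ↔ x ∈ C ∧ x ^ (m * r) = 1 := by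
    intro x
    constructor
    · rintro ⟨c, hc, rfl⟩
      refine ⟨c.2, ?_⟩
      have h1 := congrArg (fun z : Subgroup.center C => ((z : C) : G)) (MonoidHom.mem_ker.mp hc)
      simpa [φ, MonoidHom.transferCenterPow_apply, ← pow_mul] using h1
    · rintro ⟨hx, hpow⟩
      refine ⟨⟨x, hx⟩, MonoidHom.mem_ker.mpr (Subtype.ext (Subtype.ext ?_)), rfl⟩
      simpa [φ, MonoidHom.transferCenterPow_apply, ← pow_mul] using hpow
  refine ⟨K, ⟨fun x hx g => ?_⟩, fun hd => ?_, fun x hx hreg => ?_⟩
  · rw [hmemK] at hx ⊢
    refine ⟨(conj_mem_centralizer_iff (by simp [Subgroup.normalizer_eq_top P])).mpr hx.1, ?_⟩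
    rw [conj_pow, hx.2, mul_one, mul_inv_cancel]
  · obtain ⟨z, hz⟩ := exists_prime_orderOf_dvd_card' (G := K) p hd
    have h1 : (z : G) ^ (m * r) = 1 := ((hmemK z).mp z.2).2
    have h2 : p ∣ m * r := by
      rw [← hz, ← Subgroup.orderOf_coe]
      exact orderOf_dvd_of_pow_eq_one h1
    exact (hp.dvd_mul.mp h2).elim hmp hr
  · rw [hmemK]
    refine ⟨hx, ?_⟩
    set z : Subgroup.center C := MonoidHom.transferCenterPow C ⟨x, hx⟩ with hz
    have hzx : ((z : C) : G) = x ^ m := by simp [hz, MonoidHom.transferCenterPow_apply, hm]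
    have h1 : orderOf (z ^ r) ∣ p ^ a := by
      refine orderOf_dvd_of_pow_eq_one ?_
      rw [← pow_mul, mul_comm r, ← hcard, pow_card_eq_one']
    have h2 : orderOf (z ^ r) ∣ orderOf x := by
      refine orderOf_dvd_of_pow_eq_one (Subtype.ext (Subtype.ext ?_))
      push_cast
      rw [hzx, ← pow_mul, ← pow_mul, ← mul_assoc, mul_comm (m * r), pow_mul, pow_orderOf_eq_one, one_pow]
    have h3 : orderOf (z ^ r) = 1 := Nat.eq_one_of_dvd_coprimes
      (Nat.Coprime.pow_left a ((hp.coprime_iff_not_dvd).mpr hreg)) h1 h2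
    have h4 := congrArg (fun w : Subgroup.center C => ((w : C) : G)) (orderOf_eq_one_iff.mp h3)
    rw [pow_mul, ← hzx]
    simpa using h4

/-- All blocks of a group with a normal Sylow `p`-subgroup have it as defect group. -/
theorem isDefectGroup_normal_sylow (hM : IsPModular p M) (hP : IsPGroup p P) [P.Normal]
    (hidx : ¬ p ∣ P.index) {B : Set (IrrCharacter G)} (hB : IsPBlock M B) :
    IsDefectGroup p M B P := by
  obtain ⟨D, hD⟩ := exists_isDefectGroup hM hB
  have hle := le_defectGroup P hM hP hB hD
  obtain ⟨S, hS⟩ := hD.choose_spec.2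
  let S' : Sylow p G := hP.toSylow hidx
  rwa [show P = D from S'.3 (isPGroup_of_isDefectGroup hD) hle ▸ rfl]

theorem factorization_card_eq (hP : IsPGroup p P) (hidx : ¬ p ∣ P.index) :
    Nat.card P = p ^ (Nat.card G).factorization p :=
  (hP.toSylow hidx).card_eq_multiplicity

/-- In a group with a normal Sylow `p`-subgroup `P` the blocks correspond in number to the
`p`-regular classes centralizing `P`. -/
theorem natCard_blocks_normal_sylow (hM : IsPModular p M) (hP : IsPGroup p P) [P.Normal]
    (hidx : ¬ p ∣ P.index) :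
    Nat.card {B : Set (IrrCharacter G) // IsPBlock M B} =
      Nat.card {C : ConjClasses G // ∀ n : G, ConjClasses.mk n = C →
        ¬ p ∣ orderOf n ∧ n ∈ Subgroup.centralizer (P : Set G)} := by
  classical
  have := isPrime hM
  have hp : p.Prime := Fact.out
  set d := (Nat.card G).factorization p with hd
  have hPd : Nat.card P = p ^ d := factorization_card_eq hP hidx
  have hnorm : ∀ g : G, g ∈ Subgroup.normalizer (P : Set G) := fun g => by
    simp [Subgroup.normalizer_eq_top P]
  refine le_antisymm ?_ ?_
  · have h := BlocksDefect.natCard_blocks_le (G := G) hM d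
    refine le_trans (le_of_eq ?_) (h.trans (le_of_eq ?_))
    · refine Nat.card_congr (Equiv.subtypeEquivRight fun B => ⟨fun hB => ⟨hB, ?_⟩, And.left⟩)
      have h1 := defectGroup_natCard hM hB (isDefectGroup_normal_sylow hM hP hidx hB)
      rw [hPd] at h1
      exact (Nat.pow_right_injective hp.two_le h1).le
    · refine Nat.card_congr (Equiv.subtypeEquivRight fun C => ⟨?_, fun hC => ?_⟩)
      · rintro ⟨g, rfl, hreg, hle⟩ n hn
        obtain ⟨c, hc⟩ := isConj_iff.mp (ConjClasses.mk_eq_mk_iff_isConj.mp hn.symm)
        have hgC : g ∈ Subgroup.centralizer (P : Set G) := by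
          obtain ⟨R, hR⟩ := exists_isSylowCent p g
          have hPR : Nat.card P ≤ Nat.card R := by
            rw [hR.natCard, hPd]; exact Nat.pow_le_pow_right hp.pos hle
          obtain ⟨S, hS⟩ := hR.isPGroup.exists_le_sylow
          have hSP : (S : Subgroup G) = P := by
            have h1 : P ≤ (S : Subgroup G) := by
              have h2 : P ⊔ (S : Subgroup G) = S :=
                S.3 (hP.to_sup_of_normal_left S.2) le_sup_right
              exact h2 ▸ le_sup_left
            exact (Subgroup.eq_of_le_of_card_ge h1 (by rw [S.card_eq_multiplicity, hPd])).symm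
          have hRP : R = P := Subgroup.eq_of_le_of_card_ge (hSP ▸ hS) hPR
          exact hRP ▸ hR.mem_centralizer
        refine ⟨?_, ?_⟩
        · rw [← hc, ← MulAut.conj_apply, MulEquiv.orderOf_eq]; exact hreg
        · rw [← hc]; exact (conj_mem_centralizer_iff (hnorm c)).mpr hgC
      · obtain ⟨g, rfl⟩ := ConjClasses.exists_rep C
        obtain ⟨hreg, hgC⟩ := hC g rfl
        refine ⟨g, rfl, hreg, ?_⟩
        have h1 := Subgroup.card_dvd_of_le (le_centralizer_singleton_iff.mpr hgC)
        rw [hPd] at h1
        exact (hp.pow_dvd_iff_le_factorization Nat.card_pos.ne').mp h1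
  · haveI : Finite (ConjClasses G) := Finite.of_surjective _ ConjClasses.mk_surjective
    haveI := finite_irr (G := G)
    haveI := Fintype.ofFinite (IrrCharacter G)
    set ι := {C : ConjClasses G // ∀ n : G, ConjClasses.mk n = C →
      ¬ p ∣ orderOf n ∧ n ∈ Subgroup.centralizer (P : Set G)}
    set κ := {B : Set (IrrCharacter G) // IsPBlock M B}
    haveI := Fintype.ofFinite ι
    haveI := Fintype.ofFinite κ
    choose χ hχ using fun B : κ => isPBlock_nonempty B.2
    obtain ⟨K, hKn, hKp, hK⟩ := exists_pPrime_normal hP hidx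
    rw [Nat.card_eq_fintype_card, Nat.card_eq_fintype_card]
    refine card_le_of_mul_congr_one (M := M)
      (Matrix.of fun (C : ι) (B : κ) => blockCoeff B.1 (Quotient.out C.1))
      (Matrix.of fun B C => centralChar (χ B : G → ℂ) (Quotient.out C.1))
      (fun C B => (isIntClassFun_blockCoeff hM B.2).2 _)
      (fun B C => centralChar_memLocalRing _ _) fun C C' => ?_
    simp only [Matrix.mul_apply, Matrix.of_apply]
    set y := Quotient.out C'.1 with hy
    set x := Quotient.out C.1 with hx
    obtain ⟨hyreg, hyC⟩ := C'.2 y (Quotient.out_eq _)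
    obtain ⟨hxreg, hxC⟩ := C.2 x (Quotient.out_eq _)
    set f : G → ℂ := classInd y + -(∑ B : κ, centralChar (χ B : G → ℂ) y • blockCoeff B.1) with hf
    have hfI : IsIntClassFun M f := by
      refine isIntClassFun_add (isIntClassFun_classInd y) (isIntClassFun_neg ⟨fun g h => ?_, fun g => ?_⟩)
      · rw [Finset.sum_apply, Finset.sum_apply]
        exact Finset.sum_congr rfl fun B _ => by simp [(isIntClassFun_blockCoeff hM B.2).1 g h]
      · rw [Finset.sum_apply]
        exact memLocalRing_sum fun B _ => (localRing M).mul_mem (centralChar_memLocalRing _ _)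
          ((isIntClassFun_blockCoeff hM B.2).2 g)
    have hfω : ∀ ξ : IrrCharacter G, MemLocalIdeal M (omega (ξ : G → ℂ) f) := by
      intro ξ
      set B₀ : κ := ⟨blockOf M (ξ : G → ℂ), isPBlock_blockOf ξ⟩
      rw [hf, omega_add, omega_neg, omega_sum, omega_classInd (irr_class ξ),
        Finset.sum_eq_single B₀]
      · rw [omega_smul, omega_blockCoeff, Set.indicator_of_mem (mem_blockOf_self ξ), Pi.one_apply,
          mul_one, ← sub_eq_add_neg]
        exact sameBlock_of_mem B₀.2 (mem_blockOf_self ξ) (hχ B₀) y
      · intro B _ hne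
        rw [omega_smul, omega_blockCoeff, Set.indicator_of_notMem fun hmem => hne (Subtype.ext
          (isPBlock_eq_of_mem B.2 B₀.2 hmem (mem_blockOf_self ξ))), mul_zero]
      · exact fun h => absurd (Finset.mem_univ _) h
    -- truncate to the centralizer of `P`
    set f' : G → ℂ := (Subgroup.centralizer (P : Set G) : Set G).indicator f with hf'
    have hf'I : IsIntClassFun M f' := by
      refine ⟨fun g h => ?_, fun g => ?_⟩
      · by_cases hg : g ∈ Subgroup.centralizer (P : Set G)
        · rw [hf', Set.indicator_of_mem (SetLike.mem_coe.mpr hg),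
            Set.indicator_of_mem (SetLike.mem_coe.mpr ((conj_mem_centralizer_iff (hnorm h)).mpr hg))]
          exact hfI.1 g h
        · rw [hf', Set.indicator_of_notMem (show g ∉ (Subgroup.centralizer (P : Set G) : Set G) from hg),
            Set.indicator_of_notMem (show h * g * h⁻¹ ∉ (Subgroup.centralizer (P : Set G) : Set G)
              from fun h' => hg ((conj_mem_centralizer_iff (hnorm h)).mp h'))]
      · by_cases hg : g ∈ Subgroup.centralizer (P : Set G)
        · rw [hf', Set.indicator_of_mem (SetLike.mem_coe.mpr hg)]; exact hfI.2 g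
        · rw [hf', Set.indicator_of_notMem (by exact hg)]; exact (localRing M).zero_mem
    have hsing : ∀ z, p ∣ orderOf z → f z = 0 := by
      intro z hz
      have hyz : ¬ IsConj y z := fun h => by
        obtain ⟨c, rfl⟩ := isConj_iff.mp h
        exact hyreg (by rwa [← MulAut.conj_apply, MulEquiv.orderOf_eq] at hz)
      rw [hf, Pi.add_apply, Pi.neg_apply, classInd_apply_of_not_isConj hyz, zero_add, neg_eq_zero,
        Finset.sum_apply]
      exact Finset.sum_eq_zero fun B _ => by
        rw [Pi.smul_apply, blockCoeff_eq_zero_of_dvd_orderOf hM B.2 hz, smul_zero]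
    have hs : ∀ z, z ∉ K → f' z = 0 := by
      intro z hz
      by_cases hg : z ∈ Subgroup.centralizer (P : Set G)
      · rw [hf', Set.indicator_of_mem (SetLike.mem_coe.mpr hg)]
        exact hsing z (by by_contra hr; exact hz (hK z hg hr))
      · rw [hf', Set.indicator_of_notMem (by exact hg)]
    have hω' : ∀ ξ : IrrCharacter G, MemLocalIdeal M (omega (ξ : G → ℂ) f') := by
      intro ξ
      have hdI : IsIntClassFun M (f + -f') := isIntClassFun_add hfI (isIntClassFun_neg hf'I)
      have hd : MemLocalIdeal M (omega (ξ : G → ℂ) (f + -f')) := by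
        by_contra hu
        obtain ⟨z, hz1, hz2⟩ := exists_unit_class hM ξ hdI hu
        refine hz2 (centralChar_memLocalIdeal_of_notMem P hM hP (fun w hw hwC => hz1 ?_) ξ)
        have hzC : z ∈ Subgroup.centralizer (P : Set G) := by
          obtain ⟨c, rfl⟩ := isConj_iff.mp hw
          exact (conj_mem_centralizer_iff (hnorm c)).mp hwC
        rw [Pi.add_apply, Pi.neg_apply, hf', Set.indicator_of_mem (SetLike.mem_coe.mpr hzC),
          add_neg_cancel]
        exact memLocalIdeal_zero
      rw [omega_add, omega_neg, ← sub_eq_add_neg] at hd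
      simpa using memLocalIdeal_sub (hfω ξ) hd
    have hmain := memLocalIdeal_of_supported_pPrime hM hKp hf'I hs hω' x
    rw [hf', Set.indicator_of_mem (SetLike.mem_coe.mpr hxC), hf, Pi.add_apply, Pi.neg_apply,
      Finset.sum_apply] at hmain
    have hone : (1 : Matrix ι ι ℂ) C C' = classInd y x := by
      rw [Matrix.one_apply]
      by_cases hCC : C = C'
      · subst hCC
        rw [if_pos rfl, classInd_apply_of_isConj (IsConj.refl x)]
      · rw [if_neg hCC, classInd_apply_of_not_isConj]
        intro hconj
        refine hCC (Subtype.ext ?_)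
        have h2 := ConjClasses.mk_eq_mk_iff_isConj.mpr hconj
        rw [← Quotient.out_eq C.1, ← Quotient.out_eq C'.1]
        exact h2.symm
    rw [hone]
    have h2 := memLocalIdeal_neg hmain
    convert h2 using 1
    simp only [Pi.smul_apply, smul_eq_mul]
    rw [neg_add, neg_neg]
    rw [sub_eq_neg_add]
    congr 1
    exact Finset.sum_congr rfl fun B _ => mul_comm _ _

/-- Blocks with a Sylow subgroup as defect group. -/
theorem natCard_blocks_full_defect (hM : IsPModular p M) (S : Sylow p G) :
    Nat.card {B : Set (IrrCharacter G) // IsPBlock M B ∧ IsDefectGroup p M B (S : Subgroup G)} =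
      Nat.card {C : ConjClasses (Subgroup.normalizer ((S : Subgroup G) : Set G)) //
        ∀ n : Subgroup.normalizer ((S : Subgroup G) : Set G), ConjClasses.mk n = C →
          ¬ p ∣ orderOf n ∧ (n : G) ∈ Subgroup.centralizer ((S : Subgroup G) : Set G)} := by
  classical
  have := isPrime hM
  set N := Subgroup.normalizer ((S : Subgroup G) : Set G) with hN
  haveI := Fintype.ofFinite N
  set P' := (S : Subgroup G).subgroupOf N with hP'
  haveI : P'.Normal := Subgroup.normal_in_normalizer
  have hP'p : IsPGroup p P' :=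
    S.2.of_equiv (Subgroup.subgroupOfEquivOfLe Subgroup.le_normalizer).symm
  have hidx : ¬ p ∣ P'.index := fun h => S.not_dvd_index
    (h.trans (Subgroup.relIndex_dvd_index_of_le Subgroup.le_normalizer))
  have hC : ∀ n : N, (n : G) ∈ Subgroup.centralizer ((S : Subgroup G) : Set G) ↔
      n ∈ Subgroup.centralizer (P' : Set N) := by
    intro n
    refine ⟨fun h => ?_, mem_centralizer_of_subgroupOf Subgroup.le_normalizer⟩
    rw [Subgroup.mem_centralizer_iff] at h ⊢
    exact fun u hu => Subtype.ext (h u hu)
  trans Nat.card {b : Set (IrrCharacter N) // IsPBlock M b}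
  swap
  · rw [natCard_blocks_normal_sylow hM hP'p hidx]
    exact Nat.card_congr (Equiv.subtypeEquivRight fun C =>
      forall₂_congr fun n _ => and_congr Iff.rfl (hC n).symm)
  symm
  choose F hF hFD hFind using fun b : {b : Set (IrrCharacter N) // IsPBlock M b} =>
    exists_induced_defectGroup hM S.2 b.2 (isDefectGroup_normal_sylow hM hP'p hidx b.2)
  refine Nat.card_congr (Equiv.ofBijective (fun b => ⟨F b, hF b, hFD b⟩) ⟨fun b b' h => ?_, ?_⟩)
  · have hFF : F b = F b' := congrArg Subtype.val h
    exact Subtype.ext (inducing_normalizer_unique hM S.2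
      (isDefectGroup_normal_sylow hM hP'p hidx b.2) (isDefectGroup_normal_sylow hM hP'p hidx b'.2)
      (hFind b) (hFF ▸ hFind b'))
  · rintro ⟨B, hB, hBD⟩
    obtain ⟨b, hb, -, hind⟩ := exists_inducing_normalizer hM S.2 hB hBD
    refine ⟨⟨b, hb⟩, Subtype.ext ?_⟩
    obtain ⟨ξ, hξ⟩ := isPBlock_nonempty hb
    obtain ⟨χ, hχ⟩ := isPBlock_nonempty hB
    obtain ⟨χ', hχ'⟩ := isPBlock_nonempty (hF ⟨b, hb⟩)
    show F ⟨b, hb⟩ = B
    rw [isPBlock_eq_blockOf (hF ⟨b, hb⟩) hχ', isPBlock_eq_blockOf hB hχ]
    refine blockOf_eq_of_sameBlock fun g => ?_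
    simpa using memLocalIdeal_sub (hind.2.2 ξ hξ χ hχ g) ((hFind ⟨b, hb⟩).2.2 ξ hξ χ' hχ' g)

end Cfsg.Agent.BlocksCore
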