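import Cfsg.Agent.Lib.BlocksCore.CyclicBlock
import Cfsg.Agent.Lib.BlocksCore.BlockCount
import Cfsg.Agent.Lib.SmallGroups.SelfCent.Gram

/-!
# Integer vectors of the principal block and the setup for a Sylow subgroup of prime order
-/

set_option linter.unusedSectionVars false

namespace Cfsg.Agent.BlocksCore.CyclicCount

open SmallGroups.SelfCent

/-- The shape of vectors with Gram matrix `1 + e` supported on at least `e + r` indices. -/
theorem shape {α O : Type*} [Fintype α] [DecidableEq α] [Fintype O] [DecidableEq O] [Nonempty O]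
    (B : Finset α) (w : α → ℤ) (hw : ∀ x, 0 < w x) (v : O → α → ℤ) (e : ℕ)
    (hgram : ∀ i j, ∑ x, v i x * v j x = (if i = j then 1 else 0) + (e : ℤ))
    (hdeg : ∀ i, ∑ x, w x * v i x = 0) (hoff : ∀ i x, x ∉ B → v i x = 0)
    (hne : ∀ x ∈ B, ∃ i, v i x ≠ 0) (hge : e + Fintype.card O ≤ B.card) :
    ∃ (f : O → α) (c : α → ℤ) (ε : ℤ), (ε = 1 ∨ ε = -1) ∧ Function.Injective f ∧
      (∀ i, f i ∈ B) ∧ (∀ i j, v i (f j) = if i = j then ε else 0) ∧
      (∀ x ∈ B, (∀ i, f i ≠ x) → (c x = 1 ∨ c x = -1) ∧ ∀ i, v i x = c x) ∧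
      B.card = e + Fintype.card O := by
  classical
  rcases subsingleton_or_nontrivial O with hO | hO
  · obtain ⟨i₀⟩ : Nonempty O := inferInstance
    have hr : Fintype.card O = 1 := Fintype.card_eq_one_iff.mpr ⟨i₀, fun j => Subsingleton.elim _ _⟩
    have h1 : ∀ x ∈ B, 1 ≤ v i₀ x * v i₀ x := fun x hx => by
      obtain ⟨i, hi⟩ := hne x hx
      rw [Subsingleton.elim i i₀] at hi
      exact mul_self_pos.mpr hi
    have hsum : ∑ x ∈ B, v i₀ x * v i₀ x = 1 + (e : ℤ) := by
      rw [Finset.sum_subset (Finset.subset_univ _) fun x _ hx => by rw [hoff i₀ x hx, zero_mul],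
        hgram, if_pos rfl]
    have h2 : (B.card : ℤ) ≤ 1 + e := by
      rw [← hsum]
      simpa using Finset.card_nsmul_le_sum B (fun x => v i₀ x * v i₀ x) 1 h1
    have hcard : B.card = e + Fintype.card O := by omega
    have hsgn : ∀ x ∈ B, v i₀ x = 1 ∨ v i₀ x = -1 := fun x hx => by
      have h3 : ∑ y ∈ B, (v i₀ y * v i₀ y - 1) = 0 := by
        rw [Finset.sum_sub_distrib, hsum, Finset.sum_const, hcard, hr, nsmul_one]
        push_cast
        ring
      have h4 := (Finset.sum_eq_zero_iff_of_nonneg fun y hy => by linarith [h1 y hy]).mp h3 x hx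
      exact mul_self_eq_one_iff.mp (by linarith)
    obtain ⟨x₀, hx₀⟩ : B.Nonempty := Finset.card_pos.mp (by omega)
    refine ⟨fun _ => x₀, v i₀, v i₀ x₀, hsgn x₀ hx₀, fun i j _ => Subsingleton.elim i j,
      fun _ => hx₀, fun i j => ?_, fun x hx _ => ⟨hsgn x hx, fun i => by
        rw [Subsingleton.elim i i₀]⟩, hcard⟩
    rw [if_pos (Subsingleton.elim i j), Subsingleton.elim i i₀]
  · obtain ⟨ε, f, c, d, b, hε, hf, hv, hfd, -, hnorm, -⟩ :=
      exists_exceptional w hw v (e : ℤ) hgram hdeg
    set F := Finset.univ.image f with hF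
    set r := Fintype.card O with hr
    have hFcard : F.card = r := by rw [hF, Finset.card_image_of_injective _ hf, Finset.card_univ]
    have hr2 : 2 ≤ r := Fintype.one_lt_card
    have hnF : ∀ x, (∀ i, f i ≠ x) ↔ x ∉ F := fun x => by simp [hF]
    have hvc : ∀ x, x ∉ F → ∀ i, v i x = c x := fun x hxF i => by
      rw [hv, if_neg (fun h => hxF (by rw [h]; exact Finset.mem_image_of_mem f (Finset.mem_univ i))),
        add_zero]
    have hc : ∀ x ∈ B \ F, 1 ≤ c x * c x := by
      intro x hx
      obtain ⟨hxB, hxF⟩ := Finset.mem_sdiff.mp hx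
      obtain ⟨i, hi⟩ := hne x hxB
      rw [hvc x hxF i] at hi
      exact mul_self_pos.mpr hi
    have hsumF : ∑ x ∈ F, c x * c x = (r : ℤ) * (d * d) := by
      rw [hF, Finset.sum_image (fun a _ b _ h => hf h), Finset.sum_congr rfl fun i _ => by
        rw [hfd], Finset.sum_const, Finset.card_univ, nsmul_eq_mul]
    have hsplit : ∑ x ∈ B \ F, c x * c x + (r : ℤ) * (d * d) ≤ ∑ x, c x * c x := by
      rw [← hsumF, ← Finset.sum_union (Finset.sdiff_disjoint)]
      exact Finset.sum_le_univ_sum_of_nonneg fun x => mul_self_nonneg _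
    have hnn : 0 ≤ (r : ℤ) * (d * d) + 2 * ε * d := by
      have h2 : (2 : ℤ) ≤ r := by exact_mod_cast hr2
      have h3 := mul_le_mul_of_nonneg_right h2 (mul_self_nonneg d)
      have h4 : 0 ≤ d * d + ε * d := by
        rcases lt_trichotomy d 0 with hd | hd | hd
        · have : d ≤ -1 := by omega
          rcases hε with rfl | rfl <;> nlinarith
        · simp [hd]
        · have : 1 ≤ d := by omega
          rcases hε with rfl | rfl <;> nlinarith
      linarith
    have hcard1 : ((B \ F).card : ℤ) ≤ ∑ x ∈ B \ F, c x * c x := by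
      simpa using Finset.card_nsmul_le_sum (B \ F) (fun x => c x * c x) 1 hc
    have hB : B.card = (B \ F).card + (B ∩ F).card :=
      (Finset.card_sdiff_add_card_inter B F).symm
    have hBF : (B ∩ F).card ≤ r := hFcard ▸ Finset.card_le_card Finset.inter_subset_right
    have hge' : (e : ℤ) + r ≤ (B \ F).card + (B ∩ F).card := by exact_mod_cast hB ▸ hge
    have hBF' : ((B ∩ F).card : ℤ) ≤ r := by exact_mod_cast hBF
    have hrd : (r : ℤ) * (d * d) + 2 * ε * d = 0 := by linarith
    have hcard : B.card = e + r := by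
      have h5 : ((B \ F).card : ℤ) + (B ∩ F).card = e + r := by linarith
      rw [hB]
      exact_mod_cast h5
    have hFB : ∀ i, f i ∈ B := by
      have h6 : (B ∩ F).card = F.card := by
        have h5 : ((B ∩ F).card : ℤ) = r := by linarith
        rw [hFcard]
        exact_mod_cast h5
      have h7 := Finset.eq_of_subset_of_card_le Finset.inter_subset_right h6.ge
      exact fun i => (Finset.mem_inter.mp
        (show f i ∈ B ∩ F by rw [h7]; exact Finset.mem_image_of_mem f (Finset.mem_univ i))).1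
    have hcx : ∀ x ∈ B, (∀ i, f i ≠ x) → (c x = 1 ∨ c x = -1) ∧ ∀ i, v i x = c x := by
      intro x hx hxf
      have hxF := (hnF x).mp hxf
      have h7 : ∑ y ∈ B \ F, (c y * c y - 1) = 0 := by
        rw [Finset.sum_sub_distrib, Finset.sum_const, nsmul_one]
        linarith
      have h8 := (Finset.sum_eq_zero_iff_of_nonneg fun y hy => by linarith [hc y hy]).mp h7 x
        (Finset.mem_sdiff.mpr ⟨hx, hxF⟩)
      exact ⟨mul_self_eq_one_iff.mp (by linarith), hvc x hxF⟩
    rcases eq_or_ne d 0 with hd | hd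
    · refine ⟨f, c, ε, hε, hf, hFB, fun i j => ?_, hcx, hcard⟩
      rw [hv, hfd, hd, zero_add]
      exact if_congr ⟨fun h => (hf h).symm, fun h => h ▸ rfl⟩ rfl rfl
    · have h6 : (r : ℤ) * d + 2 * ε = 0 := by
        have h7 : d * ((r : ℤ) * d + 2 * ε) = 0 := by linarith
        exact (mul_eq_zero.mp h7).resolve_left hd
      have hrd2 : r = 2 ∧ d = -ε := by
        have h2 : (2 : ℤ) ≤ r := by exact_mod_cast hr2
        rcases lt_or_gt_of_ne hd with hd' | hd'
        · have hd1 : d ≤ -1 := by omega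
          have := mul_le_mul_of_nonneg_left hd1 (by omega : (0 : ℤ) ≤ r)
          rcases hε with rfl | rfl
          · have hr' : r = 2 := by omega
            rw [show (r : ℤ) = 2 by exact_mod_cast hr'] at h6
            exact ⟨hr', by omega⟩
          · omega
        · have hd1 : 1 ≤ d := by omega
          have := mul_le_mul_of_nonneg_left hd1 (by omega : (0 : ℤ) ≤ r)
          rcases hε with rfl | rfl
          · omega
          · have hr' : r = 2 := by omega
            rw [show (r : ℤ) = 2 by exact_mod_cast hr'] at h6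
            exact ⟨hr', by omega⟩
      obtain ⟨a, b, hab, huniv⟩ := Finset.card_eq_two.mp
        (show (Finset.univ : Finset O).card = 2 by rw [Finset.card_univ]; exact hrd2.1)
      have hmem : ∀ i : O, i = a ∨ i = b := fun i => by
        simpa [huniv] using Finset.mem_univ i
      refine ⟨f ∘ Equiv.swap a b, c, -ε, by omega, hf.comp (Equiv.injective _), fun i => hFB _,
        fun i j => ?_, fun x hx hxf => hcx x hx fun i => ?_, hcard⟩
      · rw [Function.comp_apply, hv, hfd, hrd2.2]
        rcases hmem i with rfl | rfl <;> rcases hmem j with rfl | rfl <;>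
          simp [hf.eq_iff, hab, hab.symm]
      · simpa using hxf (Equiv.swap a b i)

/-- Vectors with Gram matrix `1 + e` supported on at least `e + r` indices. -/
theorem count {α O : Type*} [Fintype α] [DecidableEq α] [Fintype O] [DecidableEq O] [Nonempty O]
    (B : Finset α) (w : α → ℤ) (hw : ∀ x, 0 < w x) (v : O → α → ℤ) (e : ℕ)
    (hgram : ∀ i j, ∑ x, v i x * v j x = (if i = j then 1 else 0) + (e : ℤ))
    (hdeg : ∀ i, ∑ x, w x * v i x = 0) (hoff : ∀ i x, x ∉ B → v i x = 0)
    (hne : ∀ x ∈ B, ∃ i, v i x ≠ 0) (hge : e + Fintype.card O ≤ B.card) :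
    B.card = e + Fintype.card O ∧ ∀ x ∈ B, ∃ t : ℤ, (t = 1 ∨ t = -1) ∧
      (∑ i, v i x = (Fintype.card O : ℤ) * t ∨ ∑ i, v i x = t) := by
  classical
  obtain ⟨f, c, ε, hε, -, -, hvf, hcx, hcard⟩ := shape B w hw v e hgram hdeg hoff hne hge
  refine ⟨hcard, fun x hx => ?_⟩
  by_cases hxf : ∀ i, f i ≠ x
  · obtain ⟨hc, hvx⟩ := hcx x hx hxf
    exact ⟨c x, hc, Or.inl (by
      rw [Finset.sum_congr rfl fun i _ => hvx i, Finset.sum_const, Finset.card_univ,
        nsmul_eq_mul])⟩
  · push Not at hxf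
    obtain ⟨j, rfl⟩ := hxf
    exact ⟨ε, hε, Or.inr (by simp [hvf])⟩

variable {G : Type*} [Group G] [Finite G] {p : ℕ} [Fact p.Prime]

/-- A Sylow subgroup of prime order gives a setup. -/
theorem exists_setup {z : G} (hz : orderOf z = p) (hidx : ¬ p ∣ (Subgroup.zpowers z).index) :
    ∃ s : Setup G p, s.z = z := by
  classical
  have hp : p.Prime := Fact.out
  set C := Subgroup.centralizer ({z} : Set G) with hC
  have hzC : z ∈ C := Subgroup.mem_centralizer_singleton_iff.mpr rfl
  set Q := Subgroup.zpowers (⟨z, hzC⟩ : C) with hQ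
  have hzo : orderOf (⟨z, hzC⟩ : C) = p := by rw [Subgroup.orderOf_mk, hz]
  have hQc : Nat.card Q = p := by rw [hQ, Nat.card_zpowers, hzo]
  have hcomm : ∀ c : C, Commute (⟨z, hzC⟩ : C) c := fun c =>
    Subtype.ext (Subgroup.mem_centralizer_singleton_iff.mp c.2).symm
  haveI : Q.Normal := ⟨fun u hu c => by
    obtain ⟨i, rfl⟩ := Subgroup.mem_zpowers_iff.mp hu
    rw [((hcomm c).symm.zpow_right i).eq, mul_inv_cancel_right]
    exact hu⟩
  have hQp : IsPGroup p Q := IsPGroup.of_card (n := 1) (by rw [hQc, pow_one])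
  have hQi : ¬ p ∣ Q.index := by
    intro h
    refine hidx (h.trans ?_)
    have e : Q = (Subgroup.zpowers z).subgroupOf C := by
      refine Subgroup.map_injective C.subtype_injective ?_
      rw [hQ, MonoidHom.map_zpowers,
        Subgroup.map_subgroupOf_eq_of_le (Subgroup.zpowers_le.mpr hzC)]
      rfl
    rw [e]
    exact Subgroup.relIndex_dvd_index_of_le (Subgroup.zpowers_le.mpr hzC)
  haveI := Fintype.ofFinite C
  obtain ⟨K₀, hK₀n, hK₀p, hK₀⟩ := exists_pPrime_normal hQp hQi
  have hcent : ∀ c : C, c ∈ Subgroup.centralizer (Q : Set C) := fun c =>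
    Subgroup.mem_centralizer_iff.mpr fun u hu => by
      obtain ⟨i, rfl⟩ := Subgroup.mem_zpowers_iff.mp hu
      exact ((hcomm c).zpow_left i).eq
  have hsurj : Function.Surjective fun qk : Q × K₀ => (qk.1 : C) * (qk.2 : C) := by
    intro c
    obtain ⟨x, y, rfl, hxy, ⟨k, hx⟩, hy⟩ := exists_pPart (p := p) hp c
    refine ⟨(⟨x, ?_⟩, ⟨y, hK₀ y (hcent y) hy⟩), rfl⟩
    have hxP : IsPGroup p (Subgroup.zpowers x) :=
      IsPGroup.of_card (n := k) (by rw [Nat.card_zpowers, hx])
    have h := (hQp.toSylow hQi).3 (hQp.to_sup_of_normal_left hxP) le_sup_left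
    have h' : Q ⊔ Subgroup.zpowers x = Q := h
    exact h'.le (Subgroup.mem_sup_right (Subgroup.mem_zpowers x))
  have hcard : Nat.card C = p * Nat.card K₀ := by
    refine le_antisymm ?_ (Nat.le_of_dvd Nat.card_pos
      (Nat.Coprime.mul_dvd_of_dvd_of_dvd (hp.coprime_iff_not_dvd.mpr hK₀p)
        (hQc ▸ Subgroup.card_subgroup_dvd_card Q) (Subgroup.card_subgroup_dvd_card K₀)))
    have := Nat.card_le_card_of_surjective _ hsurj
    rwa [Nat.card_prod, hQc] at this
  have hKcard : Nat.card (K₀.map C.subtype) = Nat.card K₀ :=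
    Subgroup.card_map_of_injective C.subtype_injective
  refine ⟨⟨z, K₀.map C.subtype, hz, ?_, ?_, ?_⟩, rfl⟩
  · rintro _ ⟨c, -, rfl⟩
    exact Subgroup.mem_centralizer_singleton_iff.mp c.2
  · rwa [hKcard]
  · rw [hKcard]
    exact hcard

end Cfsg.Agent.BlocksCore.CyclicCount
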