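import Cfsg.Agent.Lib.BlocksCore.Ring
import Cfsg.Agent.Lib.BlocksDefect.Normal

/-!
# Blocks and normal subgroups of order prime to `p`
-/

set_option linter.unusedSectionVars false

namespace Cfsg.Agent.BlocksCore

open BlocksDefect

variable {G : Type*} [Group G] [Fintype G] {p : ℕ} [Fact p.Prime] {M : Ideal AlgInt}

theorem constituent_of_sameBlock (hM : IsPModular p M) {N : Subgroup G} [N.Normal] [Fintype N]
    (hN : ¬ p ∣ Nat.card N) {χ ψ : IrrCharacter G} (h : SameBlock M (χ : G → ℂ) (ψ : G → ℂ))
    {θ : IrrCharacter N} (hθ : IsConstituent ψ θ) : IsConstituent χ θ := by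
  classical
  have := isPrime hM
  haveI := finite_irr (G := N)
  haveI := Fintype.ofFinite (IrrCharacter N)
  set S : Set (IrrCharacter N) := {η | IsConstituent χ η} with hS
  set a : G → ℂ := fun x => if hx : x ∈ N then blockCoeff S ⟨x, hx⟩ else 0 with ha
  have hinv : ∀ (g : G) (n : N), blockCoeff S ⟨g * n * g⁻¹, Subgroup.Normal.conj_mem (inferInstance : N.Normal) n n.2 g⟩ =
      blockCoeff S n := by
    intro g n
    rw [blockCoeff_eq_sum, blockCoeff_eq_sum]
    congr 1
    symm
    refine (Fintype.sum_equiv ⟨conjIrr g, conjIrr g⁻¹, conjIrr_inv_self g, fun η => ?_⟩ _ _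
      fun η => ?_).symm
    · simpa using conjIrr_inv_self g⁻¹ η
    · simp only [Equiv.coe_fn_mk]
      have hmem : conjIrr g η ∈ S ↔ η ∈ S := by
        rw [hS, Set.mem_setOf_eq, Set.mem_setOf_eq, IsConstituent, IsConstituent,
          classInner_conjIrr χ g η]
      by_cases hη : η ∈ S
      · rw [Set.indicator_of_mem hη, Set.indicator_of_mem (hmem.mpr hη), coe_conjIrr]
        simp [conjFun, mul_assoc]
        congr 2
        refine congrArg _ (Subtype.ext ?_)
        simp [mul_assoc]
      · rw [Set.indicator_of_notMem hη, Set.indicator_of_notMem (fun h' => hη (hmem.mp h'))]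
        simp
  have hs : ∀ x, x ∉ N → a x = 0 := fun x hx => dif_neg hx
  have haI : IsIntClassFun M a := by
    refine ⟨fun x g => ?_, fun x => ?_⟩
    · by_cases hx : x ∈ N
      · have hx' : g * x * g⁻¹ ∈ N := Subgroup.Normal.conj_mem (inferInstance : N.Normal) x hx g
        simp only [ha, dif_pos hx, dif_pos hx']
        exact hinv g ⟨x, hx⟩
      · have hx' : g * x * g⁻¹ ∉ N := fun h' => hx
          (by simpa [mul_assoc] using Subgroup.Normal.conj_mem (inferInstance : N.Normal) _ h' g⁻¹)
        simp only [ha, dif_neg hx, dif_neg hx']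
    · by_cases hx : x ∈ N
      · simp only [ha, dif_pos hx]
        rw [blockCoeff_eq_sum]
        refine (localRing M).mul_mem (memLocalRing_natCast_inv hM hN) (memLocalRing_sum fun η _ => ?_)
        refine (localRing M).mul_mem ?_ ((localRing M).mul_mem
          (memLocalRing_of_isIntegral (isIntegral_irr η _))
          (memLocalRing_of_isIntegral (isIntegral_irr η _)))
        by_cases hη : η ∈ S
        · rw [Set.indicator_of_mem hη]; exact (localRing M).one_mem
        · rw [Set.indicator_of_notMem hη]; exact (localRing M).zero_mem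
      · simp only [ha, dif_neg hx]
        exact (localRing M).zero_mem
  have hres : res N a = blockCoeff S := by
    funext n
    simp [res, ha]
  obtain ⟨θ₀, hθ₀⟩ := exists_constituent_irr (N := N) χ
  have h1 := omega_sub_memLocalIdeal h haI
  rw [omega_eq_of_constituent hθ₀ haI.1 hs, omega_eq_of_constituent hθ haI.1 hs, hres,
    omega_blockCoeff, omega_blockCoeff, Set.indicator_of_mem (show θ₀ ∈ S from hθ₀)] at h1
  by_contra hn
  rw [Set.indicator_of_notMem (show θ ∉ S from hn)] at h1
  exact not_memLocalIdeal_one (by simpa using h1)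

end Cfsg.Agent.BlocksCore
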