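import Cfsg.Agent.Lib.BlocksCore.KleinOrder
import Cfsg.Agent.Lib.CharInd.BilinearForm
import Cfsg.Agent.BC86.Principal
import Cfsg.Agent.S0158

/-!
# The four members of the principal `2`-block for a four-group
-/

set_option linter.unusedSectionVars false

namespace Cfsg.Agent.BlocksCore.KleinOrder

open BlocksDefect CyclicPrincipal Finset
open scoped ComplexConjugate

variable {G : Type*} [Group G] [Fintype G] {M : Ideal AlgInt}

/-- A character of odd degree has indicator one or is not real. -/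
theorem indicator_of_odd (χ : IrrCharacter G) (hodd : Odd (charDegree (χ : G → ℂ)))
    (hreal : ∀ g, conj ((χ : G → ℂ) g) = (χ : G → ℂ) g) :
    ∑ s : G, (χ : G → ℂ) (s * s) = Nat.card G := by
  obtain ⟨n, ρ, hρ, hχ⟩ := χ.2
  haveI := hρ
  obtain ⟨W, ε, -, -, hu, hε, hWT, hν⟩ :=
    CharInd.exists_invariant_form_indicator ρ (fun g => by rw [hχ]; exact hreal g)
  rcases hε with rfl | rfl
  · rw [← hχ]
    have h0 : (Nat.card G : ℂ) ≠ 0 := Nat.cast_ne_zero.mpr Nat.card_pos.ne'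
    field_simp at hν
    exact hν
  · exfalso
    have hn : charDegree (χ : G → ℂ) = n := by
      rw [charDegree, ← hχ]
      simp
    rw [hn] at hodd
    exact Nat.not_even_iff_odd.mpr hodd (CharInd.even_of_skew hu hWT)

variable (hM : IsPModular 2 M) (P : Sylow 2 G) (hP : Nat.card P = 4) (hexp : ∀ x : P, x * x = 1)
  (hone : ∀ s t : G, orderOf s = 2 → orderOf t = 2 → IsConj s t) {J : G}
  (hJ : J ∈ (P : Subgroup G)) (hJ2 : orderOf J = 2) {χ₁ χ₂ χ₃ : IrrCharacter G} {ε₁ ε₂ ε₃ : ℤ}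
  (hB : principalBlock M G =
    {χ : IrrCharacter G | (χ : G → ℂ) = (fun _ => 1) ∨ χ = χ₁ ∨ χ = χ₂ ∨ χ = χ₃})
  (hdist : (χ₁ : G → ℂ) ≠ (fun _ => 1) ∧ (χ₂ : G → ℂ) ≠ (fun _ => 1) ∧
    (χ₃ : G → ℂ) ≠ (fun _ => 1) ∧ χ₁ ≠ χ₂ ∧ χ₁ ≠ χ₃ ∧ χ₂ ≠ χ₃)
  (hε : (ε₁ = 1 ∨ ε₁ = -1) ∧ (ε₂ = 1 ∨ ε₂ = -1) ∧ (ε₃ = 1 ∨ ε₃ = -1))
  (hval : (χ₁ : G → ℂ) J = ε₁ ∧ (χ₂ : G → ℂ) J = ε₂ ∧ (χ₃ : G → ℂ) J = ε₃)

include hB hdist

theorem sum_members (F : IrrCharacter G → ℂ) :
    ∑ χ ∈ members M G, F χ = F (oneIrr G) + (F χ₁ + (F χ₂ + F χ₃)) := by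
  classical
  obtain ⟨h1, h2, h3, h12, h13, h23⟩ := hdist
  have hset : members M G = {oneIrr G, χ₁, χ₂, χ₃} := by
    ext χ
    rw [mem_members, hB]
    simp [Subtype.ext_iff, coe_oneIrr]
  have hne : ∀ χ : IrrCharacter G, (χ : G → ℂ) ≠ (fun _ => 1) → oneIrr G ≠ χ :=
    fun χ hχ he => hχ (by rw [← he]; rfl)
  rw [hset, Finset.sum_insert (by simp [hne _ h1, hne _ h2, hne _ h3]),
    Finset.sum_insert (by simp [h12, h13]), Finset.sum_pair h23]

include hM hP hexp hJ hJ2 hval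

/-- The degree relation. -/
theorem degree_relation : (1 : ℤ) + ε₁ * (charDegree (χ₁ : G → ℂ) : ℤ) +
    ε₂ * (charDegree (χ₂ : G → ℂ) : ℤ) + ε₃ * (charDegree (χ₃ : G → ℂ) : ℤ) = 0 := by
  have h := sum_regular_orth P hP hexp hJ hJ2 hM (g := 1) (by simp)
  rw [sum_members hB hdist, hval.1, hval.2.1, hval.2.2, irr_one_eq χ₁, irr_one_eq χ₂, irr_one_eq χ₃,
    coe_oneIrr] at h
  apply Int.cast_injective (α := ℂ)
  push_cast
  linear_combination h

include hε hone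

/-- The order equation, over `ℚ`. -/
theorem order_rat : (Nat.card G : ℚ) * (1 + ε₁ / (charDegree (χ₁ : G → ℂ) : ℚ) +
    ε₂ / (charDegree (χ₂ : G → ℂ) : ℚ) + ε₃ / (charDegree (χ₃ : G → ℂ) : ℚ)) *
      (Nat.card (Subgroup.centralizer ((P : Subgroup G) : Set G)) : ℚ) ^ 2 =
    8 * (Nat.card (Subgroup.centralizer ({J} : Set G)) : ℚ) ^ 3 := by
  have h := order_equation P hP hexp hJ hJ2 hM hone
  rw [sum_members hB hdist, hval.1, hval.2.1, hval.2.2, irr_one_eq χ₁, irr_one_eq χ₂, irr_one_eq χ₃,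
    coe_oneIrr] at h
  have e : ∀ ε : ℤ, (ε = 1 ∨ ε = -1) → (ε : ℂ) ^ 3 = ε := fun ε hε => by
    rcases hε with rfl | rfl <;> norm_num
  rw [e _ hε.1, e _ hε.2.1, e _ hε.2.2] at h
  apply Rat.cast_injective (α := ℂ)
  push_cast
  simp only [one_pow, div_one] at h
  linear_combination h

/-- The degrees are odd. -/
theorem odd_degree {χ : IrrCharacter G} {ε : ℤ} (hχ : (χ : G → ℂ) J = ε)
    (hε' : ε = 1 ∨ ε = -1) : Odd (charDegree (χ : G → ℂ)) := by
  classical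
  haveI := Fintype.ofFinite (P : Subgroup G)
  obtain ⟨a, ha⟩ := CharCore.IsCharacter.exists_classInner_eq_natCast
    (CharCore.isCharacter_comp (CharCore.irr_isCharacter χ) (P : Subgroup G).subtype)
    (CharCore.IsIrrCharacter.isCharacter
      (CharCore.isIrrCharacter_hom (1 : ↥(P : Subgroup G) →* ℂˣ)))
  have h1 : ∑ y : (P : Subgroup G), (χ : G → ℂ) (y : G) = (Nat.card P : ℂ) * a := by
    rw [← ha, Cfsg.classInner, ← mul_assoc,
      mul_inv_cancel₀ (Nat.cast_ne_zero.mpr Nat.card_pos.ne'), one_mul]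
    exact Finset.sum_congr rfl fun y _ => by simp
  rw [← Finset.add_sum_erase _ _ (mem_univ (1 : (P : Subgroup G))), Finset.sum_congr rfl
    (g := fun _ => (ε : ℂ)) (fun y hy => ?_), Finset.sum_const,
    Finset.card_erase_of_mem (mem_univ _), card_univ, ← Nat.card_eq_fintype_card, hP, nsmul_eq_mul,
    OneMemClass.coe_one, irr_one_eq] at h1
  · have h2 : (charDegree (χ : G → ℂ) : ℤ) + 3 * ε = 4 * a := by
      apply Int.cast_injective (α := ℂ)
      push_cast at h1 ⊢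
      linear_combination h1
    rw [Nat.odd_iff]
    rcases hε' with rfl | rfl <;> omega
  · have hy1 : (y : G) ≠ 1 := fun he => ne_of_mem_erase hy (Subtype.ext he)
    obtain ⟨c, hc⟩ := isConj_iff.mp (hone J (y : G) hJ2 (by
      rw [Subgroup.orderOf_coe]
      exact orderOf_eq_prime (by rw [pow_two]; exact hexp y) (ne_of_mem_erase hy)))
    rw [← hc, irr_class χ J c, hχ]

/-- In the shape `ε = 1, 1, -1` the first two degrees agree. -/
theorem degree_eq (h1 : ε₁ = 1) (h2 : ε₂ = 1) (h3 : ε₃ = -1) :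
    charDegree (χ₁ : G → ℂ) = charDegree (χ₂ : G → ℂ) := by
  classical
  haveI : Fact (Nat.Prime 2) := ⟨Nat.prime_two⟩
  subst h1 h2 h3
  -- a member which is not real has its conjugate among the members with the same sign
  have hconj : ∀ χ : IrrCharacter G, χ ∈ principalBlock M G → (χ : G → ℂ) J = 1 →
      (∃ g, conj ((χ : G → ℂ) g) ≠ (χ : G → ℂ) g) → ∃ η, η ≠ χ ∧ (η = χ₁ ∨ η = χ₂) ∧
        charDegree (η : G → ℂ) = charDegree (χ : G → ℂ) := by
    rintro χ hχ hJχ ⟨g₀, hg₀⟩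
    set η := Blocks88.galoisIrr (starRingEnd ℂ) χ with hη
    have hηg : ∀ g, (η : G → ℂ) g = conj ((χ : G → ℂ) g) := fun g => by
      simp [hη, Blocks88.galoisIrr]
    have hmem := BC86.galoisIrr_mem_principalBlock hM (starRingEnd ℂ) hχ
    rw [hB] at hmem
    refine ⟨η, fun he => hg₀ ?_, ?_, ?_⟩
    · rw [← hηg, he]
    · rcases hmem with h | h | h | h
      · exfalso
        refine hg₀ ?_
        have e : (χ : G → ℂ) g₀ = 1 := by
          have := congrArg conj (congrFun h g₀)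
          rwa [hηg, Complex.conj_conj, map_one] at this
        rw [e, map_one]
      · exact Or.inl h
      · exact Or.inr h
      · exfalso
        have := hηg J
        rw [show η = χ₃ from h, hval.2.2, hJχ, map_one] at this
        norm_num at this
    · simp only [charDegree]
      rw [hηg, irr_one_eq, Complex.conj_natCast]
  by_contra hne
  have hm1 : χ₁ ∈ principalBlock M G := by rw [hB]; exact Or.inr (Or.inl rfl)
  have hm2 : χ₂ ∈ principalBlock M G := by rw [hB]; exact Or.inr (Or.inr (Or.inl rfl))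
  have hJ1 : (χ₁ : G → ℂ) J = 1 := by rw [hval.1, Int.cast_one]
  have hJ2' : (χ₂ : G → ℂ) J = 1 := by rw [hval.2.1, Int.cast_one]
  have hr1 : ∀ g, conj ((χ₁ : G → ℂ) g) = (χ₁ : G → ℂ) g := by
    by_contra hc
    push Not at hc
    obtain ⟨η, hη, h | h, hd⟩ := hconj χ₁ hm1 hJ1 hc
    · exact hη h
    · exact hne (h ▸ hd).symm
  have hr2 : ∀ g, conj ((χ₂ : G → ℂ) g) = (χ₂ : G → ℂ) g := by
    by_contra hc
    push Not at hc
    obtain ⟨η, hη, h | h, hd⟩ := hconj χ₂ hm2 hJ2' hc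
    · exact hne (h ▸ hd)
    · exact hη h
  have hN := Nat.cast_ne_zero (R := ℂ).mpr (Nat.card_pos (α := G)).ne'
  have hsum := sum_indicator_eq_zero P hP hexp hJ hJ2 hM
  rw [sum_members hB hdist, hJ1, hJ2', hval.2.2,
    indicator_of_odd χ₁ (odd_degree hM P hP hexp hone hJ hJ2 hB hdist hε hval hval.1 hε.1) hr1,
    indicator_of_odd χ₂ (odd_degree hM P hP hexp hone hJ hJ2 hB hdist hε hval hval.2.1 hε.2.1) hr2,
    coe_oneIrr, Finset.sum_const, card_univ, nsmul_eq_mul, ← Nat.card_eq_fintype_card] at hsum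
  obtain ⟨m, ρ, hρ, hχ⟩ := χ₃.2
  haveI := hρ
  have h3 := (Cfsg.Agent.S0158.result ρ).1
  rw [hχ] at h3
  have h4 : (∑ s : G, (χ₃ : G → ℂ) (s * s)) = 3 * (Nat.card G : ℂ) := by
    push_cast at hsum
    linear_combination -hsum
  rw [h4, mul_comm (3 : ℂ), ← mul_assoc, inv_mul_cancel₀ hN, one_mul] at h3
  norm_num at h3

end Cfsg.Agent.BlocksCore.KleinOrder
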