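import Cfsg.Agent.Lib.BlocksCore.AbelianPrincipal

/-!
# Leonard's shape of the principal block for an abelian Sylow subgroup with free automizer
-/

set_option linter.unusedSectionVars false

namespace Cfsg.Agent.BlocksCore.AbelianShape

open BlocksDefect AbelianPrincipal CyclicPrincipal

variable {G : Type*} [Group G] [Fintype G] {p : ℕ} [Fact p.Prime]

/-- Exceptional members `f`, the common part `c`, the sign `ε`. -/
structure Data (M : Ideal AlgInt) (P : Sylow p G) [Fintype (P : Subgroup G)] (m : ℕ) where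
  f : Orb P → IrrCharacter G
  c : IrrCharacter G → ℤ
  d : ℤ
  ε : ℤ
  sign : ε = 1 ∨ ε = -1
  inj : Function.Injective f
  mem : ∀ o, f o ∈ members M G
  c_f : ∀ o, c (f o) = d
  vec_f : ∀ (i o : Orb P), vecO (f i) o = d + if o = i then ε else 0
  vec_c : ∀ χ ∈ members M G, (∀ i, f i ≠ χ) → ∀ o : Orb P, vecO χ o = c χ
  norm : ∑ χ ∈ members M G, c χ * c χ + 2 * ε * d = (m : ℤ)
  one_ne : ∀ o, f o ≠ oneIrr G

variable {M : Ideal AlgInt} (hM : IsPModular p M) {P : Sylow p G} [Fintype (P : Subgroup G)]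
  (h : Free P)

include hM h

open scoped Classical in
theorem exists_data [Nontrivial (Orb P)] : Nonempty (Data M P
    ((Subgroup.centralizer ((P : Subgroup G) : Set G)).relIndex
      (Subgroup.normalizer ((P : Subgroup G) : Set G)))) := by
  have := isPrime hM
  obtain ⟨ε, f, c, d, b, hε, hf, hv, hfd, -, hnorm, -⟩ :=
    SmallGroups.SelfCent.exists_exceptional (ι := ↥(members M G)) (O := Orb P)
      (fun χ => (charDegree ((χ : IrrCharacter G) : G → ℂ) : ℤ))
      (fun χ => by exact_mod_cast charDegree_pos (χ : IrrCharacter G))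
      (fun o χ => vecO (χ : IrrCharacter G) o)
      (((Subgroup.centralizer ((P : Subgroup G) : Set G)).relIndex
        (Subgroup.normalizer ((P : Subgroup G) : Set G))) : ℤ)
      (fun i j => by
        rw [Finset.sum_coe_sort (members M G) (fun χ => vecO χ i * vecO χ j)]
        convert AbelianPrincipal.gram hM h i j)
      (fun i => by
        rw [Finset.sum_coe_sort (members M G) (fun χ => (charDegree (χ : G → ℂ) : ℤ) * vecO χ i)]
        exact AbelianPrincipal.sum_degree_mul hM i)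
  set c' : IrrCharacter G → ℤ := fun χ => if hχ : χ ∈ members M G then c ⟨χ, hχ⟩ else 0 with hc'
  have hc'' : ∀ χ : ↥(members M G), c' χ = c χ := fun χ => by
    rw [hc']
    exact dif_pos χ.2
  have hvec_f : ∀ i o, vecO (f i : IrrCharacter G) o = d + if o = i then ε else 0 := fun i o => by
    rw [hv o (f i), hfd i]
    congr 1
    exact if_congr ⟨fun h' => (hf h').symm, fun h' => h' ▸ rfl⟩ rfl rfl
  refine ⟨⟨fun o => (f o : IrrCharacter G), c', d, ε, hε, Subtype.val_injective.comp hf,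
    fun o => (f o).2, fun o => (hc'' (f o)).trans (hfd o), hvec_f, ?_, ?_, ?_⟩⟩
  · intro χ hχ hne o
    have h1 := hv o ⟨χ, hχ⟩
    rw [if_neg (fun h' => hne o (by rw [← h'])), add_zero] at h1
    exact h1.trans (hc'' ⟨χ, hχ⟩).symm
  · rw [← Finset.sum_coe_sort (members M G) (fun χ => c' χ * c' χ),
      Finset.sum_congr rfl fun χ _ => by rw [hc'' χ]]
    exact hnorm
  · intro o ho
    obtain ⟨o', hne⟩ := exists_ne o
    have h1 := hvec_f o o
    have h2 := hvec_f o o'
    rw [ho, vecO_one h, if_pos rfl] at h1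
    rw [ho, vecO_one h, if_neg hne] at h2
    rcases hε with rfl | rfl <;> omega

open scoped Classical in
/-- The members outside the family. -/
noncomputable def Data.X {m : ℕ} (D : Data M P m) : Finset (IrrCharacter G) :=
  members M G \ Finset.univ.image D.f

variable {m : ℕ} (D : Data M P m)

theorem Data.mem_X {χ : IrrCharacter G} :
    χ ∈ D.X ↔ χ ∈ members M G ∧ ∀ i, D.f i ≠ χ := by
  classical
  simp [Data.X]

theorem Data.c_ne_zero (hP1 : Nat.card P ≠ 1) {χ : IrrCharacter G} (hχ : χ ∈ D.X) : D.c χ ≠ 0 := by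
  obtain ⟨h1, h2⟩ := (mem_X hM h D).mp hχ
  obtain ⟨o, ho⟩ := exists_vecO_ne_zero hM h hP1 h1
  rwa [D.vec_c χ h1 h2 o] at ho

theorem Data.one_mem_X : oneIrr G ∈ D.X := by
  have := isPrime hM
  exact (mem_X hM h D).mpr ⟨mem_members.mpr oneIrr_mem, D.one_ne⟩

theorem Data.c_one [Nonempty (Orb P)] : D.c (oneIrr G) = -1 := by
  obtain ⟨o⟩ := ‹Nonempty (Orb P)›
  obtain ⟨h1, h2⟩ := (mem_X hM h D).mp (one_mem_X hM h D)
  rw [← D.vec_c _ h1 h2 o, vecO_one h]

theorem Data.norm_split :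
    ∑ χ ∈ D.X, D.c χ * D.c χ + ((Fintype.card (Orb P) : ℤ) * (D.d * D.d) + 2 * D.ε * D.d) = m := by
  classical
  rw [← D.norm, ← add_assoc]
  congr 1
  have hsub : Finset.univ.image D.f ⊆ members M G := fun χ hχ => by
    obtain ⟨o, -, rfl⟩ := Finset.mem_image.mp hχ
    exact D.mem o
  rw [← Finset.sum_sdiff hsub, Data.X]
  congr 1
  rw [Finset.sum_image fun a _ b _ hab => D.inj hab, Finset.sum_congr rfl fun o _ => by rw [D.c_f],
    Finset.sum_const, Finset.card_univ, nsmul_eq_mul]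

theorem Data.principal_eq :
    principalBlock M G = (↑D.X ∪ Set.range D.f : Set (IrrCharacter G)) := by
  ext χ
  rw [Set.mem_union, Finset.mem_coe, mem_X hM h D, Set.mem_range, ← mem_members]
  refine ⟨fun hχ => ?_, ?_⟩
  · by_cases hf : ∀ i, D.f i ≠ χ
    · exact Or.inl ⟨hχ, hf⟩
    · push Not at hf
      exact Or.inr hf
  · rintro (⟨h1, -⟩ | ⟨o, rfl⟩)
    · exact h1
    · exact D.mem o

theorem Data.apply_X {χ : IrrCharacter G} (hχ : χ ∈ D.X) {z y : G} (hz : IsPPart p z y)
    (hy : y ∈ (P : Subgroup G)) (hy1 : y ≠ 1) : (χ : G → ℂ) z = ((-D.c χ : ℤ) : ℂ) := by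
  obtain ⟨h1, h2⟩ := (mem_X hM h D).mp hχ
  rw [apply_of_isPPart hM h (mem_members.mp h1) hz hy hy1, Int.cast_neg]
  exact apply_of_const h χ (D.c χ) (D.vec_c χ h1 h2) (y := ⟨y, hy⟩)
    fun he => hy1 (congrArg Subtype.val he)

theorem Data.apply_f {ψ : Dual P} (hψ : ψ ≠ 1) {z : G} {y : (P : Subgroup G)}
    (hz : IsPPart p z (y : G)) (hy1 : (y : G) ≠ 1) :
    (D.f (orb ψ hψ) : G → ℂ) z = ((-D.d : ℤ) : ℂ) + (D.ε : ℂ) *
      ∑ᶠ φ ∈ {φ : Dual P | ∃ n : G, n ∈ Subgroup.normalizer ((P : Subgroup G) : Set G) ∧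
        ∀ w w' : ↥(P : Subgroup G), (w' : G) = n * w * n⁻¹ → φ w' = ψ w}, ((φ y : ℂˣ) : ℂ) := by
  classical
  rw [apply_of_isPPart hM h (mem_members.mp (D.mem _)) hz y.2 hy1,
    apply_of_exceptional h (D.f (orb ψ hψ)) D.d D.ε hψ (fun o => D.vec_f _ o)
      (y := y) (fun he => hy1 (congrArg Subtype.val he)), Int.cast_neg]
  congr 2
  rw [← finsum_mem_coe_finset]
  refine finsum_mem_congr ?_ fun _ _ => rfl
  ext φ
  simp only [Finset.coe_filter, Finset.mem_univ, true_and, Set.mem_setOf_eq]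
  exact ⟨fun hr => rel_iff.mp (rel_symm hr), fun hr => rel_symm (rel_iff.mpr hr)⟩

open scoped Classical in
theorem Data.sum_regular (i : Orb P) {g : G} (hg : ¬ p ∣ orderOf g) :
    ∑ χ ∈ D.X, (D.c χ : ℂ) * (χ : G → ℂ) g + (D.d : ℂ) * ∑ o, (D.f o : G → ℂ) g +
      (D.ε : ℂ) * (D.f i : G → ℂ) g = 0 := by
  have hsum := sum_vec_mul_regular hM i.out.1 hg
  have hsub : Finset.univ.image D.f ⊆ members M G := fun χ hχ => by
    obtain ⟨o, -, rfl⟩ := Finset.mem_image.mp hχ
    exact D.mem o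
  rw [← hsum, ← Finset.sum_sdiff hsub, Finset.sum_image fun a _ b _ hab => D.inj hab, add_assoc]
  congr 1
  · refine Finset.sum_congr rfl fun χ hχ => ?_
    obtain ⟨h1, h2⟩ := (mem_X hM h D).mp hχ
    rw [← D.vec_c χ h1 h2 i]
    rfl
  · show _ = ∑ o, ((vecO (D.f o) i : ℤ) : ℂ) * (D.f o : G → ℂ) g
    simp only [D.vec_f]
    push_cast
    rw [Finset.mul_sum]
    simp only [add_mul, Finset.sum_add_distrib, ite_mul, zero_mul]
    rw [Finset.sum_ite_eq Finset.univ i (fun o => (D.ε : ℂ) * (D.f o : G → ℂ) g),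
      if_pos (Finset.mem_univ _)]

/-- All members of the family agree at `p`-regular elements. -/
theorem Data.eq_regular (i j : Orb P) {g : G} (hg : ¬ p ∣ orderOf g) :
    (D.f i : G → ℂ) g = (D.f j : G → ℂ) g := by
  have h1 := sum_regular hM h D i hg
  have h2 := sum_regular hM h D j hg
  have hε : (D.ε : ℂ) ≠ 0 := by rcases D.sign with h' | h' <;> simp [h']
  refine mul_left_cancel₀ hε ?_
  linear_combination h1 - h2

open scoped Classical in
theorem Data.regular_relation (i : Orb P) {g : G} (hg : ¬ p ∣ orderOf g) :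
    ((Fintype.card (Orb P) : ℂ) * D.d + D.ε) * (D.f i : G → ℂ) g +
      ∑ χ ∈ D.X, (D.c χ : ℂ) * (χ : G → ℂ) g = 0 := by
  have h1 := sum_regular hM h D i hg
  rw [Finset.sum_congr rfl (g := fun _ => (D.f i : G → ℂ) g) fun o _ => eq_regular hM h D o i hg,
    Finset.sum_const, Finset.card_univ, nsmul_eq_mul] at h1
  linear_combination h1

omit h in
open scoped Classical in
/-- The map from linear characters to the family. -/
noncomputable def Data.zeta (ψ : Dual P) : IrrCharacter G :=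
  if hψ : ψ = 1 then oneIrr G else D.f (orb ψ hψ)

end Cfsg.Agent.BlocksCore.AbelianShape
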