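import Cfsg.Agent.Lib.BlocksCore.AbelianShape
import Cfsg.Agent.Lib.BlocksDefect.Lifting

/-!
# Automizer of order three and an involution generating the group normally
-/

set_option linter.unusedSectionVars false

namespace Cfsg.Agent.BlocksCore.AbelianThree

open BlocksDefect AbelianPrincipal AbelianShape CyclicPrincipal Finset

variable {G : Type*} [Group G] [Fintype G] {p : ℕ} [Fact p.Prime]

/-- Signs of three integers with the three relations. -/
theorem sign_square {a x d : Fin 3 → ℤ} (ha : ∀ i, a i = 1 ∨ a i = -1) (hx : ∀ i, 0 < x i)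
    (hd : ∀ i, 0 < d i) (h1 : a 0 * x 0 + a 1 * x 1 + a 2 * x 2 = -1)
    (h2 : a 0 * d 0 + a 1 * d 1 + a 2 * d 2 = 0)
    (h3 : a 0 * d 0 ^ 2 * (x 1 * x 2) + a 1 * d 1 ^ 2 * (x 0 * x 2) + a 2 * d 2 ^ 2 * (x 0 * x 1) = 0) :
    (univ.filter fun i => a i = -1).card = 2 ∧ IsSquare (x 0 * x 1 * x 2) := by
  have hone : ∀ X Y Z A B C : ℤ, 0 < X → 0 < Y → 0 < A → 0 < B → Z = X + Y + 1 → C = A + B →
      C ^ 2 * (X * Y) = A ^ 2 * (Y * Z) + B ^ 2 * (X * Z) → False := by
    intro X Y Z A B C hX hY hA hB hZ hC h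
    subst hZ hC
    nlinarith [sq_nonneg (A * Y - B * X), mul_pos (mul_pos hA hA) hY, mul_pos (mul_pos hB hB) hX]
  have htwo : ∀ X Y Z A B C : ℤ, 0 < A → X + 1 = Y + Z → A = B + C →
      A ^ 2 * (Y * Z) = B ^ 2 * (X * Z) + C ^ 2 * (X * Y) → IsSquare (X * Y * Z) := by
    intro X Y Z A B C hA hX hA' h
    have e1 : A ^ 2 * (X * Y * Z) = (X * (B * Z - C * Y)) ^ 2 := by
      obtain rfl : X = Y + Z - 1 := by omega
      subst hA'
      linear_combination ((Y + Z - 1) * (Y + Z)) * h
    obtain ⟨k, hk⟩ := (Int.pow_dvd_pow_iff two_ne_zero).mp ⟨_, e1.symm⟩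
    refine ⟨k, mul_left_cancel₀ (pow_ne_zero 2 hA.ne') ?_⟩
    rw [e1, hk]
    ring
  have hp0 := hx 0
  have hp1 := hx 1
  have hp2 := hx 2
  have hq0 := hd 0
  have hq1 := hd 1
  have hq2 := hd 2
  rcases ha 0 with e0 | e0 <;> rcases ha 1 with e1 | e1 <;> rcases ha 2 with e2 | e2 <;>
    simp only [e0, e1, e2, one_mul, neg_mul] at h1 h2 h3
  · omega
  · exact (hone (x 0) (x 1) (x 2) (d 0) (d 1) (d 2) hp0 hp1 hq0 hq1 (by omega) (by omega)
      (by linarith)).elim
  · exact (hone (x 0) (x 2) (x 1) (d 0) (d 2) (d 1) hp0 hp2 hq0 hq2 (by omega) (by omega)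
      (by linarith)).elim
  · refine ⟨by rw [Finset.card_filter, Fin.sum_univ_three, e0, e1, e2]; rfl, ?_⟩
    exact htwo (x 0) (x 1) (x 2) (d 0) (d 1) (d 2) hq0 (by omega) (by omega) (by linarith)
  · exact (hone (x 1) (x 2) (x 0) (d 1) (d 2) (d 0) hp1 hp2 hq1 hq2 (by omega) (by omega)
      (by linarith)).elim
  · refine ⟨by rw [Finset.card_filter, Fin.sum_univ_three, e0, e1, e2]; rfl, ?_⟩
    rw [show x 0 * x 1 * x 2 = x 1 * x 0 * x 2 by ring]
    exact htwo (x 1) (x 0) (x 2) (d 1) (d 0) (d 2) hq1 (by omega) (by omega) (by linarith)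
  · refine ⟨by rw [Finset.card_filter, Fin.sum_univ_three, e0, e1, e2]; rfl, ?_⟩
    rw [show x 0 * x 1 * x 2 = x 2 * x 0 * x 1 by ring]
    exact htwo (x 2) (x 0) (x 1) (d 2) (d 0) (d 1) hq2 (by omega) (by omega) (by linarith)
  · omega

/-- No solution for `p = 2`. -/
theorem no_solution_two {q A B δ X Y Z : ℤ} (hq : 16 ≤ q) (hA : A = 1 ∨ A = -1) (hB : B = 1 ∨ B = -1)
    (hδ : δ = 1 ∨ δ = -1) (hX : 1 < X) (hY : 1 < Y) (hZ : 0 < Z) (hAX : q ∣ X - A)
    (hBY : q ∣ Y - B) (hδZ : q ∣ Z - 3 * δ)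
    (h : X * Y * Z + A * (Y * Z) + B * (X * Z) - 9 * δ * (X * Y) = 0) : False := by
  have hX' : 15 ≤ X := by
    have := Int.le_of_dvd (by omega) hAX
    omega
  have hY' : 15 ≤ Y := by
    have := Int.le_of_dvd (by omega) hBY
    omega
  have hYZ := mul_pos (show 0 < Y by omega) hZ
  have hXZ := mul_pos (show 0 < X by omega) hZ
  have hXY := mul_pos (show 0 < X by omega) (show 0 < Y by omega)
  have h13 : 13 * (X * Y * Z) ≤ 15 * (9 * (X * Y)) := by
    have e1 : 15 * (Y * Z) ≤ X * Y * Z := by nlinarith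
    have e2 : 15 * (X * Z) ≤ X * Y * Z := by nlinarith
    rcases hA with rfl | rfl <;> rcases hB with rfl | rfl <;> rcases hδ with rfl | rfl <;> linarith
  have hZ10 : Z ≤ 10 := by
    by_contra hc
    have := mul_le_mul_of_nonneg_left (show 11 ≤ Z by omega) hXY.le
    linarith
  have hd : Z - 3 * δ = 0 := by
    refine Int.eq_zero_of_abs_lt_dvd hδZ ?_
    rw [abs_lt]
    omega
  rcases hδ with rfl | rfl
  · obtain rfl : Z = 3 := by omega
    rcases hA with rfl | rfl <;> rcases hB with rfl | rfl <;> nlinarith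
  · omega

variable {M : Ideal AlgInt}

/-- Exceptional part `d = 0`, three further members of multiplicity one. -/
theorem exists_data (hM : IsPModular p M) {P : Sylow p G} [Fintype (P : Subgroup G)] (h : Free P)
    (hCN : (Subgroup.centralizer ((P : Subgroup G) : Set G)).relIndex
      (Subgroup.normalizer ((P : Subgroup G) : Set G)) = 3) (hm2 : 3 + 1 < Nat.card P) :
    ∃ D : Data M P 3, D.d = 0 ∧ D.X.card = 3 ∧ ∀ χ ∈ D.X, D.c χ = 1 ∨ D.c χ = -1 := by
  classical
  have hrm := card_orb_mul h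
  rw [hCN] at hrm
  haveI : Nontrivial (Orb P) := Fintype.one_lt_card_iff_nontrivial.mp (by omega)
  have hP1 : Nat.card P ≠ 1 := by omega
  obtain ⟨D⟩ : Nonempty (Data M P 3) := by
    rw [← hCN]; exact AbelianShape.exists_data hM h
  -- once `d = 0` the rest follows
  suffices hD : ∃ D : Data M P 3, D.d = 0 by
    obtain ⟨D, hd⟩ := hD
    have hs := D.norm_split hM h
    rw [hd, mul_zero, mul_zero, mul_zero, add_zero, add_zero] at hs
    have hpos : ∀ χ ∈ D.X, 1 ≤ D.c χ * D.c χ := fun χ hχ =>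
      mul_self_pos.mpr (D.c_ne_zero hM h hP1 hχ)
    have hsmall : ∀ χ ∈ D.X, D.c χ = 1 ∨ D.c χ = -1 := fun χ hχ => by
      have h1 : D.c χ * D.c χ ≤ 3 := by
        have := Finset.single_le_sum (fun x hx => le_trans zero_le_one (hpos x hx)) hχ
        rw [hs] at this
        exact_mod_cast this
      have h0 := D.c_ne_zero hM h hP1 hχ
      have hl : -1 ≤ D.c χ := by nlinarith
      have hu : D.c χ ≤ 1 := by nlinarith
      omega
    refine ⟨D, hd, ?_, hsmall⟩
    rw [Finset.sum_congr rfl (g := fun _ => (1 : ℤ)) fun χ hχ => by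
      rcases hsmall χ hχ with e | e <;> rw [e] <;> rfl] at hs
    simp only [Finset.sum_const, nsmul_eq_mul, mul_one] at hs
    exact_mod_cast hs
  by_cases hd : D.d = 0
  · exact ⟨D, hd⟩
  have hs := D.norm_split hM h
  have hX1 : oneIrr G ∈ D.X := D.one_mem_X hM h
  have hle : (D.X.card : ℤ) ≤ ∑ χ ∈ D.X, D.c χ * D.c χ := by
    simpa using Finset.card_nsmul_le_sum D.X (fun χ => D.c χ * D.c χ) 1
      (fun χ hχ => mul_self_pos.mpr (D.c_ne_zero hM h hP1 hχ))
  have hX0 : 1 ≤ D.X.card := Finset.card_pos.mpr ⟨_, hX1⟩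
  set r := Fintype.card (Orb P) with hr
  have hr2 : 2 ≤ r := by omega
  -- the bound on `d`
  have hd1 : D.d = -D.ε := by
    have hr' : (2 : ℤ) ≤ r := by exact_mod_cast hr2
    have hm := mul_le_mul_of_nonneg_right hr' (mul_self_nonneg D.d)
    have hX0' : (1 : ℤ) ≤ (D.X.card : ℤ) := by exact_mod_cast hX0
    rw [Nat.cast_ofNat] at hs
    have hl : -1 ≤ D.d := by
      by_contra hc
      have := mul_nonneg (show 0 ≤ -D.d - 2 by omega) (show 0 ≤ -D.d - 1 by omega)
      rcases D.sign with e | e <;> rw [e] at hs <;> linarith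
    have hu : D.d ≤ 1 := by
      by_contra hc
      have := mul_nonneg (show 0 ≤ D.d - 2 by omega) (show 0 ≤ D.d - 1 by omega)
      rcases D.sign with e | e <;> rw [e] at hs <;> linarith
    rcases (show D.d = 1 ∨ D.d = -1 by omega) with e | e <;> rcases D.sign with e' | e' <;>
      rw [e, e'] at hs ⊢ <;> omega
  have hsq : D.ε * D.ε = 1 := by rcases D.sign with e | e <;> rw [e] <;> rfl
  rw [hd1, show (r : ℤ) * (-D.ε * -D.ε) + 2 * D.ε * -D.ε = r - 2 by
    linear_combination ((r : ℤ) - 2) * hsq] at hs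
  have hr234 : r = 2 ∨ r = 3 ∨ r = 4 := by omega
  rcases hr234 with hr2 | hr3 | hr4
  · -- exchange the two exceptional members
    obtain ⟨u, v, huv, huniv⟩ := Finset.card_eq_two.mp ((Finset.card_univ).trans hr2 :
      (univ : Finset (Orb P)).card = 2)
    have hall : ∀ o : Orb P, o = u ∨ o = v := fun o => by
      simpa [huniv] using Finset.mem_univ o
    set σ := Equiv.swap u v
    have hσ : ∀ i o : Orb P, (o = σ i) ↔ ¬ o = i := fun i o => by
      rcases hall i with rfl | rfl <;> rcases hall o with rfl | rfl <;>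
        simp [σ, huv, Ne.symm huv]
    refine ⟨⟨fun o => D.f (σ o), fun χ => if ∀ i, D.f i ≠ χ then D.c χ else 0, 0, -D.ε, ?_,
      D.inj.comp σ.injective, fun o => D.mem _, fun o => if_neg (by simp), fun i o => ?_,
      fun χ h1 h2 o => ?_, ?_, fun o => D.one_ne _⟩, rfl⟩
    · rcases D.sign with e | e <;> simp [e]
    · rw [D.vec_f, hd1, if_congr (hσ i o) rfl rfl]
      split_ifs <;> ring
    · rw [if_pos fun i hi => h2 (σ.symm i) (by rw [Equiv.apply_symm_apply]; exact hi)]
      exact D.vec_c χ h1 (fun i hi => h2 (σ.symm i) (by rw [Equiv.apply_symm_apply]; exact hi)) o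
    · have hsub : Finset.univ.image D.f ⊆ members M G := fun χ hχ => by
        obtain ⟨o, -, rfl⟩ := Finset.mem_image.mp hχ
        exact D.mem o
      rw [mul_zero, add_zero, ← Finset.sum_sdiff hsub, Finset.sum_eq_zero (s := univ.image D.f)
        (fun χ hχ => by
          obtain ⟨o, -, rfl⟩ := Finset.mem_image.mp hχ
          simp), add_zero]
      rw [hr2] at hs
      rw [Nat.cast_ofNat] at hs ⊢
      refine Eq.trans ?_ (by simpa using hs)
      refine Finset.sum_congr rfl fun χ hχ => ?_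
      rw [if_pos ((D.mem_X hM h).mp hχ).2]
  · -- the order would be `10`
    obtain ⟨k, hk⟩ := IsPGroup.iff_card.mp P.2
    have h10 : p ^ k = 10 := by rw [← hk]; omega
    have hp : p.Prime := Fact.out
    have h2 : 2 = p := (Nat.prime_dvd_prime_iff_eq Nat.prime_two hp).mp
      (Nat.prime_two.dvd_of_dvd_pow (h10 ▸ by norm_num : 2 ∣ p ^ k))
    have h5 : 5 = p := (Nat.prime_dvd_prime_iff_eq (by norm_num) hp).mp
      ((by norm_num : Nat.Prime 5).dvd_of_dvd_pow (h10 ▸ by norm_num : 5 ∣ p ^ k))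
    omega
  · -- only the principal character would be left
    have hX : D.X = {oneIrr G} := by
      refine (Finset.eq_of_subset_of_card_le (Finset.singleton_subset_iff.mpr hX1) ?_).symm
      rw [Finset.card_singleton]
      omega
    obtain ⟨o⟩ := (inferInstance : Nonempty (Orb P))
    have h1 := D.regular_relation hM h o (g := 1)
      (by rw [orderOf_one]; exact (Fact.out : p.Prime).not_dvd_one)
    obtain ⟨n, hn, hn1, -⟩ := exists_degree (D.f o)
    rw [hX, Finset.sum_singleton, D.c_one hM h, hn1, coe_oneIrr, hd1, ← hr, hr4] at h1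
    have h3 : (((4 * -D.ε + D.ε) * n + -1 : ℤ) : ℂ) = 0 := by
      push_cast at h1 ⊢
      linear_combination h1
    have h2 : (4 * -D.ε + D.ε) * (n : ℤ) + -1 = 0 := Int.cast_eq_zero.mp h3
    rcases D.sign with e | e <;> rw [e] at h2 <;> omega

variable {P : Sylow p G} (h : Free P)
include h

/-- Burnside fusion in `P`. -/
theorem exists_normalizer_conj {a b : G} (ha : a ∈ (P : Subgroup G)) (hb : b ∈ (P : Subgroup G))
    (hc : IsConj a b) : ∃ n : Subgroup.normalizer ((P : Subgroup G) : Set G),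
      (n : G) * a * (n : G)⁻¹ = b := by
  haveI := h.comm
  obtain ⟨g, hg⟩ := isConj_iff.mp hc
  obtain ⟨n, hn, hne⟩ := P.conj_eq_normalizer_conj_of_mem a g⁻¹ ha (by rw [inv_inv, hg]; exact hb)
  rw [inv_inv, hg] at hne
  exact ⟨⟨n⁻¹, inv_mem hn⟩, by rw [inv_inv]; exact hne.symm⟩

/-- An element of `P` conjugate to its inverse is an involution. -/
theorem sq_eq_one_of_isConj (hCN : (Subgroup.centralizer ((P : Subgroup G) : Set G)).relIndex
      (Subgroup.normalizer ((P : Subgroup G) : Set G)) = 3) {y : G} (hy : y ∈ (P : Subgroup G))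
    (hc : IsConj y y⁻¹) : y * y = 1 := by
  classical
  by_contra hne
  have hy1 : y ≠ 1 := fun h1 => hne (by rw [h1, one_mul])
  obtain ⟨⟨n, hn⟩, hny⟩ := exists_normalizer_conj h hy (inv_mem hy) hc
  simp only at hny
  have hn2 : n ^ 2 ∈ Subgroup.centralizer ((P : Subgroup G) : Set G) := by
    rw [← h.cent y hy hy1]
    refine ⟨Subgroup.mem_centralizer_singleton_iff.mpr (mul_inv_eq_iff_eq_mul.mp ?_), pow_mem hn 2⟩
    calc n ^ 2 * y * (n ^ 2)⁻¹ = n * (n * y * n⁻¹) * n⁻¹ := by simp only [pow_two]; group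
      _ = n * y⁻¹ * n⁻¹ := by rw [hny]
      _ = (n * y * n⁻¹)⁻¹ := by group
      _ = y := by rw [hny, inv_inv]
  have hn3 : n ^ 3 ∈ Subgroup.centralizer ((P : Subgroup G) : Set G) := by
    set Cn := (Subgroup.centralizer ((P : Subgroup G) : Set G)).subgroupOf
      (Subgroup.normalizer ((P : Subgroup G) : Set G)) with hCn
    haveI : Cn.Normal := Subgroup.normal_subgroupOf_of_le_normalizer fun g hg =>
      Subgroup.mem_normalizer_iff.mpr fun a => by
        simp only [Subgroup.mem_centralizer_iff]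
        constructor
        · intro ha b hb
          have hb' := (Subgroup.mem_normalizer_iff''.mp hg b).mp hb
          calc b * (g * a * g⁻¹) = g * ((g⁻¹ * b * g) * a) * g⁻¹ := by group
            _ = g * (a * (g⁻¹ * b * g)) * g⁻¹ := by rw [ha _ hb']
            _ = g * a * g⁻¹ * b := by group
        · intro ha b hb
          have hb' := (Subgroup.mem_normalizer_iff.mp hg b).mp hb
          calc b * a = g⁻¹ * ((g * b * g⁻¹) * (g * a * g⁻¹)) * g := by group
            _ = g⁻¹ * ((g * a * g⁻¹) * (g * b * g⁻¹)) * g := by rw [ha _ hb']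
            _ = a * b := by group
    have h3 := Subgroup.pow_index_mem Cn ⟨n, hn⟩
    rw [show Cn.index = 3 from hCN] at h3
    exact h3
  have hnC : n ∈ Subgroup.centralizer ((P : Subgroup G) : Set G) := by
    have := mul_mem hn3 (inv_mem hn2)
    rwa [pow_succ' n 2, mul_inv_cancel_right] at this
  rw [← Subgroup.mem_centralizer_iff.mp hnC y hy, mul_inv_cancel_right] at hny
  exact hne (mul_eq_one_iff_eq_inv.mpr hny)

/-- If no product of two conjugates of `t` lies over `y`, the principal part vanishes. -/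
theorem sum_sq_mul_eq_zero (hM : IsPModular p M) {t y : G} (hy : y ∈ (P : Subgroup G))
    (hno : ∀ t₁ t₂ : G, IsConj t t₁ → IsConj t t₂ → ¬ IsPPart p (t₁ * t₂)⁻¹ y) :
    ∑ χ ∈ members M G, (χ : G → ℂ) t ^ 2 / (χ : G → ℂ) 1 * (χ : G → ℂ) y = 0 := by
  classical
  have := isPrime hM
  obtain ⟨k, hk⟩ := IsPGroup.iff_orderOf.mp P.2 ⟨y, hy⟩
  rw [Subgroup.orderOf_mk] at hk
  set C := Subgroup.centralizer ({y} : Set G) with hC
  set F := conv (classInd t) (classInd t) with hF
  -- vanishing of the whole character sum on the section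
  have hvan : ∀ c : C, ¬ p ∣ orderOf c →
      ∑ χ : IrrCharacter G, (χ : G → ℂ) t ^ 2 / (χ : G → ℂ) 1 * (χ : G → ℂ) (y * c) = 0 := by
    intro c hc
    have hpart : IsPPart p (y * (c : G)) y := ⟨c, rfl,
      (Subgroup.mem_centralizer_singleton_iff.mp c.2).symm, ⟨k, hk⟩,
      by rwa [Subgroup.orderOf_coe]⟩
    have hzero : ∀ x, IsConj x (y * (c : G))⁻¹ → F x = 0 := by
      intro x hx
      obtain ⟨g, hg⟩ := isConj_iff.mp hx
      rw [hF, ← isClassFunction_conv (isClassFunction_classInd t) (isClassFunction_classInd t) x g, hg,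
        conv_apply]
      refine Finset.sum_eq_zero fun u _ => ?_
      by_cases h1 : IsConj t u
      · by_cases h2 : IsConj t (u⁻¹ * (y * (c : G))⁻¹)
        · refine absurd ?_ (hno _ _ h1 h2)
          rwa [mul_inv_cancel_left, inv_inv]
        · rw [classInd_apply_of_not_isConj h2, mul_zero]
      · rw [classInd_apply_of_not_isConj h1, zero_mul]
    have hω : ∀ χ : IrrCharacter G, ∑ x, F x * (χ : G → ℂ) x =
        ((Subgroup.centralizer ({t} : Set G)).index : ℂ) ^ 2 *
          ((χ : G → ℂ) t ^ 2 / (χ : G → ℂ) 1) := by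
      intro χ
      have h1 := omega_conv χ (isClassFunction_classInd t) (isClassFunction_classInd t)
      rw [omega_classInd (irr_class χ), centralChar, ← hF, omega_eq_sum] at h1
      have := irr_one_ne_zero χ
      field_simp at h1 ⊢
      linear_combination h1
    have hsum : ∑ χ : IrrCharacter G, (∑ x, F x * (χ : G → ℂ) x) * (χ : G → ℂ) (y * c) = 0 := by
      simp only [Finset.sum_mul, mul_assoc]
      rw [Finset.sum_comm]
      refine Finset.sum_eq_zero fun x _ => ?_
      have h2 := sum_irr_mul_inv x (y * (c : G))⁻¹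
      rw [inv_inv] at h2
      rw [← Finset.mul_sum, h2]
      split_ifs with hx
      · rw [hzero x hx, zero_mul]
      · rw [mul_zero]
    simp only [hω, mul_assoc, ← Finset.mul_sum] at hsum
    exact (mul_eq_zero.mp hsum).resolve_left
      (pow_ne_zero 2 (Nat.cast_ne_zero.mpr Subgroup.index_ne_zero_of_finite))
  -- project onto the principal block of the centralizer
  set e := blockCoeff (principalBlock M C) with he
  have hzero : ∑ c : C, e c *
      ∑ χ : IrrCharacter G, (χ : G → ℂ) t ^ 2 / (χ : G → ℂ) 1 * (χ : G → ℂ) (y * c) = 0 := by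
    refine Finset.sum_eq_zero fun c _ => ?_
    by_cases hc : p ∣ orderOf c
    · rw [he, blockCoeff_eq_zero_of_dvd_orderOf hM isPBlock_principal hc, zero_mul]
    · rw [hvan c hc, mul_zero]
  simp only [Finset.mul_sum] at hzero
  rw [Finset.sum_comm] at hzero
  rw [← hzero, ← Finset.sum_subset (Finset.subset_univ (members M G))]
  · refine Finset.sum_congr rfl fun χ hχ => ?_
    have h1 := principal_apply_section hM hk (mem_members.mp hχ) (1 : C)
      (by rw [orderOf_one]; exact (Fact.out : p.Prime).not_dvd_one)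
    rw [OneMemClass.coe_one, mul_one] at h1
    conv_lhs => rw [← h1, Finset.mul_sum]
    refine Finset.sum_congr rfl fun c _ => ?_
    rw [Subgroup.mem_centralizer_singleton_iff.mp c.2, ← he]
    ring
  · intro χ _ hχ
    have hnot : ¬ IsInducedBlock M C (principalBlock M C) (blockOf M (χ : G → ℂ)) := fun hi =>
      hχ (mem_members.mpr (eq_principal_of_inducing hM hi ▸ mem_blockOf_self χ))
    have h1 := sum_blockCoeff_section_eq_zero hM hk isPBlock_principal hnot (1 : C)
      (by rw [orderOf_one]; exact (Fact.out : p.Prime).not_dvd_one)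
    rw [OneMemClass.coe_one, mul_one] at h1
    calc _ = ((χ : G → ℂ) t ^ 2 / (χ : G → ℂ) 1) *
          ∑ c : C, e c * (χ : G → ℂ) ((c : G) * y) := by
          rw [Finset.mul_sum]
          exact Finset.sum_congr rfl fun c _ => by
            rw [Subgroup.mem_centralizer_singleton_iff.mp c.2]; ring
      _ = 0 := by rw [he, h1, mul_zero]

end Cfsg.Agent.BlocksCore.AbelianThree
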