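import Cfsg.Agent.Lib.BlocksCore.CyclicBlock
import Cfsg.Agent.Lib.BlocksDefect.ExtendedMain

/-!
# Averages twisted by a character of the centralizer

With `C(z) = ⟨z⟩ × K` and `θ` an irreducible character of `C(z)` trivial on `⟨z⟩`, the average
of `χ (z ^ k * w) * conj (θ w)` over `w ∈ K` gives integer vectors whose Gram matrix is
`1 + e`, where `e` is the index of `C(z)` in the stabilizer of `θ` in the normalizer.
-/

set_option linter.unusedSectionVars false

open scoped ComplexConjugate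

namespace Cfsg.Agent.BlocksCore.CyclicTwist

open BlocksDefect SmallGroups.SelfCent

section Abstract

variable {p : ℕ} [Fact p.Prime]

/-- The difference of the `r`-th and `0`-th Fourier coefficient. -/
noncomputable def vecOf (φ : ZMod p → ℂ) (r : ZMod p) : ℂ :=
  (p : ℂ)⁻¹ * ∑ k : ZMod p, φ k * ((ZMod.stdAddChar (-(r * k)) : ℂ) - 1)

/-- The Gram matrix of the differences. -/
theorem sum_vecOf_mul_conj {ι : Type*} [Fintype ι] (A : Subgroup (ZMod p)ˣ) (φ : ι → ZMod p → ℂ)
    [∀ j k : ZMod p, Decidable (∃ a ∈ A, k = j * (a : ZMod p))]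
    (orth : ∀ j k : ZMod p, j ≠ 0 → ∑ x, φ x j * conj (φ x k) =
      if ∃ a ∈ A, k = j * (a : ZMod p) then (p : ℂ) else 0)
    {r t : ZMod p} (hr : r ≠ 0) (ht : t ≠ 0) :
    ∑ x, vecOf (φ x) r * conj (vecOf (φ x) t) =
      (if ∃ a ∈ A, r = t * (a : ZMod p) then 1 else 0) + (Nat.card A : ℂ) := by
  classical
  have := Fintype.ofFinite A
  have hp0 : (p : ℂ) ≠ 0 := Nat.cast_ne_zero.mpr (Fact.out : p.Prime).ne_zero
  have hb : ∀ k : ZMod p,
      conj ((ZMod.stdAddChar (-(t * k)) : ℂ) - 1) = (ZMod.stdAddChar (t * k) : ℂ) - 1 := by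
    intro k
    rw [map_sub, map_one, conj_stdAddChar, neg_neg]
  have hrel : ∀ j : ZMod p, j ≠ 0 → ∀ F : ZMod p → ℂ,
      ∑ k, (if ∃ a ∈ A, k = j * (a : ZMod p) then F k else 0) =
        ∑ a : A, F (j * ((a : (ZMod p)ˣ) : ZMod p)) := by
    intro j hj F
    rw [← Finset.sum_filter]
    symm
    refine Finset.sum_nbij (fun a : A => j * ((a : (ZMod p)ˣ) : ZMod p)) (fun a _ => ?_)
      (fun a _ b _ h => ?_) (fun k hk => ?_) (fun a _ => rfl)
    · simp only [Finset.coe_filter, Finset.mem_univ, true_and, Finset.mem_filter]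
      exact ⟨a, a.2, rfl⟩
    · exact Subtype.ext (Units.ext (mul_left_cancel₀ hj h))
    · obtain ⟨a, ha, rfl⟩ := (Finset.mem_filter.mp hk).2
      exact ⟨⟨a, ha⟩, Finset.mem_univ _, rfl⟩
  calc ∑ x, vecOf (φ x) r * conj (vecOf (φ x) t)
      = ∑ x, (p : ℂ)⁻¹ * (p : ℂ)⁻¹ * ∑ j : ZMod p, ∑ k : ZMod p,
          ((ZMod.stdAddChar (-(r * j)) : ℂ) - 1) * ((ZMod.stdAddChar (t * k) : ℂ) - 1) *
            (φ x j * conj (φ x k)) := by
        refine Finset.sum_congr rfl fun x _ => ?_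
        rw [vecOf, vecOf, map_mul, map_inv₀, Complex.conj_natCast, map_sum,
          mul_mul_mul_comm, Finset.sum_mul_sum]
        congr 1
        refine Finset.sum_congr rfl fun j _ => Finset.sum_congr rfl fun k _ => ?_
        rw [map_mul, hb k]
        ring
    _ = (p : ℂ)⁻¹ * (p : ℂ)⁻¹ * ∑ j : ZMod p, ∑ k : ZMod p,
          ((ZMod.stdAddChar (-(r * j)) : ℂ) - 1) * ((ZMod.stdAddChar (t * k) : ℂ) - 1) *
            ∑ x, φ x j * conj (φ x k) := by
        rw [← Finset.mul_sum, Finset.sum_comm]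
        congr 1
        refine Finset.sum_congr rfl fun j _ => ?_
        rw [Finset.sum_comm]
        exact Finset.sum_congr rfl fun k _ => (Finset.mul_sum _ _ _).symm
    _ = (p : ℂ)⁻¹ * ∑ j : ZMod p, ∑ a : A,
          ((ZMod.stdAddChar (-(r * j)) : ℂ) - 1) *
            ((ZMod.stdAddChar (t * (j * ((a : (ZMod p)ˣ) : ZMod p))) : ℂ) - 1) := by
        rw [mul_assoc, Finset.mul_sum Finset.univ _ (p : ℂ)⁻¹]
        congr 1
        refine Finset.sum_congr rfl fun j _ => ?_
        by_cases hj : j = 0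
        · simp [hj]
        · rw [← hrel j hj (fun k => ((ZMod.stdAddChar (-(r * j)) : ℂ) - 1) *
            ((ZMod.stdAddChar (t * k) : ℂ) - 1)), Finset.mul_sum]
          refine Finset.sum_congr rfl fun k _ => ?_
          rw [orth j k hj]
          split_ifs <;> field_simp <;> ring
    _ = (p : ℂ)⁻¹ * ∑ a : A,
          (p : ℂ) * ((if r = t * ((a : (ZMod p)ˣ) : ZMod p) then 1 else 0) + 1) := by
        rw [Finset.sum_comm]
        congr 1
        refine Finset.sum_congr rfl fun a _ => ?_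
        set u : ZMod p := ((a : (ZMod p)ˣ) : ZMod p) with hu
        have hexp : ∀ j : ZMod p, ((ZMod.stdAddChar (-(r * j)) : ℂ) - 1) *
            ((ZMod.stdAddChar (t * (j * u)) : ℂ) - 1) =
            (ZMod.stdAddChar (j * (t * u - r)) : ℂ) - ZMod.stdAddChar (j * (-r)) -
              ZMod.stdAddChar (j * (t * u)) + 1 := by
          intro j
          rw [show j * (t * u - r) = -(r * j) + t * (j * u) by ring, AddChar.map_add_eq_mul,
            show j * (-r) = -(r * j) by ring, show j * (t * u) = t * (j * u) by ring]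
          ring
        rw [Finset.sum_congr rfl (fun j _ => hexp j), Finset.sum_add_distrib,
          Finset.sum_sub_distrib, Finset.sum_sub_distrib, sum_stdAddChar, sum_stdAddChar,
          sum_stdAddChar, if_neg (neg_ne_zero.mpr hr),
          if_neg (mul_ne_zero ht (a : (ZMod p)ˣ).ne_zero), Finset.sum_const, Finset.card_univ,
          ZMod.card, nsmul_eq_mul, mul_one]
        by_cases hrt : r = t * u
        · rw [if_pos (sub_eq_zero.mpr hrt.symm), if_pos hrt]; ring
        · rw [if_neg (fun h => hrt (sub_eq_zero.mp h).symm), if_neg hrt]; ring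
    _ = _ := by
        rw [← Finset.mul_sum, inv_mul_cancel_left₀ hp0, Finset.sum_add_distrib, Finset.sum_const,
          Finset.card_univ, ← Nat.card_eq_fintype_card, nsmul_eq_mul, mul_one]
        congr 1
        split_ifs with h
        · obtain ⟨a, ha, rfl⟩ := h
          rw [Finset.sum_eq_single (⟨a, ha⟩ : A), if_pos rfl]
          · intro b _ hb
            rw [if_neg]
            intro h
            exact hb (Subtype.ext (Units.ext (mul_left_cancel₀ ht h)).symm)
          · simp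
        · refine Finset.sum_eq_zero fun a _ => if_neg fun h' => h ⟨a, a.2, h'⟩

end Abstract

variable {G : Type*} [Group G] {p : ℕ} [Fact p.Prime]

/-- An irreducible character of the centralizer trivial on `⟨z⟩`, with its stabilizer. -/
structure Twist (s : Setup G p) where
  /-- the centralizer -/
  C : Subgroup G
  hC : C = Subgroup.centralizer ({s.z} : Set G)
  /-- the character -/
  θ : IrrCharacter C
  hθ : ∀ (k : ZMod p) (c c' : C), (c' : G) = s.zp k * (c : G) →
    (θ : C → ℂ) c' = (θ : C → ℂ) c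
  /-- the stabilizer of `θ` in the normalizer -/
  T : Subgroup G
  hT : ∀ g : G, g ∈ T ↔ (g ∈ Subgroup.normalizer ((Subgroup.zpowers s.z : Subgroup G) : Set G) ∧
    ∀ c c' : C, (c' : G) = g * c * g⁻¹ → (θ : C → ℂ) c' = (θ : C → ℂ) c)

variable [Fintype G] {s : Setup G p} (t : Twist s)

theorem exists_conj_eq {g : G}
    (hg : g ∈ Subgroup.normalizer ((Subgroup.zpowers s.z : Subgroup G) : Set G)) :
    ∃ a : (ZMod p)ˣ, g * s.z * g⁻¹ = s.zp (a : ZMod p) := by
  obtain ⟨n, hn⟩ := ((isOfFinOrder_of_finite s.z).mem_powers_iff_mem_zpowers).mpr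
    ((Subgroup.mem_normalizer_iff.mp hg s.z).mp (Subgroup.mem_zpowers s.z))
  have hn' : g * s.z * g⁻¹ = s.zp (n : ZMod p) := by rw [s.zp_natCast]; exact hn.symm
  have hn0 : (n : ZMod p) ≠ 0 := by
    intro h0
    rw [h0, s.zp_zero, conj_eq_one_iff] at hn'
    have := s.orderOf_z
    rw [hn', orderOf_one] at this
    exact (Fact.out : p.Prime).ne_one this.symm
  exact ⟨Units.mk0 _ hn0, hn'⟩

theorem mem_normalizer_of_conj {g : G} {a : (ZMod p)ˣ} (h : g * s.z * g⁻¹ = s.zp (a : ZMod p)) :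
    g ∈ Subgroup.normalizer ((Subgroup.zpowers s.z : Subgroup G) : Set G) := by
  have hN : ∀ {g : G}, g * s.z * g⁻¹ ∈ Subgroup.zpowers s.z →
      g ∈ Subgroup.normalizer ((Subgroup.zpowers s.z : Subgroup G) : Set G) := by
    intro g hg
    have key : (Subgroup.zpowers s.z).map (MulAut.conj g).toMonoidHom = Subgroup.zpowers s.z := by
      refine Subgroup.eq_of_le_of_card_ge ?_ ?_
      · rw [MonoidHom.map_zpowers, Subgroup.zpowers_le]
        exact hg
      · rw [Nat.card_congr ((Subgroup.zpowers s.z).equivMapOfInjective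
          (MulAut.conj g).toMonoidHom (MulAut.conj g).injective).toEquiv]
    rw [Subgroup.mem_normalizer_iff]
    intro x
    refine ⟨fun hx => key ▸ ⟨x, hx, rfl⟩, fun hx => ?_⟩
    rw [← key] at hx
    obtain ⟨y, hy, hyx⟩ := hx
    exact (MulAut.conj g).injective hyx ▸ hy
  exact hN (h ▸ pow_mem (Subgroup.mem_zpowers _) _)

theorem conj_zp_eq {g : G} {a : (ZMod p)ˣ} (h : g * s.z * g⁻¹ = s.zp (a : ZMod p)) (b : ZMod p) :
    g * s.zp b * g⁻¹ = s.zp ((a : ZMod p) * b) := by
  have h1 : g * s.zp (1 : ZMod p) * g⁻¹ = s.zp (a : ZMod p) := by rw [s.zp_one]; exact h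
  have := s.conj_zp_mul h1 b
  rwa [one_mul] at this

namespace Twist

theorem mem_iff_conj {g : G}
    (hg : g ∈ Subgroup.normalizer ((Subgroup.zpowers s.z : Subgroup G) : Set G)) (x : G) :
    x ∈ t.C ↔ g * x * g⁻¹ ∈ t.C := by
  rw [t.hC, ← BlocksCore.centralizer_zpowers]
  exact (conj_mem_centralizer_iff hg).symm

theorem C_le_normalizer :
    t.C ≤ Subgroup.normalizer ((Subgroup.zpowers s.z : Subgroup G) : Set G) := by
  rw [t.hC, ← BlocksCore.centralizer_zpowers]
  exact Subgroup.centralizer_le_normalizer _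

theorem T_le_normalizer :
    t.T ≤ Subgroup.normalizer ((Subgroup.zpowers s.z : Subgroup G) : Set G) :=
  fun _ hg => ((t.hT _).mp hg).1

theorem C_le_T : t.C ≤ t.T := fun g hg => (t.hT g).mpr
  ⟨t.C_le_normalizer hg, fun c c' h => by
    rw [← CharCore.irr_isClassFunction t.θ c ⟨g, hg⟩]
    exact congrArg _ (Subtype.ext h)⟩

theorem zp_mem (k : ZMod p) : s.zp k ∈ t.C := by
  rw [t.hC]
  exact Subgroup.mem_centralizer_singleton_iff.mpr
    (Commute.pow_left (Commute.refl s.z) k.val).eq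

theorem K_le : s.K ≤ t.C := fun w hw => by
  rw [t.hC]
  exact Subgroup.mem_centralizer_singleton_iff.mpr (s.comm w hw)

theorem exists_of_mem {x : G} (hx : x ∈ t.C) : ∃ k : ZMod p, ∃ w ∈ s.K, x = s.zp k * w :=
  s.exists_of_mem_cent (t.hC ▸ hx)

/-- Sums over the centralizer. -/
theorem sum_C [Fintype t.C] (F : G → ℂ) :
    ∑ c : t.C, F c = ∑ k : ZMod p, ∑ w ∈ s.kset, F (s.zp k * w) := by
  rw [← Finset.sum_product']
  symm
  refine Finset.sum_bij (fun x hx => (⟨s.zp x.1 * x.2, mul_mem (t.zp_mem x.1)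
    (t.K_le (s.mem_kset.mp (Finset.mem_product.mp hx).2))⟩ : t.C))
    (fun _ _ => Finset.mem_univ _) (fun x hx y hy h => ?_) (fun c _ => ?_) (fun _ _ => rfl)
  · have h' : s.zp x.1 * x.2 = s.zp y.1 * y.2 := congrArg Subtype.val h
    have e := s.embed_injective (a₁ := (Multiplicative.ofAdd x.1,
      (⟨x.2, s.mem_kset.mp (Finset.mem_product.mp hx).2⟩ : s.K)))
      (a₂ := (Multiplicative.ofAdd y.1, ⟨y.2, s.mem_kset.mp (Finset.mem_product.mp hy).2⟩)) h'
    have e1 := congrArg Prod.fst e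
    have e2 := congrArg Prod.snd e
    exact Prod.ext (congrArg Multiplicative.toAdd e1) (congrArg Subtype.val e2)
  · obtain ⟨k, w, hw, hc⟩ := t.exists_of_mem c.2
    exact ⟨(k, w), Finset.mem_product.mpr ⟨Finset.mem_univ _, s.mem_kset.mpr hw⟩,
      Subtype.ext hc.symm⟩

theorem natCard_C : Nat.card t.C = p * Nat.card s.K := by rw [t.hC, s.card_cent]

/-- The character on all of `G`, extended by zero. -/
noncomputable def th : G → ℂ := extFun (t.θ : t.C → ℂ)

theorem th_coe (c : t.C) : t.th c = (t.θ : t.C → ℂ) c := extFun_coe _ c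

theorem th_zp_mul (k : ZMod p) {w : G} (hw : w ∈ s.K) : t.th (s.zp k * w) = t.th w :=
  (t.th_coe ⟨_, mul_mem (t.zp_mem k) (t.K_le hw)⟩).trans
    ((t.hθ k ⟨w, t.K_le hw⟩ _ rfl).trans (t.th_coe _).symm)

theorem th_one : t.th 1 = (t.θ : t.C → ℂ) 1 := t.th_coe 1

/-- The character composed with a conjugation. -/
noncomputable def conjθ {g : G}
    (hg : g ∈ Subgroup.normalizer ((Subgroup.zpowers s.z : Subgroup G) : Set G)) :
    IrrCharacter t.C := twist (normConj g (t.mem_iff_conj hg)) t.θ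

theorem conjθ_apply {g : G}
    (hg : g ∈ Subgroup.normalizer ((Subgroup.zpowers s.z : Subgroup G) : Set G)) (c : t.C) :
    (t.conjθ hg : t.C → ℂ) c = t.th (g * c * g⁻¹) :=
  (t.th_coe ⟨g * c * g⁻¹, (t.mem_iff_conj hg _).mp c.2⟩).symm

theorem conjθ_eq_iff {g : G}
    (hg : g ∈ Subgroup.normalizer ((Subgroup.zpowers s.z : Subgroup G) : Set G)) :
    t.conjθ hg = t.θ ↔ g ∈ t.T := by
  rw [t.hT]
  refine ⟨fun h => ⟨hg, fun c c' hc => ?_⟩, fun h => Subtype.ext (funext fun c => ?_)⟩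
  · have := congrFun (congrArg Subtype.val h) c
    rw [t.conjθ_apply hg, ← hc, t.th_coe] at this
    exact this
  · rw [t.conjθ_apply hg, ← h.2 c ⟨g * c * g⁻¹, (t.mem_iff_conj hg _).mp c.2⟩ rfl, ← t.th_coe]

/-- First orthogonality on `K` for the conjugates of `θ`. -/
theorem sum_th_conj {g : G} {a : (ZMod p)ˣ} (h : g * s.z * g⁻¹ = s.zp (a : ZMod p))
    [Decidable (g ∈ t.T)] :
    ∑ w ∈ s.kset, conj (t.th w) * t.th (g * w * g⁻¹) =
      if g ∈ t.T then (Nat.card s.K : ℂ) else 0 := by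
  classical
  have := Fintype.ofFinite t.C
  have hg := mem_normalizer_of_conj h
  have h1 := CharCore.classInner_irr (t.conjθ hg) t.θ
  rw [CharCore.classInner_def] at h1
  have h2 : ∑ c : t.C, (t.conjθ hg : t.C → ℂ) c * conj ((t.θ : t.C → ℂ) c) =
      (p : ℂ) * ∑ w ∈ s.kset, conj (t.th w) * t.th (g * w * g⁻¹) := by
    rw [Finset.sum_congr rfl fun c _ => by rw [t.conjθ_apply hg, ← t.th_coe],
      t.sum_C (fun x => t.th (g * x * g⁻¹) * conj (t.th x)),
      Finset.sum_congr rfl (g := fun _ => ∑ w ∈ s.kset, conj (t.th w) * t.th (g * w * g⁻¹))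
        fun k _ => Finset.sum_congr rfl fun w hw => ?_,
      Finset.sum_const, Finset.card_univ, ZMod.card, nsmul_eq_mul]
    have hw' := s.mem_kset.mp hw
    have hgz : g * s.zp k * g⁻¹ = s.zp ((a : ZMod p) * k) := conj_zp_eq h k
    rw [show g * (s.zp k * w) * g⁻¹ = g * s.zp k * g⁻¹ * (g * w * g⁻¹) by group, hgz,
      t.th_zp_mul k hw', t.th_zp_mul _ (s.conj_mem_K one_ne_zero (conj_zp_eq h 1) hw'),
      mul_comm]
  rw [h2, t.natCard_C] at h1
  simp only [t.conjθ_eq_iff hg] at h1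
  have hp0 : (p : ℂ) ≠ 0 := Nat.cast_ne_zero.mpr (Fact.out : p.Prime).ne_zero
  have hK0 : (Nat.card s.K : ℂ) ≠ 0 := Nat.cast_ne_zero.mpr Nat.card_pos.ne'
  push_cast at h1
  generalize ∑ w ∈ s.kset, conj (t.th w) * t.th (g * w * g⁻¹) = S at h1 ⊢
  field_simp at h1
  rw [h1]
  split_ifs <;> simp

theorem sum_th_norm : ∑ w ∈ s.kset, conj (t.th w) * t.th w = (Nat.card s.K : ℂ) := by
  classical
  have h := t.sum_th_conj (g := 1) (a := 1) (by simp [s.zp_one])
  rw [if_pos (one_mem _)] at h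
  simpa using h

/-- The exponents by which the stabilizer acts. -/
def auto : Subgroup (ZMod p)ˣ where
  carrier := {a | ∃ g ∈ t.T, g * s.z * g⁻¹ = s.zp (a : ZMod p)}
  one_mem' := ⟨1, one_mem _, by simp [s.zp_one]⟩
  mul_mem' {a b} := by
    rintro ⟨g, hg, ha⟩ ⟨h, hh, hb⟩
    refine ⟨g * h, mul_mem hg hh, ?_⟩
    have := conj_zp_eq ha (b : ZMod p)
    rw [← hb, ← Units.val_mul] at this
    rw [← this]
    group
  inv_mem' {a} := by
    rintro ⟨g, hg, ha⟩
    refine ⟨g⁻¹, inv_mem hg, ?_⟩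
    have := conj_zp_eq ha ((a⁻¹ : (ZMod p)ˣ) : ZMod p)
    rw [← Units.val_mul, mul_inv_cancel, Units.val_one, s.zp_one] at this
    conv_lhs => rw [← this]
    group

theorem rel_iff {j : ZMod p} (hj : j ≠ 0) (k : ZMod p) :
    (∃ a ∈ t.auto, k = j * (a : ZMod p)) ↔ ∃ g ∈ t.T, g * s.zp j * g⁻¹ = s.zp k := by
  constructor
  · rintro ⟨a, ⟨g, hg, ha⟩, rfl⟩
    refine ⟨g, hg, ?_⟩
    rw [mul_comm]
    exact conj_zp_eq ha j
  · rintro ⟨g, hg, h⟩
    obtain ⟨a, ha⟩ := exists_conj_eq (t.T_le_normalizer hg)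
    refine ⟨a, ⟨g, hg, ha⟩, ?_⟩
    have := conj_zp_eq ha j
    rw [h] at this
    rw [mul_comm]
    exact s.zp_injective this

/-- The twisted average over `z ^ k * K`. -/
noncomputable def phi (f : G → ℂ) (k : ZMod p) : ℂ :=
  (s.kset.card : ℂ)⁻¹ * ∑ w ∈ s.kset, f (s.zp k * w) * conj (t.th w)

theorem sum_weighted {x : G} (T : Finset G) (F : G → ℂ) [DecidableEq G] :
    ∑ y ∈ T, F y * ∑ χ : IrrCharacter G, (χ : G → ℂ) x * conj ((χ : G → ℂ) y) =
      ∑ g ∈ Finset.univ.filter (fun g => g * x * g⁻¹ ∈ T), F (g * x * g⁻¹) := by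
  classical
  rw [← Finset.sum_fiberwise_of_maps_to (t := T) (g := fun g => g * x * g⁻¹)
    (fun g hg => (Finset.mem_filter.mp hg).2)]
  refine Finset.sum_congr rfl fun y hy => ?_
  conv_rhs => rw [Finset.sum_congr rfl (g := fun _ => F y) (fun g hg => congrArg F (Finset.mem_filter.mp hg).2)]
  rw [Finset.sum_const, nsmul_eq_mul, mul_comm (F y), CharCore.sum_apply_mul_conj]
  congr 1
  have h := sum_isConj_mul_card x {y}
  rw [Finset.sum_singleton] at h
  have hfil : Finset.univ.filter (fun g => g * x * g⁻¹ ∈ ({y} : Finset G)) =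
      (Finset.univ.filter fun g => g * x * g⁻¹ ∈ T).filter fun g => g * x * g⁻¹ = y := by
    ext g
    simp only [Finset.mem_filter, Finset.mem_univ, true_and, Finset.mem_singleton]
    exact ⟨fun h => ⟨h ▸ hy, h⟩, And.right⟩
  rw [← hfil, ← h]
  split_ifs <;> simp

/-- Column orthogonality for the twisted averages. -/
theorem sum_phi_mul_conj {j : ZMod p} (hj : j ≠ 0) (k : ZMod p)
    [Decidable (∃ a ∈ t.auto, k = j * (a : ZMod p))] :
    ∑ χ : IrrCharacter G, t.phi (χ : G → ℂ) j * conj (t.phi (χ : G → ℂ) k) =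
      if ∃ a ∈ t.auto, k = j * (a : ZMod p) then (p : ℂ) else 0 := by
  classical
  set c : ℂ := (s.kset.card : ℂ) with hc
  have hc0 : c ≠ 0 := s.card_kset_ne_zero
  set S := Finset.univ.filter fun g : G => g * s.zp j * g⁻¹ = s.zp k with hS
  have step : ∀ w ∈ s.kset, ∑ w' ∈ s.kset, ∑ χ : IrrCharacter G,
      (χ : G → ℂ) (s.zp j * w) * conj (t.th w) * conj ((χ : G → ℂ) (s.zp k * w') * conj (t.th w'))
        = ∑ g ∈ S, conj (t.th w) * t.th (g * w * g⁻¹) := by
    intro w hw
    have hw' := s.mem_kset.mp hw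
    have hset : (Finset.univ.filter fun g => g * (s.zp j * w) * g⁻¹ ∈ s.coset k) = S := by
      ext g
      simp only [hS, Finset.mem_filter, Finset.mem_univ, true_and, Setup.coset, Finset.mem_image,
        s.mem_kset]
      constructor
      · rintro ⟨w', hw'', h⟩
        exact s.conj_zp_of_conj hw' hw'' h.symm
      · intro h
        refine ⟨g * w * g⁻¹, s.conj_mem_K hj h hw', ?_⟩
        rw [← h]; group
    have h1 := sum_weighted (x := s.zp j * w) (s.coset k)
      (fun y => conj (t.th w) * t.th ((s.zp k)⁻¹ * y))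
    rw [Setup.coset, Finset.sum_image (fun a _ b _ hab => mul_left_cancel hab), ← Setup.coset,
      hset] at h1
    refine Eq.trans ?_ (h1.trans (Finset.sum_congr rfl fun g hg => ?_))
    · refine Finset.sum_congr rfl fun w' _ => ?_
      rw [inv_mul_cancel_left, Finset.mul_sum]
      refine Finset.sum_congr rfl fun χ _ => ?_
      rw [map_mul, Complex.conj_conj]
      ring
    · rw [← (Finset.mem_filter.mp hg).2]
      congr 2
      group
  have key : ∑ χ : IrrCharacter G, t.phi (χ : G → ℂ) j * conj (t.phi (χ : G → ℂ) k) =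
      c⁻¹ * c⁻¹ * ∑ g ∈ S, ∑ w ∈ s.kset, conj (t.th w) * t.th (g * w * g⁻¹) := by
    rw [Finset.sum_comm (s := S), ← Finset.sum_congr rfl step]
    rw [Finset.sum_congr rfl fun w _ => Finset.sum_comm, Finset.sum_comm, Finset.mul_sum]
    refine Finset.sum_congr rfl fun χ _ => ?_
    simp only [phi, map_mul, map_inv₀, map_sum, Complex.conj_natCast, hc, Finset.mul_sum,
      Finset.sum_mul]
    rw [Finset.sum_comm]
    refine Finset.sum_congr rfl fun w _ => Finset.sum_congr rfl fun w' _ => ?_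
    ring
  have hval : ∀ g ∈ S, ∑ w ∈ s.kset, conj (t.th w) * t.th (g * w * g⁻¹) =
      if g ∈ t.T then c else 0 := by
    intro g hg
    have h := (Finset.mem_filter.mp hg).2
    have hk : k ≠ 0 := by
      rintro rfl
      rw [s.zp_zero, conj_eq_one_iff, s.zp_eq_one_iff] at h
      exact hj h
    have h2 := s.conj_zp_mul h j⁻¹
    rw [mul_inv_cancel₀ hj, s.zp_one] at h2
    rw [t.sum_th_conj (a := Units.mk0 (k * j⁻¹) (mul_ne_zero hk (inv_ne_zero hj))) h2, hc,
      s.card_kset]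
  rw [key, Finset.sum_congr rfl hval, ← Finset.sum_filter, Finset.sum_const, nsmul_eq_mul]
  by_cases hrel : ∃ a ∈ t.auto, k = j * (a : ZMod p)
  · rw [if_pos hrel]
    obtain ⟨g₀, hg₀T, hg₀⟩ := (t.rel_iff hj k).mp hrel
    have hcard : (S.filter (· ∈ t.T)).card = p * Nat.card s.K := by
      rw [← t.natCard_C, ← Nat.card_eq_finsetCard]
      refine Nat.card_congr
        { toFun := fun g => ⟨g₀⁻¹ * g.1, ?_⟩
          invFun := fun u => ⟨g₀ * u.1, ?_⟩
          left_inv := fun g => by ext; simp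
          right_inv := fun u => by ext; simp }
      · have hg : g.1 * s.zp j * g.1⁻¹ = g₀ * s.zp j * g₀⁻¹ :=
          (Finset.mem_filter.mp (Finset.mem_filter.mp g.2).1).2.trans hg₀.symm
        rw [t.hC, ← s.centralizer_zp hj, Subgroup.mem_centralizer_singleton_iff]
        calc g₀⁻¹ * g.1 * s.zp j = g₀⁻¹ * (g.1 * s.zp j * g.1⁻¹) * g.1 := by group
          _ = g₀⁻¹ * (g₀ * s.zp j * g₀⁻¹) * g.1 := by rw [hg]
          _ = s.zp j * (g₀⁻¹ * g.1) := by group
      · have hu : u.1 * s.zp j = s.zp j * u.1 := by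
          have := u.2
          simp only [t.hC, ← s.centralizer_zp hj, Subgroup.mem_centralizer_singleton_iff] at this
          exact this
        simp only [hS, Finset.mem_filter, Finset.mem_univ, true_and]
        refine ⟨?_, mul_mem hg₀T (t.C_le_T u.2)⟩
        rw [← hg₀]
        calc g₀ * u.1 * s.zp j * (g₀ * u.1)⁻¹ = g₀ * (u.1 * s.zp j) * u.1⁻¹ * g₀⁻¹ := by group
          _ = g₀ * (s.zp j * u.1) * u.1⁻¹ * g₀⁻¹ := by rw [hu]
          _ = _ := by group
    rw [hcard, hc, s.card_kset]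
    have hK0 : (Nat.card s.K : ℂ) ≠ 0 := Nat.cast_ne_zero.mpr Nat.card_pos.ne'
    push_cast
    field_simp
  · rw [if_neg hrel, Finset.filter_eq_empty_iff.mpr fun g hg hgT => hrel ((t.rel_iff hj k).mpr
      ⟨g, hgT, (Finset.mem_filter.mp hg).2⟩)]
    simp

/-- The twisted averages of class functions are invariant under `auto`. -/
theorem phi_mul_auto {f : G → ℂ} (hf : IsClassFunction G f) {a : (ZMod p)ˣ} (ha : a ∈ t.auto)
    (k : ZMod p) : t.phi f (k * a) = t.phi f k := by
  by_cases hk : k = 0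
  · simp [hk]
  obtain ⟨g, hgT, hg⟩ := (t.rel_iff hk _).mp ⟨a, ha, rfl⟩
  have hka : k * (a : ZMod p) ≠ 0 := mul_ne_zero hk a.ne_zero
  have hg' : g⁻¹ * s.zp (k * a) * g⁻¹⁻¹ = s.zp k := by rw [← hg]; group
  unfold phi
  congr 1
  symm
  refine Finset.sum_nbij (fun w => g * w * g⁻¹) (fun w hw => ?_) (fun a _ b _ h => by simpa using h)
    (fun w hw => ⟨g⁻¹ * w * g, ?_, by group⟩) (fun w hw => ?_)
  · exact s.mem_kset.mpr (s.conj_mem_K hk hg (s.mem_kset.mp hw))
  · have h1 := s.conj_mem_K hka hg' (s.mem_kset.mp hw)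
    rw [inv_inv] at h1
    exact s.mem_kset.mpr h1
  · have hwC := t.K_le (s.mem_kset.mp hw)
    have e : t.th (g * w * g⁻¹) = t.th w :=
      (t.th_coe ⟨_, (t.mem_iff_conj (t.T_le_normalizer hgT) w).mp hwC⟩).trans
        ((((t.hT g).mp hgT).2 ⟨w, hwC⟩ _ rfl).trans (t.th_coe _).symm)
    rw [← hg, ← hf (s.zp k * w) g, e]
    congr 2
    group

/-- The multiplicity of `ψ_r ⊗ θ`. -/
noncomputable def mult (f : G → ℂ) (r : ZMod p) : ℂ :=
  (p : ℂ)⁻¹ * ∑ k : ZMod p, t.phi f k * ZMod.stdAddChar (-(r * k))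

theorem mult_eq_natCast {f : G → ℂ} (hf : IsCharacter G f) (r : ZMod p) :
    ∃ n : ℕ, t.mult f r = n := by
  classical
  let ι : Multiplicative (ZMod p) × s.K →* t.C := s.embed.codRestrict t.C fun x =>
    mul_mem (t.zp_mem _) (t.K_le x.2.2)
  obtain ⟨n, hn⟩ := CharCore.IsCharacter.exists_classInner_eq_natCast
    (CharCore.isCharacter_comp hf s.embed)
    (CharCore.isCharacter_mul
      (CharCore.IsIrrCharacter.isCharacter (CharCore.isIrrCharacter_hom (s.linHom r)))
      (CharCore.isCharacter_comp (CharCore.irr_isCharacter t.θ) ι))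
  refine ⟨n, hn ▸ ?_⟩
  rw [Cfsg.classInner, Nat.card_prod, Nat.card_congr Multiplicative.toAdd, Nat.card_zmod,
    Fintype.sum_prod_type, Nat.cast_mul, mult]
  rw [← Fintype.sum_equiv Multiplicative.ofAdd
    (fun k : ZMod p => ∑ w : s.K, (f ∘ s.embed) (Multiplicative.ofAdd k, w) *
      conj (((fun x => (s.linHom r x : ℂ)) * ((t.θ : t.C → ℂ) ∘ ι))
        (Multiplicative.ofAdd k, w))) _ (fun k => rfl)]
  rw [Finset.mul_sum, Finset.mul_sum]
  refine Finset.sum_congr rfl fun k _ => ?_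
  have hsum : ∑ w ∈ s.kset, f (s.zp k * w) * conj (t.th w) =
      ∑ w : s.K, f (s.zp k * w) * conj (t.th w) :=
    Finset.sum_subtype s.kset (fun w => s.mem_kset) _
  rw [phi, hsum, s.card_kset, mul_inv, Finset.mul_sum, Finset.sum_mul, Finset.mul_sum,
    Finset.mul_sum]
  refine Finset.sum_congr rfl fun w _ => ?_
  have hl : (s.linHom r (Multiplicative.ofAdd k, w) : ℂ) = ZMod.stdAddChar (r * k) := by
    simp [Setup.linHom, AddChar.mulShift_apply]
  have hθ : ((t.θ : t.C → ℂ) ∘ ι) (Multiplicative.ofAdd k, w) = t.th w :=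
    ((t.th_coe (ι (Multiplicative.ofAdd k, w))).symm.trans (t.th_zp_mul k w.2))
  rw [Function.comp_apply, Pi.mul_apply, hθ, hl, map_mul, conj_stdAddChar]
  change _ = _ * (f (s.zp k * (w : G)) * _)
  ring

/-- `mult r - mult 0`. -/
noncomputable def vecC (f : G → ℂ) (r : ZMod p) : ℂ := vecOf (t.phi f) r

theorem vecC_eq_sub (f : G → ℂ) (r : ZMod p) : t.vecC f r = t.mult f r - t.mult f 0 := by
  rw [vecC, vecOf, mult, mult, ← mul_sub, ← Finset.sum_sub_distrib]
  congr 1
  exact Finset.sum_congr rfl fun k _ => by simp [mul_sub]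

theorem exists_vecC_eq_intCast {f : G → ℂ} (hf : IsCharacter G f) (r : ZMod p) :
    ∃ n : ℤ, t.vecC f r = n := by
  obtain ⟨a, ha⟩ := t.mult_eq_natCast hf r
  obtain ⟨b, hb⟩ := t.mult_eq_natCast hf 0
  exact ⟨(a : ℤ) - b, by rw [vecC_eq_sub, ha, hb]; push_cast; ring⟩

/-- The integer vector. -/
noncomputable def vec (χ : IrrCharacter G) (r : ZMod p) : ℤ :=
  (t.exists_vecC_eq_intCast (CharCore.irr_isCharacter χ) r).choose

theorem vec_spec (χ : IrrCharacter G) (r : ZMod p) :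
    (t.vec χ r : ℂ) = t.vecC (χ : G → ℂ) r :=
  (t.exists_vecC_eq_intCast (CharCore.irr_isCharacter χ) r).choose_spec.symm

theorem vec_mul_auto (χ : IrrCharacter G) {a : (ZMod p)ˣ} (ha : a ∈ t.auto) (r : ZMod p) :
    t.vec χ (r * a) = t.vec χ r := by
  apply Int.cast_injective (α := ℂ)
  rw [vec_spec, vec_spec, vecC, vecC, vecOf, vecOf]
  congr 1
  refine Fintype.sum_equiv (Units.mulRight a) _ _ fun k => ?_
  rw [Units.mulRight_apply, t.phi_mul_auto (CharCore.irr_isClassFunction χ) ha]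
  congr 3
  ring

theorem vec_eq_zero {χ : IrrCharacter G} (h : ∀ k : ZMod p, k ≠ 0 → t.phi (χ : G → ℂ) k = 0)
    (r : ZMod p) : t.vec χ r = 0 := by
  apply Int.cast_injective (α := ℂ)
  rw [vec_spec, vecC, vecOf, Int.cast_zero, Finset.sum_eq_zero, mul_zero]
  intro k _
  by_cases hk : k = 0
  · simp [hk]
  · rw [h k hk, zero_mul]

/-- The vectors are orthogonal to the values at elements meeting no coset `z ^ k * K`. -/
theorem sum_vec_mul_apply {g : G}
    (hg : ∀ k : ZMod p, k ≠ 0 → ∀ w ∈ s.K, ¬ IsConj g (s.zp k * w)) (r : ZMod p) :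
    ∑ χ : IrrCharacter G, (χ : G → ℂ) g * (t.vec χ r : ℂ) = 0 := by
  classical
  have hconj : ∀ χ : IrrCharacter G, (t.vec χ r : ℂ) = conj (t.vecC (χ : G → ℂ) r) := by
    intro χ; rw [← vec_spec, map_intCast]
  simp only [hconj, vecC, vecOf, phi, map_mul, map_inv₀, Complex.conj_natCast, map_sum, map_sub,
    map_one, conj_stdAddChar, neg_neg, Complex.conj_conj, Finset.mul_sum, Finset.sum_mul]
  rw [Finset.sum_comm]
  refine Finset.sum_eq_zero fun k _ => ?_
  rw [Finset.sum_comm]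
  refine Finset.sum_eq_zero fun w hw => ?_
  by_cases hk : k = 0
  · simp [hk]
  have h0 : ∑ χ : IrrCharacter G, (χ : G → ℂ) g * conj ((χ : G → ℂ) (s.zp k * w)) = 0 := by
    rw [CharCore.sum_apply_mul_conj, if_neg (hg k hk w (s.mem_kset.mp hw))]
  calc _ = (∑ χ : IrrCharacter G, (χ : G → ℂ) g * conj ((χ : G → ℂ) (s.zp k * w))) *
        ((p : ℂ)⁻¹ * (s.kset.card : ℂ)⁻¹ * t.th w * ((ZMod.stdAddChar (r * k) : ℂ) - 1)) := by
        rw [Finset.sum_mul]
        exact Finset.sum_congr rfl fun χ _ => by ring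
    _ = 0 := by rw [h0, zero_mul]

theorem sum_vec_mul_regular {g : G} (hg : ¬ p ∣ orderOf g) (r : ZMod p) :
    ∑ χ : IrrCharacter G, (χ : G → ℂ) g * (t.vec χ r : ℂ) = 0 := by
  have hp : p.Prime := Fact.out
  refine t.sum_vec_mul_apply (fun j hj v hv hc => ?_) r
  obtain ⟨d, hd⟩ := isConj_iff.mp hc
  have hreg : ¬ p ∣ orderOf (v * s.zp j) := by
    rw [← (s.comm_zp j hv).eq, ← hd, ← MulAut.conj_apply, MulEquiv.orderOf_eq]
    exact hg
  refine hj ((s.zp_eq_one_iff j).mp (eq_one_of_mul_pRegular hp (k := 1)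
    (by rw [pow_one]; exact CyclicBlock.orderOf_zp s hj) (s.comm_zp j hv).symm ?_ hreg))
  exact fun hdv => s.not_dvd (hdv.trans (Subgroup.orderOf_dvd_natCard _ hv))

/-- The orbits of nontrivial linear characters. -/
abbrev Orb : Type := (ZMod p)ˣ ⧸ t.auto

/-- The vector indexed by orbits. -/
noncomputable def vecO (χ : IrrCharacter G) (o : t.Orb) : ℤ :=
  t.vec χ ((Quotient.out o : (ZMod p)ˣ) : ZMod p)

theorem vec_eq_vecO (χ : IrrCharacter G) (r : (ZMod p)ˣ) :
    t.vec χ (r : ZMod p) = t.vecO χ (r : t.Orb) := by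
  obtain ⟨⟨a, ha⟩, h⟩ := QuotientGroup.mk_out_eq_mul t.auto r
  rw [vecO, show (Quotient.out (r : t.Orb)) = r * a from h, Units.val_mul, t.vec_mul_auto χ ha]

theorem gram_orb [DecidableEq t.Orb] (i j : t.Orb) :
    ∑ χ : IrrCharacter G, t.vecO χ i * t.vecO χ j =
      (if i = j then 1 else 0) + (Nat.card t.auto : ℤ) := by
  classical
  apply Int.cast_injective (α := ℂ)
  simp only [vecO]
  push_cast
  have hconj : ∀ (χ : IrrCharacter G) (r : ZMod p),
      (t.vec χ r : ℂ) = conj (vecOf (t.phi (χ : G → ℂ)) r) := by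
    intro χ r; rw [← vecC, ← vec_spec, map_intCast]
  rw [Finset.sum_congr rfl fun χ _ => by
    rw [hconj χ ((Quotient.out j : (ZMod p)ˣ) : ZMod p), vec_spec, vecC],
    sum_vecOf_mul_conj t.auto (fun χ : IrrCharacter G => t.phi (χ : G → ℂ))
      (fun a b ha => t.sum_phi_mul_conj ha b) (Units.ne_zero _) (Units.ne_zero _)]
  congr 1
  refine if_congr ?_ rfl rfl
  constructor
  · rintro ⟨a, ha, h⟩
    rw [← Units.val_mul] at h
    have h1 : (((Quotient.out i : (ZMod p)ˣ)) : t.Orb) = ((Quotient.out j : (ZMod p)ˣ) : t.Orb) := by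
      rw [QuotientGroup.eq, Units.ext h]
      simpa using ha
    simpa using h1
  · rintro rfl
    exact ⟨1, one_mem _, by simp⟩

theorem card_orb_mul : Nat.card t.Orb * Nat.card t.auto = p - 1 := by
  rw [← ZMod.card_units p, ← Nat.card_eq_fintype_card]
  exact (t.auto.card_eq_card_quotient_mul_card_subgroup).symm

theorem sum_deg_mul_vecO (o : t.Orb) :
    ∑ χ : IrrCharacter G, (Setup.deg χ : ℤ) * t.vecO χ o = 0 := by
  apply Int.cast_injective (α := ℂ)
  push_cast
  rw [← t.sum_vec_mul_regular (g := 1)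
    (by rw [orderOf_one]; exact (Fact.out : p.Prime).not_dvd_one)
    ((Quotient.out o : (ZMod p)ˣ) : ZMod p)]
  exact Finset.sum_congr rfl fun χ _ => by rw [vecO, (Setup.deg_spec χ).2.2]

theorem phi_eq_sum_vec (χ : IrrCharacter G) {k : ZMod p} (hk : k ≠ 0) :
    t.phi (χ : G → ℂ) k =
      ∑ r ∈ Finset.univ.erase (0 : ZMod p), (t.vec χ r : ℂ) * ZMod.stdAddChar (r * k) := by
  classical
  have hp0 : (p : ℂ) ≠ 0 := Nat.cast_ne_zero.mpr (Fact.out : p.Prime).ne_zero
  have hinv : t.phi (χ : G → ℂ) k = ∑ r : ZMod p, t.mult (χ : G → ℂ) r * ZMod.stdAddChar (r * k) := by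
    simp only [mult, mul_assoc, Finset.sum_mul]
    rw [← Finset.mul_sum, Finset.sum_comm]
    have h1 : ∀ j : ZMod p, ∑ r : ZMod p, t.phi (χ : G → ℂ) j *
        ((ZMod.stdAddChar (-(r * j)) : ℂ) * ZMod.stdAddChar (r * k)) =
        if j = k then t.phi (χ : G → ℂ) j * p else 0 := by
      intro j
      rw [← Finset.mul_sum,
        Finset.sum_congr rfl (g := fun r => (ZMod.stdAddChar (r * (k - j)) : ℂ)) (fun r _ => by
          rw [← AddChar.map_add_eq_mul]; congr 1; ring),
        sum_stdAddChar, mul_ite, mul_zero]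
      refine if_congr (by rw [sub_eq_zero, eq_comm]) rfl rfl
    rw [Finset.sum_congr rfl (fun j _ => h1 j), Finset.sum_ite_eq' Finset.univ k,
      if_pos (Finset.mem_univ k)]
    field_simp
  have hsplit : t.phi (χ : G → ℂ) k =
      ∑ r : ZMod p, (t.vec χ r : ℂ) * ZMod.stdAddChar (r * k) := by
    rw [hinv]
    simp only [vec_spec, vecC_eq_sub, sub_mul, Finset.sum_sub_distrib, ← Finset.mul_sum,
      sum_stdAddChar, if_neg hk, mul_zero, sub_zero]
  rw [hsplit, ← Finset.add_sum_erase _ _ (Finset.mem_univ (0 : ZMod p)), vec_spec, vecC_eq_sub,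
    sub_self, zero_mul, zero_add]

theorem phi_of_const (χ : IrrCharacter G) (u : ℤ) (hu : ∀ o, t.vecO χ o = u)
    {k : ZMod p} (hk : k ≠ 0) : t.phi (χ : G → ℂ) k = -(u : ℂ) := by
  rw [t.phi_eq_sum_vec χ hk,
    Finset.sum_congr rfl (g := fun r => (u : ℂ) * ZMod.stdAddChar (r * k)) (fun r hr => by
      have := t.vec_eq_vecO χ (Units.mk0 r (Finset.ne_of_mem_erase hr))
      rw [Units.val_mk0] at this
      rw [this, hu]),
    ← Finset.mul_sum, stdAddChar_sum_erase hk, mul_neg, mul_one]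

/-- The averages modulo `p`. -/
theorem phi_sub_memLocalIdeal {M : Ideal AlgInt} (hM : IsPModular p M) [Fintype t.Orb]
    (χ : IrrCharacter G) {k : ZMod p} (hk : k ≠ 0) :
    MemLocalIdeal M
      (t.phi (χ : G → ℂ) k - ((Nat.card t.auto : ℤ) * ∑ o, t.vecO χ o : ℤ)) := by
  classical
  have := isPrime hM
  have := Fintype.ofFinite t.auto
  have hsum : ∑ r ∈ Finset.univ.erase (0 : ZMod p), t.vec χ r =
      (Nat.card t.auto : ℤ) * ∑ o, t.vecO χ o := by
    rw [← nsmul_eq_mul]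
    have h : ∑ r : (ZMod p)ˣ, t.vecO χ (r : t.Orb) = Nat.card t.auto • ∑ o, t.vecO χ o := by
      rw [← Fintype.sum_equiv (Subgroup.groupEquivQuotientProdSubgroup (s := t.auto)).symm
        (fun x => t.vecO χ x.1) (fun r => t.vecO χ (r : t.Orb)) fun x => ?_]
      · rw [Fintype.sum_prod_type]
        simp only [Finset.sum_const, Finset.card_univ, ← Nat.card_eq_fintype_card]
        rw [← Finset.smul_sum]
      · obtain ⟨r, hr⟩ := (Subgroup.groupEquivQuotientProdSubgroup (s := t.auto)).surjective x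
        rw [← hr, Equiv.symm_apply_apply]
        rfl
    rw [← h]
    symm
    refine Finset.sum_nbij (fun r : (ZMod p)ˣ => (r : ZMod p))
      (fun r _ => Finset.mem_erase.mpr ⟨r.ne_zero, Finset.mem_univ _⟩)
      (fun _ _ _ _ h => Units.ext h) (fun r hr => ?_) (fun r _ => (t.vec_eq_vecO χ r).symm)
    exact ⟨Units.mk0 r (Finset.ne_of_mem_erase hr), Finset.mem_univ _, rfl⟩
  rw [← hsum, t.phi_eq_sum_vec χ hk, Int.cast_sum, ← Finset.sum_sub_distrib]
  refine memLocalIdeal_sum fun r _ => ?_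
  rw [← mul_sub_one]
  refine memLocalIdeal_mul_left (memLocalRing_intCast _)
    (memLocalIdeal_sub_one_of_pow hM (k := 1) ?_)
  rw [pow_one, ← AddChar.map_nsmul_eq_pow, nsmul_eq_mul, ZMod.natCast_self, zero_mul,
    AddChar.map_zero_eq_one]

theorem relIndex_eq : t.C.relIndex t.T = Nat.card t.auto := by
  classical
  choose a ha using fun g : t.T => exists_conj_eq (t.T_le_normalizer g.2)
  have hu : ∀ (g : t.T) (b : (ZMod p)ˣ), (g : G) * s.z * (g : G)⁻¹ = s.zp (b : ZMod p) → a g = b :=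
    fun g b h => Units.ext (s.zp_injective ((ha g).symm.trans h))
  let ν : t.T →* (ZMod p)ˣ := MonoidHom.mk' a fun x y => hu _ _ (by
    have := conj_zp_eq (ha x) (a y : ZMod p)
    rw [← ha y] at this
    rw [Units.val_mul, ← this, Subgroup.coe_mul]
    group)
  have hker : ν.ker = t.C.subgroupOf t.T := by
    ext g
    rw [MonoidHom.mem_ker, Subgroup.mem_subgroupOf, t.hC, Subgroup.mem_centralizer_singleton_iff]
    constructor
    · intro h
      have h' := ha g
      rw [show a g = 1 from h, Units.val_one, s.zp_one, mul_inv_eq_iff_eq_mul] at h'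
      exact h'
    · intro h
      exact hu g 1 (by rw [Units.val_one, s.zp_one, h, mul_inv_cancel_right])
  have hrange : ν.range = t.auto := by
    ext b
    constructor
    · rintro ⟨g, rfl⟩
      exact ⟨g, g.2, ha g⟩
    · rintro ⟨g, hg, hb⟩
      exact ⟨⟨g, hg⟩, hu ⟨g, hg⟩ b hb⟩
  rw [Subgroup.relIndex, ← hker, Subgroup.index_ker, hrange]

end Twist

end Cfsg.Agent.BlocksCore.CyclicTwist
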