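import Cfsg.Agent.Lib.BlocksCore.CyclicTwist

/-!
# The block of a twisting character and the block it induces
-/

set_option linter.unusedSectionVars false

open scoped ComplexConjugate

namespace Cfsg.Agent.BlocksCore.CyclicTwist

open BlocksDefect SmallGroups.SelfCent

variable {G : Type*} [Group G] [Fintype G] {p : ℕ} [Fact p.Prime] {M : Ideal AlgInt}

theorem induced_unique (hM : IsPModular p M) {H : Subgroup G} {b : Set (IrrCharacter H)}
    {B B' : Set (IrrCharacter G)} (h1 : IsInducedBlock M H b B) (h2 : IsInducedBlock M H b B') :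
    B = B' := by
  have := isPrime hM
  obtain ⟨ξ, hξ⟩ := isPBlock_nonempty h1.1
  obtain ⟨χ, hχ⟩ := isPBlock_nonempty h1.2.1
  obtain ⟨χ', hχ'⟩ := isPBlock_nonempty h2.2.1
  have hs : χ' ∈ blockOf M (χ : G → ℂ) := by
    show SameBlock M (χ : G → ℂ) (χ' : G → ℂ)
    intro g
    have h := memLocalIdeal_sub (h2.2.2 ξ hξ χ' hχ' g) (h1.2.2 ξ hξ χ hχ g)
    rwa [sub_sub_sub_cancel_left] at h
  rw [← isPBlock_eq_blockOf h1.2.1 hχ] at hs
  exact isPBlock_eq_of_mem h1.2.1 h2.2.1 hs hχ'

/-- Sections vanish off the induced block. -/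
theorem section_eq_zero (hM : IsPModular p M) {x : G} (hx : orderOf x = p) (C : Subgroup G)
    (hC : C = Subgroup.centralizer ({x} : Set G)) [Fintype C] {b : Set (IrrCharacter C)}
    (hb : IsPBlock M b) {χ : IrrCharacter G}
    (hnot : ¬ IsInducedBlock M C b (blockOf M (χ : G → ℂ))) :
    ∑ c : C, blockCoeff b c * (χ : G → ℂ) (x * (c : G)) = 0 := by
  subst hC
  have h := sum_blockCoeff_section_eq_zero hM (k := 1) (by rw [pow_one]; exact hx) hb hnot 1
    (by rw [orderOf_one]; exact (Fact.out : p.Prime).not_dvd_one)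
  rw [← h]
  refine Finset.sum_congr rfl fun c _ => ?_
  rw [OneMemClass.coe_one, mul_one, Subgroup.mem_centralizer_singleton_iff.mp c.2]

namespace Twist

variable {s : Setup G p} (t : Twist s)

/-- Every irreducible character of the centralizer has `⟨z⟩` acting by scalars. -/
theorem exists_scalar (η : IrrCharacter t.C) (k : ZMod p) :
    ∃ l : ℂ, l ^ p = 1 ∧ ∀ c c' : t.C, (c' : G) = s.zp k * (c : G) →
      (η : t.C → ℂ) c' = l * (η : t.C → ℂ) c := by
  have := Fintype.ofFinite t.C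
  obtain ⟨f, n, ρ, hρ, hρf⟩ := η
  subst hρf
  set a : t.C := ⟨s.zp k, t.zp_mem k⟩ with ha
  obtain ⟨l, hl⟩ := CharClifford.exists_scalar_of_commute ρ (ρ a) (fun g => by
    show ρ _ * ρ g = ρ g * ρ _
    rw [← map_mul, ← map_mul]
    congr 1
    refine Subtype.ext ?_
    obtain ⟨b, v, hv, hg⟩ := t.exists_of_mem g.2
    show s.zp k * (g : G) = (g : G) * s.zp k
    rw [hg, ← mul_assoc, ← s.zp_add, add_comm, s.zp_add, mul_assoc, (s.comm_zp k hv).eq,
      mul_assoc])
  have h1 : ρ.character 1 ≠ 0 := irr_one_ne_zero ⟨_, n, ρ, hρ, rfl⟩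
  refine ⟨l, ?_, fun c c' hc => ?_⟩
  · have e : ρ (a ^ p) = ρ 1 := congrArg ρ (Subtype.ext (by
      show s.zp k ^ p = 1
      rw [s.zp_pow, ZMod.natCast_self, mul_zero, s.zp_zero]))
    rw [map_pow, hl, smul_pow, one_pow, map_one] at e
    have e2 := congrArg (LinearMap.trace ℂ (Fin n → ℂ)) e
    rw [map_smul, smul_eq_mul] at e2
    refine mul_right_cancel₀ (b := ρ.character 1) h1 ?_
    rw [one_mul, Representation.character, map_one]
    exact e2
  · show ρ.character c' = l * ρ.character c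
    rw [show c' = a * c from Subtype.ext hc]
    simp only [Representation.character, map_mul, hl, smul_mul_assoc, one_mul, map_smul,
      smul_eq_mul]

/-- The values of a character of the centralizer on `K`, extended by zero. -/
theorem ext_zp_mul (η : IrrCharacter t.C) (k : ZMod p) :
    ∃ l : ℂ, l ^ p = 1 ∧ ∀ w ∈ s.K,
      extFun (η : t.C → ℂ) (s.zp k * w) = l * extFun (η : t.C → ℂ) w := by
  obtain ⟨l, hl, h⟩ := t.exists_scalar η k
  exact ⟨l, hl, fun w hw => (extFun_coe _ ⟨_, mul_mem (t.zp_mem k) (t.K_le hw)⟩).trans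
    ((h ⟨w, t.K_le hw⟩ _ rfl).trans (congrArg _ (extFun_coe _ ⟨w, t.K_le hw⟩).symm))⟩

theorem sum_norm_K (η : IrrCharacter t.C) :
    ∑ w ∈ s.kset, conj (extFun (η : t.C → ℂ) w) * extFun (η : t.C → ℂ) w =
      (Nat.card s.K : ℂ) := by
  classical
  have := Fintype.ofFinite t.C
  have hp0 : (p : ℂ) ≠ 0 := Nat.cast_ne_zero.mpr (Fact.out : p.Prime).ne_zero
  have h := CharCore.classInner_irr_self η
  rw [CharCore.classInner_def, t.natCard_C,
    Finset.sum_congr rfl (g := fun c : t.C => conj (extFun (η : t.C → ℂ) c) *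
      extFun (η : t.C → ℂ) c) (fun c _ => by rw [extFun_coe, mul_comm]),
    t.sum_C (fun x => conj (extFun (η : t.C → ℂ) x) * extFun (η : t.C → ℂ) x),
    Finset.sum_congr rfl (g := fun _ => ∑ w ∈ s.kset, conj (extFun (η : t.C → ℂ) w) *
      extFun (η : t.C → ℂ) w) (fun k _ => ?_), Finset.sum_const, Finset.card_univ, ZMod.card,
    nsmul_eq_mul] at h
  · have hK0 : (Nat.card s.K : ℂ) ≠ 0 := Nat.cast_ne_zero.mpr Nat.card_pos.ne'
    generalize ∑ w ∈ s.kset, conj (extFun (η : t.C → ℂ) w) * extFun (η : t.C → ℂ) w = S at h ⊢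
    push_cast at h
    field_simp at h
    exact h
  · obtain ⟨l, hl, hw⟩ := t.ext_zp_mul η k
    refine Finset.sum_congr rfl fun w hwK => ?_
    rw [hw w (s.mem_kset.mp hwK), map_mul]
    have h1 : conj l * l = 1 := by
      have hn : ‖l‖ = 1 := Complex.norm_eq_one_of_pow_eq_one hl (Fact.out : p.Prime).ne_zero
      rw [← Complex.normSq_eq_conj_mul_self, Complex.normSq_eq_norm_sq, hn]
      simp
    linear_combination (conj (extFun (η : t.C → ℂ) w) * extFun (η : t.C → ℂ) w) * h1

/-- Either orthogonal to `θ` on `K` or equal to it there. -/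
theorem sum_mul_conj_or (η : IrrCharacter t.C) :
    ∑ w ∈ s.kset, extFun (η : t.C → ℂ) w * conj (t.th w) = 0 ∨
      ∀ w ∈ s.K, extFun (η : t.C → ℂ) w = t.th w := by
  classical
  haveI := Fintype.ofFinite s.K
  obtain ⟨m, hm⟩ := CharCore.IsCharacter.exists_classInner_eq_natCast
    (CharCore.isCharacter_comp (CharCore.irr_isCharacter η) (Subgroup.inclusion t.K_le))
    (CharCore.isCharacter_comp (CharCore.irr_isCharacter t.θ) (Subgroup.inclusion t.K_le))
  have hS : ∑ w ∈ s.kset, extFun (η : t.C → ℂ) w * conj (t.th w) =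
      (Nat.card s.K : ℂ) * m := by
    rw [← hm, CharCore.classInner_def, mul_inv_cancel_left₀
      (Nat.cast_ne_zero.mpr Nat.card_pos.ne'), Finset.sum_subtype s.kset (fun w => s.mem_kset)]
    refine Finset.sum_congr rfl fun w _ => ?_
    show _ = (η : t.C → ℂ) ⟨w, t.K_le w.2⟩ * conj ((t.θ : t.C → ℂ) ⟨w, t.K_le w.2⟩)
    rw [← t.th_coe, ← extFun_coe (η : t.C → ℂ)]
  rcases Nat.eq_zero_or_pos m with h0 | h0
  · exact Or.inl (by rw [hS, h0, Nat.cast_zero, mul_zero])
  right
  have hd : ∑ w ∈ s.kset, Complex.normSq (extFun (η : t.C → ℂ) w - t.th w) =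
      2 * (Nat.card s.K : ℝ) * (1 - m) := by
    apply Complex.ofReal_injective
    push_cast
    simp only [Complex.normSq_eq_conj_mul_self, map_sub, sub_mul, mul_sub, Finset.sum_sub_distrib]
    rw [t.sum_norm_K η, t.sum_th_norm]
    have h2 : ∑ w ∈ s.kset, conj (t.th w) * extFun (η : t.C → ℂ) w = (Nat.card s.K : ℂ) * m := by
      rw [← hS]
      exact Finset.sum_congr rfl fun w _ => mul_comm _ _
    have h3 : ∑ w ∈ s.kset, conj (extFun (η : t.C → ℂ) w) * t.th w = (Nat.card s.K : ℂ) * m := by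
      have := congrArg conj h2
      rw [map_sum, map_mul, Complex.conj_natCast, Complex.conj_natCast] at this
      rw [← this]
      exact Finset.sum_congr rfl fun w _ => by rw [map_mul, Complex.conj_conj, mul_comm]
    rw [h2, h3]
    ring
  have hle : ∑ w ∈ s.kset, Complex.normSq (extFun (η : t.C → ℂ) w - t.th w) ≤ 0 := by
    rw [hd]
    have : (1 : ℝ) ≤ m := by exact_mod_cast h0
    exact mul_nonpos_of_nonneg_of_nonpos (by positivity) (by linarith)
  have hz := (Finset.sum_eq_zero_iff_of_nonneg fun w _ => Complex.normSq_nonneg _).mp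
    (le_antisymm hle (Finset.sum_nonneg fun w _ => Complex.normSq_nonneg _))
  exact fun w hw => sub_eq_zero.mp (Complex.normSq_eq_zero.mp (hz w (s.mem_kset.mpr hw)))

open scoped Classical in
/-- The coefficient function of the block of `θ`. -/
noncomputable def coeff : t.C → ℂ := fun c =>
  if (c : G) ∈ s.K then (t.θ : t.C → ℂ) 1 / (Nat.card s.K : ℂ) * conj (t.th c) else 0

theorem isIntClassFun_coeff (hM : IsPModular p M) : IsIntClassFun M t.coeff := by
  have := Fintype.ofFinite t.C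
  have := isPrime hM
  refine ⟨fun c d => ?_, fun c => ?_⟩
  · have hd : (d : G) * s.zp 1 * (d : G)⁻¹ = s.zp 1 := by
      have := d.2
      simp only [t.hC, Subgroup.mem_centralizer_singleton_iff] at this
      rw [s.zp_one, this, mul_inv_cancel_right]
    have hd' : (d : G)⁻¹ * s.zp 1 * (d : G)⁻¹⁻¹ = s.zp 1 := by
      conv_lhs => rw [← hd]
      group
    have hiff : ((d * c * d⁻¹ : t.C) : G) ∈ s.K ↔ (c : G) ∈ s.K := by
      refine ⟨fun h => ?_, fun h => s.conj_mem_K one_ne_zero hd h⟩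
      have := s.conj_mem_K one_ne_zero hd' h
      simpa [mul_assoc] using this
    classical
    simp only [coeff, t.th_coe, CharCore.irr_isClassFunction t.θ c d]
    exact if_congr hiff rfl rfl
  · unfold coeff
    split_ifs
    · rw [div_eq_mul_inv, t.th_coe, ← CharCore.irr_apply_inv]
      exact (localRing M).mul_mem ((localRing M).mul_mem
        (memLocalRing_of_isIntegral (isIntegral_irr _ _)) (memLocalRing_natCast_inv hM s.not_dvd))
        (memLocalRing_of_isIntegral (isIntegral_irr _ _))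
    · exact (localRing M).zero_mem

theorem sum_coeff_mul [Fintype t.C] (F : G → ℂ) :
    ∑ c : t.C, t.coeff c * F c =
      (t.θ : t.C → ℂ) 1 / (Nat.card s.K : ℂ) * ∑ w ∈ s.kset, F w * conj (t.th w) := by
  classical
  simp only [coeff]
  rw [t.sum_C (fun x => (if x ∈ s.K then
    (t.θ : t.C → ℂ) 1 / (Nat.card s.K : ℂ) * conj (t.th x) else 0) * F x),
    Finset.sum_eq_single (0 : ZMod p), Finset.mul_sum]
  · refine Finset.sum_congr rfl fun w hw => ?_
    rw [s.zp_zero, one_mul, if_pos (s.mem_kset.mp hw)]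
    ring
  · intro k _ hk
    refine Finset.sum_eq_zero fun w hw => ?_
    rw [if_neg, zero_mul]
    intro h
    exact hk ((s.zp_mem_K_iff k).mp ((Subgroup.mul_mem_cancel_right _ (s.mem_kset.mp hw)).mp h))
  · simp

theorem omega_coeff (η : IrrCharacter t.C) :
    omega (η : t.C → ℂ) t.coeff =
      ((t.θ : t.C → ℂ) 1 / (Nat.card s.K : ℂ) *
        ∑ w ∈ s.kset, extFun (η : t.C → ℂ) w * conj (t.th w)) / (η : t.C → ℂ) 1 := by
  have := Fintype.ofFinite t.C
  rw [omega_eq_sum, ← t.sum_coeff_mul]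
  congr 1
  exact Finset.sum_congr rfl fun c _ => by rw [extFun_coe]

theorem omega_coeff_of_eq (η : IrrCharacter t.C)
    (h : ∀ w ∈ s.K, extFun (η : t.C → ℂ) w = t.th w) :
    omega (η : t.C → ℂ) t.coeff = 1 := by
  have := Fintype.ofFinite t.C
  have h1 : (η : t.C → ℂ) 1 = (t.θ : t.C → ℂ) 1 := by
    rw [← extFun_coe (η : t.C → ℂ), ← t.th_coe]
    exact h _ (one_mem _)
  rw [t.omega_coeff, Finset.sum_congr rfl fun w hw => by
    rw [h w (s.mem_kset.mp hw), mul_comm], t.sum_th_norm, h1,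
    div_mul_cancel₀ _ (Nat.cast_ne_zero.mpr Nat.card_pos.ne'),
    div_self]
  exact irr_one_ne_zero t.θ

theorem sameBlock_of_eq (hM : IsPModular p M) (η : IrrCharacter t.C)
    (h : ∀ w ∈ s.K, extFun (η : t.C → ℂ) w = t.th w) :
    SameBlock M (t.θ : t.C → ℂ) (η : t.C → ℂ) := by
  have := Fintype.ofFinite t.C
  have := isPrime hM
  refine sameBlock_symm fun c => ?_
  obtain ⟨k, w, hw, hc⟩ := t.exists_of_mem c.2
  obtain ⟨l, hl, hmul⟩ := t.ext_zp_mul η k
  have e1 : (η : t.C → ℂ) c = l * (t.θ : t.C → ℂ) c := by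
    rw [← extFun_coe (η : t.C → ℂ), ← t.th_coe, hc, hmul w hw, h w hw, t.th_zp_mul k hw]
  have h1 : (η : t.C → ℂ) 1 = (t.θ : t.C → ℂ) 1 := by
    rw [← extFun_coe (η : t.C → ℂ), ← t.th_coe]
    exact h _ (one_mem _)
  have h2 : centralChar (η : t.C → ℂ) c - centralChar (t.θ : t.C → ℂ) c =
      centralChar (t.θ : t.C → ℂ) c * (l - 1) := by
    rw [centralChar, centralChar, e1, h1]
    ring
  rw [h2]
  exact memLocalIdeal_mul_left (centralChar_memLocalRing _ _)
    (memLocalIdeal_sub_one_of_pow hM (k := 1) (by rwa [pow_one]))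

/-- The block of `θ`. -/
def blk (M : Ideal AlgInt) : Set (IrrCharacter t.C) := blockOf M (t.θ : t.C → ℂ)

theorem isPBlock_blk : IsPBlock M (t.blk M) := isPBlock_blockOf _

theorem mem_blk_iff (hM : IsPModular p M) (η : IrrCharacter t.C) :
    η ∈ t.blk M ↔ ∀ w ∈ s.K, extFun (η : t.C → ℂ) w = t.th w := by
  have := Fintype.ofFinite t.C
  have := isPrime hM
  refine ⟨fun hη => (t.sum_mul_conj_or η).resolve_left fun h => ?_, t.sameBlock_of_eq hM η⟩
  have h1 := omega_sub_memLocalIdeal hη (t.isIntClassFun_coeff hM)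
  rw [t.omega_coeff_of_eq t.θ (fun w hw => rfl), t.omega_coeff η, h, mul_zero, zero_div,
    sub_zero] at h1
  exact not_memLocalIdeal_one h1

theorem omega_coeff_eq_indicator (hM : IsPModular p M) (η : IrrCharacter t.C) :
    omega (η : t.C → ℂ) t.coeff = (t.blk M).indicator (1 : IrrCharacter t.C → ℂ) η := by
  have := Fintype.ofFinite t.C
  by_cases hη : η ∈ t.blk M
  · rw [Set.indicator_of_mem hη, Pi.one_apply,
      t.omega_coeff_of_eq η ((t.mem_blk_iff hM η).mp hη)]
  · rw [Set.indicator_of_notMem hη, t.omega_coeff η,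
      (t.sum_mul_conj_or η).resolve_right (fun h => hη ((t.mem_blk_iff hM η).mpr h)), mul_zero,
      zero_div]

theorem blockCoeff_blk (hM : IsPModular p M) : blockCoeff (t.blk M) = t.coeff := by
  have := Fintype.ofFinite t.C
  refine eq_of_omega_eq (isClassFunction_blockCoeff _) (t.isIntClassFun_coeff hM).1 fun η => ?_
  rw [omega_blockCoeff, t.omega_coeff_eq_indicator hM]

theorem sum_coeff_apply [Fintype t.C] (f : G → ℂ) (k : ZMod p) :
    ∑ c : t.C, t.coeff c * f (s.zp k * c) = (t.θ : t.C → ℂ) 1 * t.phi f k := by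
  rw [t.sum_coeff_mul (fun x => f (s.zp k * x)), phi, s.card_kset]
  ring

variable (hM : IsPModular p M) {B : Set (IrrCharacter G)}
  (hind : IsInducedBlock M t.C (t.blk M) B)

include hM hind

/-- Outside the induced block the twisted averages vanish. -/
theorem phi_of_notMem {k : ZMod p} (hk : k ≠ 0) {χ : IrrCharacter G} (hχ : χ ∉ B) :
    t.phi (χ : G → ℂ) k = 0 := by
  have := isPrime hM
  have := Fintype.ofFinite t.C
  have h := section_eq_zero hM (CyclicBlock.orderOf_zp s hk) t.C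
    (t.hC.trans (s.centralizer_zp hk).symm) t.isPBlock_blk (χ := χ)
    (fun hc => hχ (induced_unique hM hc hind ▸ mem_blockOf_self χ))
  rw [t.blockCoeff_blk hM, t.sum_coeff_apply] at h
  exact (mul_eq_zero.mp h).resolve_left (irr_one_ne_zero t.θ)

theorem vecO_of_notMem {χ : IrrCharacter G} (hχ : χ ∉ B) (o : t.Orb) : t.vecO χ o = 0 :=
  t.vec_eq_zero (fun _ hk => t.phi_of_notMem hM hind hk hχ) _

variable (hBP : IsDefectGroup p M B (Subgroup.zpowers s.z))

include hBP

open scoped Classical in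
/-- The value at `z ^ k` of a member of the induced block. -/
theorem apply_zp {k : ZMod p} (hk : k ≠ 0) {χ : IrrCharacter G} (hχ : χ ∈ B) :
    ∃ F : Fin (t.T.relIndex
        (Subgroup.normalizer ((Subgroup.zpowers s.z : Subgroup G) : Set G))) → ZMod p,
      (∀ i, F i ≠ 0) ∧
      (χ : G → ℂ) (s.zp k) = (t.θ : t.C → ℂ) 1 * ∑ i, t.phi (χ : G → ℂ) (F i) := by
  classical
  have := isPrime hM
  haveI := Fintype.ofFinite t.C
  haveI : Finite (IrrCharacter t.C) := finite_irr
  haveI := Fintype.ofFinite (IrrCharacter t.C)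
  set NN := Subgroup.normalizer ((Subgroup.zpowers s.z : Subgroup G) : Set G) with hNN
  choose a ha using fun n : NN => exists_conj_eq n.2
  let σ : NN → (t.C ≃* t.C) := fun n => normConj (n : G) (t.mem_iff_conj n.2)
  -- the union of the conjugate blocks
  set O : Set (IrrCharacter t.C) := {η | ∃ n : NN, ∀ w ∈ s.K,
    extFun (η : t.C → ℂ) w = t.th ((n : G) * w * (n : G)⁻¹)} with hO
  have hconjK : ∀ n : NN, ∀ w ∈ s.K, (n : G) * w * (n : G)⁻¹ ∈ s.K := fun n w hw =>
    s.conj_mem_K one_ne_zero (conj_zp_eq (ha n) 1) hw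
  have hKinv : ∀ n : NN, ∀ w ∈ s.K, (n : G)⁻¹ * w * (n : G) ∈ s.K := fun n w hw => by
    have := hconjK n⁻¹ w hw
    simpa using this
  have hmem : ∀ (n : NN) (η : IrrCharacter t.C), twist (σ n).symm η ∈ t.blk M ↔
      ∀ w ∈ s.K, extFun (η : t.C → ℂ) w = t.th ((n : G) * w * (n : G)⁻¹) := by
    intro n η
    rw [t.mem_blk_iff hM]
    have hval : ∀ w ∈ s.K, extFun (twist (σ n).symm η : t.C → ℂ) w =
        extFun (η : t.C → ℂ) ((n : G)⁻¹ * w * (n : G)) := fun w hw =>
      (extFun_coe _ ⟨w, t.K_le hw⟩).trans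
        (extFun_coe (η : t.C → ℂ) ((σ n).symm ⟨w, t.K_le hw⟩)).symm
    constructor
    · intro h w hw
      have h1 := h _ (hconjK n w hw)
      rw [hval _ (hconjK n w hw)] at h1
      rw [← h1]
      congr 1
      group
    · intro h w hw
      rw [hval w hw, h _ (hKinv n w hw)]
      congr 1
      group
  have hcount : ∀ η : IrrCharacter t.C,
      ((Finset.univ.filter fun n : NN => twist (σ n).symm η ∈ t.blk M).card : ℂ) =
        (Nat.card t.T : ℂ) * O.indicator (1 : IrrCharacter t.C → ℂ) η := by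
    intro η
    by_cases hη : η ∈ O
    · rw [Set.indicator_of_mem hη, Pi.one_apply, mul_one]
      obtain ⟨n₀, hn₀⟩ := hη
      congr 1
      rw [← Nat.card_eq_finsetCard]
      refine Nat.card_congr
        { toFun := fun n => ⟨((n.1 : NN) : G) * (n₀ : G)⁻¹, ?_⟩
          invFun := fun u => ⟨⟨(u : G) * (n₀ : G), mul_mem (t.T_le_normalizer u.2) n₀.2⟩, ?_⟩
          left_inv := fun n => by ext; simp
          right_inv := fun u => by ext; simp }
      · have hn := (hmem n.1 η).mp (Finset.mem_filter.mp n.2).2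
        set g : G := ((n.1 : NN) : G) * (n₀ : G)⁻¹ with hg
        have hgN : g ∈ NN := mul_mem n.1.2 (inv_mem n₀.2)
        rw [t.hT]
        refine ⟨hgN, fun c c' hc => ?_⟩
        obtain ⟨j, w, hw, hcw⟩ := t.exists_of_mem c.2
        obtain ⟨b, hb⟩ := exists_conj_eq hgN
        have hgw : g * w * g⁻¹ ∈ s.K := s.conj_mem_K one_ne_zero (conj_zp_eq hb 1) hw
        rw [← t.th_coe, ← t.th_coe, hc, hcw,
          show g * (s.zp j * w) * g⁻¹ = g * s.zp j * g⁻¹ * (g * w * g⁻¹) by group,
          conj_zp_eq hb j, t.th_zp_mul _ hgw, t.th_zp_mul j hw]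
        set v := (n₀ : G)⁻¹ * w * (n₀ : G) with hv
        have hvK := hKinv n₀ w hw
        have h1 := (hn v hvK).symm.trans (hn₀ v hvK)
        rw [show g * w * g⁻¹ = ((n.1 : NN) : G) * v * ((n.1 : NN) : G)⁻¹ by rw [hg, hv]; group,
          h1, hv]
        congr 1
        group
      · refine Finset.mem_filter.mpr ⟨Finset.mem_univ _, (hmem _ η).mpr fun w hw => ?_⟩
        have hx : (n₀ : G) * w * (n₀ : G)⁻¹ ∈ t.C := t.K_le (hconjK n₀ w hw)
        show _ = t.th (((u : G) * (n₀ : G)) * w * ((u : G) * (n₀ : G))⁻¹)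
        rw [hn₀ w hw, show ((u : G) * (n₀ : G)) * w * ((u : G) * (n₀ : G))⁻¹ =
            (u : G) * ((n₀ : G) * w * (n₀ : G)⁻¹) * (u : G)⁻¹ by group]
        exact (t.th_coe ⟨_, hx⟩).trans ((((t.hT _).mp u.2).2 ⟨_, hx⟩
          ⟨_, (t.mem_iff_conj (t.T_le_normalizer u.2) _).mp hx⟩ rfl).symm.trans (t.th_coe _).symm)
    · rw [Set.indicator_of_notMem hη, mul_zero, Finset.filter_eq_empty_iff.mpr fun n _ h =>
        hη ⟨n, (hmem n η).mp h⟩]
      simp
  have hT0 : (Nat.card t.T : ℂ) ≠ 0 := Nat.cast_ne_zero.mpr Nat.card_pos.ne'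
  have hcoef : blockCoeff O = fun c => (Nat.card t.T : ℂ)⁻¹ * ∑ n : NN, t.coeff (σ n c) := by
    have hcl : ∀ n : NN, IsClassFunction t.C (fun c => t.coeff (σ n c)) := fun n =>
      isClassFunction_comp_equiv (σ n) (t.isIntClassFun_coeff hM).1
    refine eq_of_omega_eq (isClassFunction_blockCoeff _) (fun c d => ?_) fun η => ?_
    · simp only [fun n => hcl n c d]
    · rw [omega_blockCoeff, omega_eq_sum]
      have h1 : ∀ n : NN, (∑ c, t.coeff (σ n c) * (η : t.C → ℂ) c) / (η : t.C → ℂ) 1 =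
          if twist (σ n).symm η ∈ t.blk M then 1 else 0 := fun n => by
        rw [← omega_eq_sum]
        have e := omega_twist (σ n).symm η t.coeff
        rw [MulEquiv.symm_symm] at e
        rw [← e, t.omega_coeff_eq_indicator hM, Set.indicator_apply, Pi.one_apply]
      simp only [mul_assoc, Finset.sum_mul, ← Finset.mul_sum]
      rw [Finset.sum_comm, mul_div_assoc, Finset.sum_div, Finset.sum_congr rfl fun n _ => h1 n,
        Finset.sum_boole, hcount, inv_mul_cancel_left₀ hT0]
  -- the section is the part in these blocks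
  set f : t.C → ℂ := fun c => (χ : G → ℂ) (s.zp k * (c : G)) with hf
  have hfc : IsClassFunction t.C f := fun c d => by
    show (χ : G → ℂ) _ = (χ : G → ℂ) _
    have hd : (d : G) * s.zp k = s.zp k * (d : G) := by
      have := d.2
      simp only [t.hC, ← s.centralizer_zp hk, Subgroup.mem_centralizer_singleton_iff] at this
      exact this
    rw [← irr_class χ (s.zp k * (c : G)) (d : G)]
    refine congrArg (χ : G → ℂ) ?_
    push_cast
    rw [← mul_assoc (d : G), hd]
    group
  have hxC : t.C = Subgroup.centralizer ({s.zp k} : Set G) :=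
    t.hC.trans (s.centralizer_zp hk).symm
  have hK : t.C = Subgroup.zpowers s.z ⊔
      Subgroup.centralizer ((Subgroup.zpowers s.z : Subgroup G) : Set G) := by
    rw [BlocksCore.centralizer_zpowers, ← t.hC]
    refine (sup_eq_right.mpr (Subgroup.zpowers_le.mpr ?_)).symm
    have := t.zp_mem 1
    rwa [s.zp_one] at this
  have hout : ∀ η : IrrCharacter t.C, η ∉ O →
      blockPart (blockOf M (η : t.C → ℂ)) f 1 = 0 := by
    intro η hη
    rw [blockPart_eq_sum_blockCoeff _ hfc,
      Finset.sum_congr rfl fun c _ => by rw [hf, mul_one]]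
    refine section_eq_zero hM (CyclicBlock.orderOf_zp s hk) t.C hxC (isPBlock_blockOf η) fun hc => ?_
    rw [← isPBlock_eq_blockOf hind.2.1 hχ] at hc
    obtain ⟨n, hn, hb'⟩ := conj_of_inducing hM hind.2.1 hBP hK hc hind
    have h1 := (hmem ⟨n⁻¹, inv_mem hn⟩ η).mp (by
      convert hb' η (mem_blockOf_self η) using 1
      refine Subtype.ext (funext fun c => congrArg (η : t.C → ℂ) (Subtype.ext ?_))
      show ((n⁻¹ : G))⁻¹ * (c : G) * n⁻¹ = n * (c : G) * n⁻¹
      rw [inv_inv])
    exact hη ⟨_, h1⟩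
  have hsat : ∀ η η' : IrrCharacter t.C, η ∈ O → η' ∈ blockOf M (η : t.C → ℂ) → η' ∈ O := by
    rintro η η' ⟨n, hn⟩ h'
    refine ⟨n, (hmem n η').mp ?_⟩
    rw [isPBlock_eq_blockOf t.isPBlock_blk ((hmem n η).mpr hn)]
    exact sameBlock_twist hM _ h'
  have hmain : f 1 = blockPart O f 1 := by
    have hpart : ∀ b : Set (IrrCharacter t.C), blockPart b f 1 =
        ∑ η, if η ∈ b then classInner f (η : t.C → ℂ) * (η : t.C → ℂ) 1 else 0 := by
      intro b
      rw [blockPart, finsum_mem_def, finsum_eq_sum_of_fintype]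
      refine Finset.sum_congr rfl fun η _ => ?_
      rw [Set.indicator_apply]
      refine if_congr Iff.rfl ?_ rfl
      simp [classInner]
      left
      congr!
    have huniv : f 1 = ∑ η : IrrCharacter t.C,
        classInner f (η : t.C → ℂ) * (η : t.C → ℂ) 1 := by
      conv_lhs => rw [CharCore.eq_sum_classInner hfc]
      simp only [Finset.sum_apply, Pi.smul_apply, smul_eq_mul]
      congr!
    rw [huniv, hpart, ← Finset.sum_filter_add_sum_filter_not Finset.univ (· ∈ O)]
    rw [Finset.sum_filter (fun η : IrrCharacter t.C => η ∈ O)]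
    refine (add_eq_left.mpr ?_).trans ?_
    swap
    · congr!
    rw [
      ← Finset.sum_fiberwise_of_maps_to (t := Finset.univ.image fun η : IrrCharacter t.C =>
        blockOf M (η : t.C → ℂ)) (g := fun η : IrrCharacter t.C => blockOf M (η : t.C → ℂ))
        (fun η _ => Finset.mem_image_of_mem _ (Finset.mem_univ _))]
    refine Finset.sum_eq_zero fun b hb => ?_
    obtain ⟨η₀, -, rfl⟩ := Finset.mem_image.mp hb
    by_cases h₀ : η₀ ∈ O
    · refine Finset.sum_eq_zero fun η hη => absurd ?_ (Finset.mem_filter.mp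
        (Finset.mem_filter.mp hη).1).2
      exact hsat η₀ η h₀ ((Finset.mem_filter.mp hη).2 ▸ mem_blockOf_self η)
    · rw [← hout η₀ h₀, hpart, Finset.filter_filter, Finset.sum_filter]
      refine Finset.sum_congr rfl fun η _ => ?_
      have hiff : (η ∉ O ∧ blockOf M (η : t.C → ℂ) = blockOf M (η₀ : t.C → ℂ)) ↔
          η ∈ blockOf M (η₀ : t.C → ℂ) := by
        refine ⟨fun h => h.2 ▸ mem_blockOf_self η, fun h => ⟨fun hO' => h₀ ?_,
          (isPBlock_eq_blockOf (isPBlock_blockOf η₀) h).symm⟩⟩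
        exact hsat η η₀ hO' (isPBlock_eq_blockOf (isPBlock_blockOf η₀) h ▸ mem_blockOf_self η₀)
      exact if_congr hiff rfl rfl
  have hTsum : (Nat.card t.T : ℂ) * f 1 =
      (t.θ : t.C → ℂ) 1 * ∑ n : NN, t.phi (χ : G → ℂ) ((a n : ZMod p) * k) := by
    rw [hmain, blockPart_eq_sum_blockCoeff _ hfc, hcoef]
    simp only [mul_one, Finset.mul_sum, Finset.sum_mul, ← mul_assoc, mul_inv_cancel₀ hT0, one_mul]
    rw [Finset.sum_comm]
    refine Finset.sum_congr rfl fun n _ => ?_
    rw [← t.sum_coeff_apply]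
    refine Fintype.sum_equiv (σ n).toEquiv _ _ fun c => ?_
    show t.coeff (σ n c) * (χ : G → ℂ) (s.zp k * (c : G)) = t.coeff (σ n c) *
      (χ : G → ℂ) (s.zp ((a n : ZMod p) * k) * ((n : G) * (c : G) * (n : G)⁻¹))
    congr 1
    rw [← conj_zp_eq (ha n) k, ← irr_class χ (s.zp k * (c : G)) (n : G)]
    congr 1
    group
  set T' := t.T.subgroupOf NN with hT'
  have hinv : ∀ (n : NN) (u : T'),
      t.phi (χ : G → ℂ) ((a (n * u) : ZMod p) * k) = t.phi (χ : G → ℂ) ((a n : ZMod p) * k) := by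
    intro n u
    have hau : a (u : NN) ∈ t.auto := ⟨_, Subgroup.mem_subgroupOf.mp u.2, ha _⟩
    have hmul : a (n * u) = a n * a (u : NN) := Units.ext (s.zp_injective (by
      rw [← ha (n * u), Units.val_mul, ← conj_zp_eq (ha n) (a (u : NN) : ZMod p), ← ha (u : NN),
        Subgroup.coe_mul]
      group))
    rw [hmul, Units.val_mul, mul_right_comm,
      t.phi_mul_auto (CharCore.irr_isClassFunction χ) hau]
  haveI := Fintype.ofFinite T'
  haveI := Fintype.ofFinite (NN ⧸ T')
  have hq : Fintype.card (NN ⧸ T') = t.T.relIndex NN := by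
    rw [← Nat.card_eq_fintype_card]
    rfl
  let eq := (Fintype.equivFinOfCardEq hq).symm
  refine ⟨fun i => (a (eq i).out : ZMod p) * k, fun i => mul_ne_zero (Units.ne_zero _) hk, ?_⟩
  rw [show (χ : G → ℂ) (s.zp k) = f 1 by rw [hf]; simp]
  refine mul_left_cancel₀ hT0 (hTsum.trans ?_)
  rw [mul_left_comm]
  congr 1
  rw [Fintype.sum_equiv eq (fun i => t.phi (χ : G → ℂ) ((a (eq i).out : ZMod p) * k))
    (fun q => t.phi (χ : G → ℂ) ((a q.out : ZMod p) * k)) fun i => rfl,
    ← Nat.card_congr (Subgroup.subgroupOfEquivOfLe t.T_le_normalizer).toEquiv,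
    Nat.card_eq_fintype_card]
  rw [← Fintype.sum_equiv (Subgroup.groupEquivQuotientProdSubgroup (s := T')).symm
    (fun x => t.phi (χ : G → ℂ) ((a x.1.out : ZMod p) * k))
    (fun n => t.phi (χ : G → ℂ) ((a n : ZMod p) * k)) fun x => ?_]
  · rw [Fintype.sum_prod_type]
    simp only [Finset.sum_const, Finset.card_univ, nsmul_eq_mul, ← Finset.mul_sum]
    rfl
  · obtain ⟨n, hn⟩ := (Subgroup.groupEquivQuotientProdSubgroup (s := T')).surjective x
    rw [← hn, Equiv.symm_apply_apply]
    obtain ⟨u, hu⟩ := QuotientGroup.mk_out_eq_mul T' n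
    show t.phi (χ : G → ℂ) ((a (n : NN ⧸ T').out : ZMod p) * k) = _
    rw [hu]
    exact hinv n u

/-- The degree modulo `p`. -/
theorem charDegree_modEq [Fintype t.Orb] {χ : IrrCharacter G} (hχ : χ ∈ B) :
    (charDegree (χ : G → ℂ) : ℤ) ≡
      ((t.T.relIndex (Subgroup.normalizer ((Subgroup.zpowers s.z : Subgroup G) : Set G)) *
        charDegree (t.θ : t.C → ℂ) : ℕ) : ℤ) * ((Nat.card t.auto : ℤ) * ∑ o, t.vecO χ o)
        [ZMOD p] := by
  classical
  have := isPrime hM
  have hp : p.Prime := Fact.out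
  obtain ⟨F, hF, heq⟩ := t.apply_zp hM hind hBP one_ne_zero hχ
  set S : ℤ := (Nat.card t.auto : ℤ) * ∑ o, t.vecO χ o with hS
  set q := t.T.relIndex (Subgroup.normalizer ((Subgroup.zpowers s.z : Subgroup G) : Set G)) with hq
  rw [Int.modEq_iff_dvd, ← memLocalIdeal_intCast_iff hM]
  have h1 : MemLocalIdeal M ((χ : G → ℂ) (s.zp 1) - (χ : G → ℂ) 1) := by
    have h := char_mul_sub_memLocalIdeal hM χ (x := s.zp 1) (y := 1) (Commute.one_right _) (k := 1)
      (by rw [pow_one]; exact CyclicBlock.orderOf_zp s one_ne_zero)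
      (by rw [orderOf_one]; exact hp.not_dvd_one)
    rwa [mul_one] at h
  have h2 : MemLocalIdeal M ((χ : G → ℂ) (s.zp 1) - (t.θ : t.C → ℂ) 1 * ((q : ℂ) * (S : ℂ))) := by
    rw [heq, show (t.θ : t.C → ℂ) 1 * ((q : ℂ) * (S : ℂ)) =
        (t.θ : t.C → ℂ) 1 * ∑ _i : Fin q, (S : ℂ) by simp, ← mul_sub, ← Finset.sum_sub_distrib]
    exact memLocalIdeal_mul_left (memLocalRing_of_isIntegral (isIntegral_irr _ _))
      (memLocalIdeal_sum fun i _ => t.phi_sub_memLocalIdeal hM χ (hF i))
  have h3 := memLocalIdeal_sub h1 h2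
  convert h3 using 1
  rw [irr_one_eq, irr_one_eq]
  push_cast
  ring

end Twist

end Cfsg.Agent.BlocksCore.CyclicTwist
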