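import Cfsg.Agent.Lib.BlocksCore.CyclicTwistShape
import Cfsg.Agent.Lib.BlocksDefect.Central
import Cfsg.Agent.Lib.CharClifford.Galois
import Cfsg.Agent.OddChar.Twist

/-!
# Field automorphisms and the block of a twisting character

A twisting datum exists for every irreducible character of the centralizer, every block of
defect one is induced from such a datum, and a member of that block is determined by its
vector and its values at the `p`-regular elements.
-/

set_option linter.unusedSectionVars false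

open scoped ComplexConjugate

namespace Cfsg.Agent.BlocksCore.CyclicTwist

open BlocksDefect SmallGroups.SelfCent

variable {G : Type*} [Group G] [Fintype G] {p : ℕ} [Fact p.Prime]

/-- The irreducible character made trivial on `⟨z⟩`, with its stabilizer. -/
theorem exists_normTwist (s : Setup G p) {C : Subgroup G}
    (hC : C = Subgroup.centralizer ({s.z} : Set G)) (η : IrrCharacter C) :
    ∃ (θ : IrrCharacter C)
      (hθ : ∀ (k : ZMod p) (c c' : C), (c' : G) = s.zp k * (c : G) →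
        (θ : C → ℂ) c' = (θ : C → ℂ) c)
      (T : Subgroup G)
      (hT : ∀ g : G, g ∈ T ↔
        (g ∈ Subgroup.normalizer ((Subgroup.zpowers s.z : Subgroup G) : Set G) ∧
          ∀ c c' : C, (c' : G) = g * c * g⁻¹ → (θ : C → ℂ) c' = (θ : C → ℂ) c)),
      ∀ w ∈ s.K, extFun (θ : C → ℂ) w = extFun (η : C → ℂ) w := by
  classical
  haveI := Fintype.ofFinite C
  have hzC : ∀ k : ZMod p, s.zp k ∈ C := fun k => by
    rw [hC]
    exact Subgroup.mem_centralizer_singleton_iff.mpr
      (Commute.pow_left (Commute.refl s.z) k.val).eq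
  have hcen : ∀ k : ZMod p, (⟨s.zp k, hzC k⟩ : C) ∈ Subgroup.center C := by
    intro k
    rw [Subgroup.mem_center_iff]
    intro g
    obtain ⟨b, v, hv, hg⟩ := s.exists_of_mem_cent ((SetLike.ext_iff.mp hC _).mp g.2)
    refine Subtype.ext ?_
    show (g : G) * s.zp k = s.zp k * (g : G)
    rw [hg, ← mul_assoc, ← s.zp_add, add_comm, s.zp_add, mul_assoc, mul_assoc,
      (s.comm_zp k hv).eq]
  have hrange : ∀ x : Multiplicative (ZMod p) × s.K, s.embed x ∈ C := fun x => by
    rw [hC, ← s.range_embed]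
    exact ⟨x, rfl⟩
  have hbij : Function.Bijective (s.embed.codRestrict C hrange) :=
    ⟨fun a b h => s.embed_injective (congrArg Subtype.val h), fun c => by
      obtain ⟨k, w, hw, hc⟩ := s.exists_of_mem_cent ((SetLike.ext_iff.mp hC _).mp c.2)
      exact ⟨(Multiplicative.ofAdd k, ⟨w, hw⟩), Subtype.ext hc.symm⟩⟩
  let E : Multiplicative (ZMod p) × s.K ≃* C := MulEquiv.ofBijective _ hbij
  let l : Multiplicative (ZMod p) →* ℂ :=
    { toFun := fun a => cval η ⟨s.zp a.toAdd, hzC _⟩
      map_one' := by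
        rw [← cval_one η]
        congr 1
        exact Subtype.ext (by show s.zp _ = 1; rw [toAdd_one, s.zp_zero])
      map_mul' := fun a b => by
        rw [← cval_mul η (hcen a.toAdd)]
        congr 1
        exact Subtype.ext (by show s.zp _ = s.zp _ * s.zp _; rw [toAdd_mul, add_comm, s.zp_add]) }
  let lam : C →* ℂˣ := (l.toHomUnits.comp ((MonoidHom.fst _ _).comp E.symm.toMonoidHom))⁻¹
  let θ : IrrCharacter C := ⟨_, CharCore.isIrrCharacter_hom_mul lam η.2⟩
  have hlam : ∀ (k : ZMod p) (w : s.K) (c : C), (c : G) = s.zp k * (w : G) →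
      (lam c : ℂ) = (cval η ⟨s.zp k, hzC k⟩)⁻¹ := by
    intro k w c hc
    have he : E.symm c = (Multiplicative.ofAdd k, w) := by
      rw [MulEquiv.symm_apply_eq]
      exact Subtype.ext hc
    simp only [lam, MonoidHom.inv_apply, Units.val_inv_eq_inv_val, MonoidHom.comp_apply,
      MonoidHom.coe_toHomUnits]
    rw [show E.symm.toMonoidHom c = E.symm c from rfl, he]
    rfl
  have hθK : ∀ (k : ZMod p) (w : s.K) (c : C), (c : G) = s.zp k * (w : G) →
      (θ : C → ℂ) c = (η : C → ℂ) ⟨(w : G), by rw [hC]; exact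
        Subgroup.mem_centralizer_singleton_iff.mpr (s.comm _ w.2)⟩ := by
    intro k w c hc
    show (lam c : ℂ) * (η : C → ℂ) c = _
    rw [hlam k w c hc]
    have hc' : c = (⟨(w : G), by rw [hC]; exact
        Subgroup.mem_centralizer_singleton_iff.mpr (s.comm _ w.2)⟩ : C) * ⟨s.zp k, hzC k⟩ :=
      Subtype.ext (by
        show (c : G) = (w : G) * s.zp k
        rw [hc, (s.comm_zp k w.2).eq])
    conv_lhs => rw [hc', apply_mul_of_center η (hcen k)]
    refine inv_mul_cancel_left₀ (left_ne_zero_of_mul_eq_one (cval_mul_inv η (hcen k))) _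
  have hθ : ∀ (k : ZMod p) (c c' : C), (c' : G) = s.zp k * (c : G) →
      (θ : C → ℂ) c' = (θ : C → ℂ) c := by
    intro k c c' h
    obtain ⟨j, w, hw, hc⟩ := s.exists_of_mem_cent ((SetLike.ext_iff.mp hC _).mp c.2)
    rw [hθK (k + j) ⟨w, hw⟩ c' (by rw [h, hc, s.zp_add, mul_assoc]), hθK j ⟨w, hw⟩ c hc]
  have hconjC : ∀ {g : G}, g ∈ Subgroup.normalizer ((Subgroup.zpowers s.z : Subgroup G) : Set G) →
      ∀ c : C, g * (c : G) * g⁻¹ ∈ C := by
    intro g hg c
    have h := (SetLike.ext_iff.mp hC _).mp c.2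
    refine (SetLike.ext_iff.mp hC _).mpr ?_
    rw [← BlocksCore.centralizer_zpowers] at h ⊢
    exact (conj_mem_centralizer_iff hg).mpr h
  let T : Subgroup G :=
    { carrier := {g | g ∈ Subgroup.normalizer ((Subgroup.zpowers s.z : Subgroup G) : Set G) ∧
        ∀ c c' : C, (c' : G) = g * c * g⁻¹ → (θ : C → ℂ) c' = (θ : C → ℂ) c}
      one_mem' := ⟨one_mem _, fun c c' h => by
        rw [show c' = c from Subtype.ext (by rw [h]; group)]⟩
      mul_mem' := fun {a b} ha hb => ⟨mul_mem ha.1 hb.1, fun c c' h => by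
        rw [ha.2 ⟨_, hconjC hb.1 c⟩ c' (by rw [h]; group), hb.2 c _ rfl]⟩
      inv_mem' := fun {a} ha => ⟨inv_mem ha.1, fun c c' h =>
        (ha.2 c' c (by rw [h]; group)).symm⟩ }
  refine ⟨θ, hθ, T, fun g => Iff.rfl, fun w hw => ?_⟩
  have hwC : w ∈ C := by
    rw [hC]
    exact Subgroup.mem_centralizer_singleton_iff.mpr (s.comm _ hw)
  exact (extFun_coe _ ⟨w, hwC⟩).trans
    ((hθK 0 ⟨w, hw⟩ ⟨w, hwC⟩ (by show w = s.zp 0 * w; rw [s.zp_zero, one_mul])).trans
      (extFun_coe (η : C → ℂ) ⟨w, hwC⟩).symm)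

variable {M : Ideal AlgInt}

/-- A block with defect group `⟨z⟩` is induced from the block of a twisting character. -/
theorem exists_twist_of_setup (hM : IsPModular p M) (s : Setup G p) {B : Set (IrrCharacter G)}
    (hB : IsPBlock M B) (hD : IsDefectGroup p M B (Subgroup.zpowers s.z)) :
    ∃ t : Twist s, IsInducedBlock M t.C (t.blk M) B := by
  classical
  haveI := isPrime hM
  set C := Subgroup.centralizer ({s.z} : Set G) with hC
  have hCeq : Subgroup.centralizer ((Subgroup.zpowers s.z : Subgroup G) : Set G) = C :=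
    BlocksCore.centralizer_zpowers _
  obtain ⟨g, hg, hS⟩ := isDefectGroup_iff.mp hD
  have hzpC : Subgroup.zpowers s.z ≤ C :=
    Subgroup.zpowers_le.mpr (Subgroup.mem_centralizer_singleton_iff.mpr rfl)
  have hCN : C ≤ Subgroup.normalizer ((Subgroup.zpowers s.z : Subgroup G) : Set G) :=
    hCeq ▸ Subgroup.centralizer_le_normalizer _
  obtain ⟨b, hb⟩ := (exists_inducing_iff hM (isPGroup_of_isDefectGroup hD) hzpC hCeq.le hCN hB).mpr
    ⟨g, hS.mem_centralizer, hg.2.1⟩
  obtain ⟨η, hη⟩ := isPBlock_nonempty hb.1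
  obtain ⟨θ, hθ, T, hT, hK⟩ := exists_normTwist s hC η
  let t : Twist s := ⟨C, hC, θ, hθ, T, hT⟩
  have hmem : η ∈ t.blk M := (t.mem_blk_iff hM η).mpr fun w hw => (hK w hw).symm
  refine ⟨t, ?_⟩
  have hbe : b = t.blk M := isPBlock_eq_of_mem hb.1 t.isPBlock_blk hη hmem
  exact hbe ▸ hb

/-- Every block of defect one is induced from the block of a twisting character. -/
theorem exists_twist_block (hM : IsPModular p M) {B : Set (IrrCharacter G)} (hB : IsPBlock M B)
    (hd : blockDefect p B = 1) (ha : (Nat.card G).factorization p = 1) :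
    ∃ (s : Setup G p) (t : Twist s), IsInducedBlock M t.C (t.blk M) B ∧
      IsDefectGroup p M B (Subgroup.zpowers s.z) ∧ ¬ p ∣ (Subgroup.zpowers s.z).index := by
  classical
  haveI := isPrime hM
  have hp : p.Prime := Fact.out
  obtain ⟨D, hD⟩ := exists_isDefectGroup hM hB
  have hDc : Nat.card D = p := by rw [defectGroup_natCard hM hB hD, hd, pow_one]
  haveI : IsCyclic D := isCyclic_of_prime_card hDc
  obtain ⟨⟨z, hzD⟩, hgen⟩ := IsCyclic.exists_generator (α := D)
  have hz : orderOf z = p := by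
    rw [← Subgroup.orderOf_mk z hzD, orderOf_eq_card_of_forall_mem_zpowers hgen, hDc]
  have hzD' : Subgroup.zpowers z = D :=
    Subgroup.eq_of_le_of_card_ge (Subgroup.zpowers_le.mpr hzD)
      (by rw [Nat.card_zpowers, hz, hDc])
  have hidx : ¬ p ∣ (Subgroup.zpowers z).index := by
    intro h
    have h2 : p ^ 2 ∣ Nat.card G := by
      rw [← Subgroup.card_mul_index (Subgroup.zpowers z), Nat.card_zpowers, hz, pow_two]
      exact Nat.mul_dvd_mul_left p h
    have := (hp.pow_dvd_iff_le_factorization Nat.card_pos.ne').mp h2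
    omega
  obtain ⟨s, hs⟩ := CyclicCount.exists_setup hz hidx
  subst hs
  rw [← hzD'] at hD
  obtain ⟨t, ht⟩ := exists_twist_of_setup hM s hB hD
  exact ⟨s, t, ht, hD, hidx⟩

/-- A `p`-singular element is conjugate into a coset `z ^ k * K`. -/
theorem exists_conj_singular (s : Setup G p) (hidx : ¬ p ∣ (Subgroup.zpowers s.z).index) {g : G}
    (hg : p ∣ orderOf g) :
    ∃ (x : G) (k : ZMod p) (w : G), k ≠ 0 ∧ w ∈ s.K ∧ x * g * x⁻¹ = s.zp k * w := by
  classical
  have hp : p.Prime := Fact.out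
  set a := g ^ (orderOf g / p) with ha
  have hao : orderOf a = p := by
    rw [ha, orderOf_pow_orderOf_div (orderOf_pos g).ne' hg]
  have hza : IsPGroup p (Subgroup.zpowers a) :=
    IsPGroup.of_card (n := 1) (by rw [Nat.card_zpowers, hao, pow_one])
  obtain ⟨Q, hQ⟩ := hza.exists_le_sylow
  have hzz : IsPGroup p (Subgroup.zpowers s.z) :=
    IsPGroup.of_card (n := 1) (by rw [Nat.card_zpowers, s.orderOf_z, pow_one])
  obtain ⟨x, hx⟩ := MulAction.exists_smul_eq G Q (hzz.toSylow hidx)
  have hxa : x * a * x⁻¹ ∈ Subgroup.zpowers s.z := by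
    have : x * a * x⁻¹ ∈ ((x • Q : Sylow p G) : Subgroup G) :=
      ⟨a, hQ (Subgroup.mem_zpowers a), rfl⟩
    rw [hx] at this
    exact this
  obtain ⟨j, hj : s.z ^ j = x * a * x⁻¹⟩ :=
    ((isOfFinOrder_of_finite s.z).mem_powers_iff_mem_zpowers).mpr hxa
  rw [← s.zp_natCast] at hj
  have hj0 : (j : ZMod p) ≠ 0 := by
    intro h0
    rw [h0, s.zp_zero, eq_comm, conj_eq_one_iff] at hj
    rw [hj, orderOf_one] at hao
    exact hp.ne_one hao.symm
  have hmem : x * g * x⁻¹ ∈ Subgroup.centralizer ({s.z} : Set G) := by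
    rw [← s.centralizer_zp hj0, Subgroup.mem_centralizer_singleton_iff, hj, ha]
    group
  obtain ⟨k, w, hw, he⟩ := s.exists_of_mem_cent hmem
  refine ⟨x, k, w, fun hk => ?_, hw, he⟩
  rw [hk, s.zp_zero, one_mul] at he
  have ho : orderOf g = orderOf w := by
    rw [← he, ← MulAut.conj_apply, MulEquiv.orderOf_eq]
  exact s.not_dvd ((ho ▸ hg).trans (Subgroup.orderOf_dvd_natCard _ hw))

namespace Twist

variable {s : Setup G p} (t : Twist s) (hM : IsPModular p M) {B : Set (IrrCharacter G)}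
  (hind : IsInducedBlock M t.C (t.blk M) B)
  (hBP : IsDefectGroup p M B (Subgroup.zpowers s.z))
  (hidx : ¬ p ∣ (Subgroup.zpowers s.z).index)

include hM hind hBP hidx

/-- A member of the block is determined by its averages and its `p`-regular values. -/
theorem eq_of_phi_eq {χ χ' : IrrCharacter G} (hχ : χ ∈ B) (hχ' : χ' ∈ B)
    (hreg : ∀ g : G, ¬ p ∣ orderOf g → (χ : G → ℂ) g = (χ' : G → ℂ) g)
    (hphi : ∀ k : ZMod p, k ≠ 0 → t.phi (χ : G → ℂ) k = t.phi (χ' : G → ℂ) k) :
    χ = χ' := by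
  classical
  haveI := isPrime hM
  haveI := Fintype.ofFinite t.C
  have hK : t.C = Subgroup.zpowers s.z ⊔
      Subgroup.centralizer ((Subgroup.zpowers s.z : Subgroup G) : Set G) := by
    rw [BlocksCore.centralizer_zpowers, ← t.hC]
    exact (sup_eq_right.mpr (Subgroup.zpowers_le.mpr t.z_mem)).symm
  have hKreg : ∀ w ∈ s.K, (χ : G → ℂ) w = (χ' : G → ℂ) w := fun w hw =>
    hreg w fun hd => s.not_dvd (hd.trans (Subgroup.orderOf_dvd_natCard _ hw))
  -- the averages against every character of `K` agree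
  have key : ∀ (η : IrrCharacter t.C) (i : ZMod p),
      ∑ w ∈ s.kset, (χ : G → ℂ) (s.zp i * w) * conj (extFun (η : t.C → ℂ) w) =
        ∑ w ∈ s.kset, (χ' : G → ℂ) (s.zp i * w) * conj (extFun (η : t.C → ℂ) w) := by
    intro η i
    by_cases hi : i = 0
    · refine Finset.sum_congr rfl fun w hw => ?_
      rw [hi, s.zp_zero, one_mul, hKreg w (s.mem_kset.mp hw)]
    obtain ⟨θ', hθ', T', hT', hθη⟩ := exists_normTwist s t.hC η
    let t' : Twist s := ⟨t.C, t.hC, θ', hθ', T', hT'⟩
    by_cases hc : IsInducedBlock M t'.C (t'.blk M) B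
    · obtain ⟨n, hn, hb'⟩ := conj_of_inducing hM hind.2.1 hBP hK hc hind
      have h1 := (t.mem_blk_iff hM _).mp (hb' θ' (mem_blockOf_self θ'))
      obtain ⟨a, ha⟩ := exists_conj_eq (inv_mem hn)
      have ha' : n * s.zp ((a : ZMod p) * i) * n⁻¹ = s.zp i := by
        rw [← conj_zp_eq ha i]
        group
      have hsum : ∀ ψ : IrrCharacter G,
          ∑ w ∈ s.kset, (ψ : G → ℂ) (s.zp i * w) * conj (extFun (η : t.C → ℂ) w) =
          ∑ v ∈ s.kset, (ψ : G → ℂ) (s.zp ((a : ZMod p) * i) * v) * conj (t.th v) := by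
        intro ψ
        symm
        refine Finset.sum_nbij (fun v => n * v * n⁻¹) (fun v hv => ?_)
          (fun a _ b _ h => by simpa using h) (fun w hw => ⟨n⁻¹ * w * n, ?_, by group⟩)
          (fun v hv => ?_)
        · obtain ⟨b, hb⟩ := exists_conj_eq hn
          exact s.mem_kset.mpr (s.conj_mem_K one_ne_zero (conj_zp_eq hb 1) (s.mem_kset.mp hv))
        · have := s.conj_mem_K one_ne_zero (conj_zp_eq ha 1) (s.mem_kset.mp hw)
          rw [inv_inv] at this
          exact s.mem_kset.mpr this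
        · have hv' := s.mem_kset.mp hv
          obtain ⟨b, hb⟩ := exists_conj_eq hn
          have hnv := s.conj_mem_K one_ne_zero (conj_zp_eq hb 1) hv'
          have h2 : extFun (η : t.C → ℂ) (n * v * n⁻¹) = t.th v := by
            rw [← hθη _ hnv, ← h1 v hv']
            symm
            refine (extFun_coe _ (⟨v, t.K_le hv'⟩ : t.C)).trans ?_
            exact (extFun_coe (θ' : t.C → ℂ) ⟨_, t.K_le hnv⟩).symm
          rw [h2]
          congr 1
          have e : s.zp i * (n * v * n⁻¹) = n * (s.zp ((a : ZMod p) * i) * v) * n⁻¹ := by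
            conv_lhs => rw [← ha']
            group
          rw [e]
          exact (irr_class ψ _ n).symm
      rw [hsum χ, hsum χ']
      have h3 := hphi ((a : ZMod p) * i) (mul_ne_zero (Units.ne_zero _) hi)
      exact mul_left_cancel₀ (inv_ne_zero s.card_kset_ne_zero) h3
    · have hz : ∀ ψ : IrrCharacter G, ψ ∈ B →
          ∑ w ∈ s.kset, (ψ : G → ℂ) (s.zp i * w) * conj (extFun (η : t.C → ℂ) w) = 0 := by
        intro ψ hψ
        have h := section_eq_zero hM (CyclicBlock.orderOf_zp s hi) t.C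
          (t.hC.trans (s.centralizer_zp hi).symm) t'.isPBlock_blk (χ := ψ)
          (fun hh => hc (isPBlock_eq_blockOf hind.2.1 hψ ▸ hh))
        rw [t'.blockCoeff_blk hM] at h
        have e : (t'.θ : t'.C → ℂ) 1 * t'.phi (ψ : G → ℂ) i = 0 :=
          (t'.sum_coeff_apply (ψ : G → ℂ) i).symm.trans h
        have e2 := (mul_eq_zero.mp e).resolve_left (irr_one_ne_zero t'.θ)
        rw [phi, mul_eq_zero] at e2
        rw [← e2.resolve_left (inv_ne_zero s.card_kset_ne_zero)]
        refine Finset.sum_congr rfl fun w hw => ?_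
        rw [← hθη w (s.mem_kset.mp hw)]
        rfl
      rw [hz χ hχ, hz χ' hχ']
  refine Subtype.ext (funext fun g => ?_)
  by_cases hg : p ∣ orderOf g
  swap
  · exact hreg g hg
  obtain ⟨x, k, w, hk, hw, hx⟩ := exists_conj_singular s hidx hg
  rw [← irr_class χ g x, ← irr_class χ' g x, hx]
  set f : t.C → ℂ := fun c => (χ : G → ℂ) (s.zp k * (c : G)) - (χ' : G → ℂ) (s.zp k * (c : G))
    with hf
  have hfc : IsClassFunction t.C f := fun c d => by
    have hd : (d : G) * s.zp k = s.zp k * (d : G) := by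
      have := d.2
      simp only [t.hC, ← s.centralizer_zp hk, Subgroup.mem_centralizer_singleton_iff] at this
      exact this
    have e : s.zp k * ((d * c * d⁻¹ : t.C) : G) = (d : G) * (s.zp k * (c : G)) * (d : G)⁻¹ := by
      push_cast
      rw [← mul_assoc (d : G), hd]
      group
    simp only [hf, e]
    rw [irr_class χ _ (d : G), irr_class χ' _ (d : G)]
  have h0 : ∀ η : IrrCharacter t.C, classInner f (η : t.C → ℂ) = 0 := by
    intro η
    rw [CharCore.classInner_def]
    refine mul_eq_zero_of_right _ ?_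
    rw [Finset.sum_congr rfl (g := fun c : t.C => ((χ : G → ℂ) (s.zp k * (c : G)) -
      (χ' : G → ℂ) (s.zp k * (c : G))) * conj (extFun (η : t.C → ℂ) c))
      (fun c _ => by rw [extFun_coe]),
      t.sum_C (fun y => ((χ : G → ℂ) (s.zp k * y) - (χ' : G → ℂ) (s.zp k * y)) *
        conj (extFun (η : t.C → ℂ) y))]
    refine Finset.sum_eq_zero fun j _ => ?_
    obtain ⟨l, -, hl⟩ := t.ext_zp_mul η j
    rw [Finset.sum_congr rfl (g := fun v => conj l *
      ((χ : G → ℂ) (s.zp (k + j) * v) * conj (extFun (η : t.C → ℂ) v) -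
        (χ' : G → ℂ) (s.zp (k + j) * v) * conj (extFun (η : t.C → ℂ) v))) (fun v hv => by
      rw [hl v (s.mem_kset.mp hv), map_mul, s.zp_add, mul_assoc]
      ring), ← Finset.mul_sum, Finset.sum_sub_distrib, key, sub_self, mul_zero]
  haveI : Finite (IrrCharacter t.C) := finite_irr
  haveI := Fintype.ofFinite (IrrCharacter t.C)
  have h1 : f ⟨w, t.K_le hw⟩ = 0 := by
    rw [CharCore.eq_sum_classInner hfc]
    simp [h0]
  exact sub_eq_zero.mp h1

omit hM hind hBP hidx

/-- A member of the block with the vector of another and the same regular values is equal. -/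
theorem eq_of_vecO_eq {χ χ' : IrrCharacter G} (hM : IsPModular p M) {B : Set (IrrCharacter G)}
    (hind : IsInducedBlock M t.C (t.blk M) B)
    (hBP : IsDefectGroup p M B (Subgroup.zpowers s.z))
    (hidx : ¬ p ∣ (Subgroup.zpowers s.z).index) (hχ : χ ∈ B) (hχ' : χ' ∈ B)
    (hreg : ∀ g : G, ¬ p ∣ orderOf g → (χ : G → ℂ) g = (χ' : G → ℂ) g)
    (hvec : ∀ o, t.vecO χ o = t.vecO χ' o) : χ = χ' := by
  refine t.eq_of_phi_eq hM hind hBP hidx hχ hχ' hreg fun k hk => ?_
  rw [t.phi_eq_sum_vec χ hk, t.phi_eq_sum_vec χ' hk]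
  refine Finset.sum_congr rfl fun r hr => ?_
  have h1 := t.vec_eq_vecO χ (Units.mk0 r (Finset.ne_of_mem_erase hr))
  have h2 := t.vec_eq_vecO χ' (Units.mk0 r (Finset.ne_of_mem_erase hr))
  rw [Units.val_mk0] at h1 h2
  rw [h1, h2, hvec]

/-- The `p'`-part of the group order kills `p`-regular elements. -/
theorem pow_div_eq_one (hp1 : (Nat.card G).factorization p = 1) {g : G} (hg : ¬ p ∣ orderOf g) :
    g ^ (Nat.card G / p) = 1 := by
  have hp : p.Prime := Fact.out
  rw [← orderOf_dvd_iff_pow_eq_one]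
  have hdvd : p ∣ Nat.card G := by
    have := Nat.ordProj_dvd (Nat.card G) p
    rwa [hp1, pow_one] at this
  refine ((hp.coprime_iff_not_dvd.mpr hg).symm).dvd_of_dvd_mul_left ?_
  rw [Nat.mul_div_cancel' hdvd]
  exact orderOf_dvd_natCard g

variable {σ : ℂ →+* ℂ}

/-- Regular values are fixed. -/
theorem map_regular (hp1 : (Nat.card G).factorization p = 1)
    (hσ : ∀ μ : ℂ, μ ^ (Nat.card G / p) = 1 → σ μ = μ) (χ : IrrCharacter G) {g : G}
    (hg : ¬ p ∣ orderOf g) : σ ((χ : G → ℂ) g) = (χ : G → ℂ) g := by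
  have hg' := pow_div_eq_one hp1 hg
  have hn : Nat.card G / p ≠ 0 := by
    intro h
    have hdvd : p ∣ Nat.card G := by
      have := Nat.ordProj_dvd (Nat.card G) p
      rwa [hp1, pow_one] at this
    have h2 := Nat.mul_div_cancel' hdvd
    rw [h, mul_zero] at h2
    exact Nat.card_pos.ne' h2.symm
  obtain ⟨f, n, ρ, hρ, hρf⟩ := χ
  subst hρf
  show σ (ρ.character g) = ρ.character g
  have h := CharClifford.map_character ρ σ g hn hg' (m := 1) (fun μ hμ => by rw [pow_one]; exact hσ μ hμ)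
  rwa [pow_one] at h

/-- The values of `θ` on `K` are fixed. -/
theorem map_th (hp1 : (Nat.card G).factorization p = 1)
    (hσ : ∀ μ : ℂ, μ ^ (Nat.card G / p) = 1 → σ μ = μ) {w : G} (hw : w ∈ s.K) :
    σ (conj (t.th w)) = conj (t.th w) := by
  haveI := Fintype.ofFinite t.C
  have hwi : w⁻¹ ∈ t.C := inv_mem (t.K_le hw)
  have hc : conj (t.th w) = (t.θ : t.C → ℂ) ⟨w⁻¹, hwi⟩ := by
    rw [show t.th w = (t.θ : t.C → ℂ) ⟨w, t.K_le hw⟩ from t.th_coe ⟨w, t.K_le hw⟩,
      ← CharCore.irr_apply_inv]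
    rfl
  have hreg : ¬ p ∣ orderOf w⁻¹ := by
    rw [orderOf_inv]
    exact fun hd => s.not_dvd (hd.trans (Subgroup.orderOf_dvd_natCard _ hw))
  have hn : Nat.card G / p ≠ 0 := by
    intro h
    have hdvd : p ∣ Nat.card G := by
      have := Nat.ordProj_dvd (Nat.card G) p
      rwa [hp1, pow_one] at this
    have h2 := Nat.mul_div_cancel' hdvd
    rw [h, mul_zero] at h2
    exact Nat.card_pos.ne' h2.symm
  rw [hc]
  obtain ⟨f, n, ρ, hρ, hρf⟩ := t.θ
  subst hρf
  show σ (ρ.character ⟨w⁻¹, hwi⟩) = ρ.character ⟨w⁻¹, hwi⟩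
  have h := CharClifford.map_character ρ σ (⟨w⁻¹, hwi⟩ : t.C) hn
    (Subtype.ext (by push_cast; exact pow_div_eq_one hp1 hreg)) (m := 1)
    (fun μ hμ => by rw [pow_one]; exact hσ μ hμ)
  rwa [pow_one] at h

/-- The averages of a conjugate character. -/
theorem phi_map (hp1 : (Nat.card G).factorization p = 1)
    (hσ : ∀ μ : ℂ, μ ^ (Nat.card G / p) = 1 → σ μ = μ) (f : G → ℂ) (k : ZMod p) :
    t.phi (fun g => σ (f g)) k = σ (t.phi f k) := by
  rw [phi, phi, map_mul, map_inv₀, map_natCast, map_sum]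
  congr 1
  refine Finset.sum_congr rfl fun w hw => ?_
  rw [map_mul, t.map_th hp1 hσ (s.mem_kset.mp hw)]

/-- The exponent by which `σ` moves the `p`-th roots of unity. -/
theorem exists_exponent (σ : ℂ →+* ℂ) :
    ∃ j : (ZMod p)ˣ, ∀ x : ZMod p,
      σ (ZMod.stdAddChar x : ℂ) = ZMod.stdAddChar ((j : ZMod p) * x) := by
  have hp : p.Prime := Fact.out
  obtain ⟨m, hm, hσ⟩ := CharClifford.exists_pow_of_ringHom σ hp.ne_zero
  refine ⟨ZMod.unitOfCoprime m hm, fun x => ?_⟩
  rw [hσ _ (by rw [← AddChar.map_nsmul_eq_pow, nsmul_eq_mul, ZMod.natCast_self, zero_mul,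
    AddChar.map_zero_eq_one]), ← AddChar.map_nsmul_eq_pow, nsmul_eq_mul, ZMod.coe_unitOfCoprime]

/-- The vector of a conjugate character. -/
theorem vec_map (hp1 : (Nat.card G).factorization p = 1)
    (hσ : ∀ μ : ℂ, μ ^ (Nat.card G / p) = 1 → σ μ = μ) {j : (ZMod p)ˣ}
    (hj : ∀ x : ZMod p, σ (ZMod.stdAddChar x : ℂ) = ZMod.stdAddChar ((j : ZMod p) * x))
    {χ ψ : IrrCharacter G} (hψ : (ψ : G → ℂ) = fun g => σ ((χ : G → ℂ) g)) (r : ZMod p) :
    t.vec ψ ((j : ZMod p) * r) = t.vec χ r := by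
  apply Int.cast_injective (α := ℂ)
  rw [t.vec_spec, ← map_intCast σ, t.vec_spec]
  simp only [vecC, vecOf, hψ, map_mul, map_inv₀, map_natCast, map_sum, map_sub, map_one, hj,
    t.phi_map hp1 hσ]
  congr 1
  refine Finset.sum_congr rfl fun k _ => ?_
  congr 3
  ring

end Twist

end Cfsg.Agent.BlocksCore.CyclicTwist
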