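import Cfsg.Agent.Lib.BlocksCore.CyclicTwistGalois
import Cfsg.Agent.S0169

/-!
# Blocks of defect one and the normalizer of their defect group

The twisting character of a block of `G` of defect one restricts to one of the normalizer, so
that a block of the normalizer and the block it induces have equally many members.
-/

set_option linter.unusedSectionVars false

open scoped ComplexConjugate

namespace Cfsg.Agent.BlocksCore.CyclicTwist

open BlocksDefect SmallGroups.SelfCent

variable {G : Type*} [Group G] [Fintype G] {p : ℕ} [Fact p.Prime] {M : Ideal AlgInt}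

/-- A block with a member of degree prime to `p` has defect the whole exponent. -/
theorem blockDefect_of_not_dvd {B : Set (IrrCharacter G)} {χ : IrrCharacter G} (hχ : χ ∈ B)
    (h : ¬ p ∣ charDegree (χ : G → ℂ)) : blockDefect p B = (Nat.card G).factorization p := by
  have h0 : sInf ((fun ψ : IrrCharacter G => (charDegree (ψ : G → ℂ)).factorization p) '' B) = 0 :=
    Nat.eq_zero_of_le_zero (Nat.sInf_le ⟨χ, hχ, Nat.factorization_eq_zero_of_not_dvd h⟩)
  rw [blockDefect, h0, Nat.sub_zero]

/-- A block of defect one has every Sylow subgroup as defect group. -/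
theorem isDefectGroup_zpowers (hM : IsPModular p M) (s : Setup G p)
    (hidx : ¬ p ∣ (Subgroup.zpowers s.z).index) {B : Set (IrrCharacter G)} (hB : IsPBlock M B)
    (hd : blockDefect p B = 1) : IsDefectGroup p M B (Subgroup.zpowers s.z) := by
  classical
  obtain ⟨D, hD⟩ := exists_isDefectGroup hM hB
  have hDc : Nat.card D = p := by rw [defectGroup_natCard hM hB hD, hd, pow_one]
  obtain ⟨Q, hQ⟩ := (IsPGroup.of_card (n := 1) (by rw [hDc, pow_one]) : IsPGroup p D).exists_le_sylow
  have hzz : IsPGroup p (Subgroup.zpowers s.z) :=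
    IsPGroup.of_card (n := 1) (by rw [Nat.card_zpowers, s.orderOf_z, pow_one])
  obtain ⟨x, hx⟩ := MulAction.exists_smul_eq G Q (hzz.toSylow hidx)
  have h := isDefectGroup_map_conj hM hB hD x
  have e : D.map (MulAut.conj x).toMonoidHom = Subgroup.zpowers s.z := by
    refine Subgroup.eq_of_le_of_card_ge ?_ (le_of_eq ?_)
    · rintro _ ⟨d, hd', rfl⟩
      have hm : x * d * x⁻¹ ∈ ((x • Q : Sylow p G) : Subgroup G) := ⟨d, hQ hd', rfl⟩
      rw [hx] at hm
      exact hm
    · rw [natCard_map_conj D x, hDc, Nat.card_zpowers, s.orderOf_z]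
  rwa [e] at h

/-- The degrees of a group with a normal subgroup of order `p` and index prime to `p`. -/
theorem not_dvd_charDegree_of_normal (hidx : ∃ z : G, (Subgroup.zpowers z).Normal ∧
    ¬ p ∣ (Subgroup.zpowers z).index) (χ : IrrCharacter G) :
    ¬ p ∣ charDegree (χ : G → ℂ) := by
  obtain ⟨z, hn, hi⟩ := hidx
  obtain ⟨n, ρ, hρ, hρχ⟩ := χ.2
  have h : Module.finrank ℂ (Fin n → ℂ) ∣ (Subgroup.zpowers z).index := by
    haveI := hρ
    exact S0169.result ρ (Subgroup.zpowers z) fun a ha b hb => by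
      obtain ⟨i, rfl⟩ := Subgroup.mem_zpowers_iff.mp ha
      obtain ⟨j, rfl⟩ := Subgroup.mem_zpowers_iff.mp hb
      rw [← zpow_add, ← zpow_add, add_comm]
  intro hd
  refine hi (hd.trans ?_)
  have e : charDegree (χ : G → ℂ) = Module.finrank ℂ (Fin n → ℂ) := by
    rw [charDegree, ← hρχ, ρ.char_one, Complex.natCast_re, Nat.floor_natCast]
  rwa [e]

namespace Twist

variable {s : Setup G p} (t : Twist s) (hM : IsPModular p M) {B : Set (IrrCharacter G)}
  (hind : IsInducedBlock M t.C (t.blk M) B)
  (hBP : IsDefectGroup p M B (Subgroup.zpowers s.z))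
  (hidx : ¬ p ∣ (Subgroup.zpowers s.z).index)

include hM hind hBP hidx

/-- The number of members. -/
theorem card_eq : Nat.card B = Nat.card t.auto + Nat.card t.Orb := by
  classical
  haveI := Fintype.ofFinite t.Orb
  obtain ⟨f, c, ε, -, -, -, -, -, h⟩ := t.exists_shape hM hind hBP hidx
  rw [h, Nat.card_eq_fintype_card (α := t.Orb)]

/-- The members have degree prime to `p`. -/
theorem not_dvd_charDegree {χ : IrrCharacter G} (hχ : χ ∈ B) :
    ¬ p ∣ charDegree (χ : G → ℂ) := by
  classical
  have hp : p.Prime := Fact.out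
  haveI := Fintype.ofFinite t.Orb
  haveI := Fintype.ofFinite t.C
  obtain ⟨f, c, ε, hε, hfi, hfB, hvf, hcx, -⟩ := t.exists_shape hM hind hBP hidx
  set NN := Subgroup.normalizer ((Subgroup.zpowers s.z : Subgroup G) : Set G) with hNN
  have hf : ¬ p ∣ t.C.relIndex NN := by
    obtain ⟨ν, hν⟩ := t.exists_hom
    rw [Subgroup.relIndex, ← hν, Subgroup.index_ker]
    intro hd
    have h1 := Nat.le_of_dvd Nat.card_pos hd
    have h2 := Nat.le_of_dvd Nat.card_pos (Subgroup.card_subgroup_dvd_card ν.range)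
    rw [Nat.card_eq_fintype_card (α := (ZMod p)ˣ), ZMod.card_units] at h2
    have := hp.two_le
    omega
  have hq : ¬ p ∣ t.T.relIndex NN := fun h =>
    hf (h.trans (Subgroup.relIndex_mul_relIndex _ t.T _ t.C_le_T t.T_le_normalizer ▸ dvd_mul_left _ _))
  have hθ : ¬ p ∣ charDegree (t.θ : t.C → ℂ) := by
    refine not_dvd_charDegree_of_normal ⟨⟨s.z, t.z_mem⟩, ?_, ?_⟩ t.θ
    · refine ⟨fun n hn g => ?_⟩
      obtain ⟨i, rfl⟩ := Subgroup.mem_zpowers_iff.mp hn
      have hc : Commute g (⟨s.z, t.z_mem⟩ : t.C) := Subtype.ext (by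
        have := g.2
        simp only [t.hC, Subgroup.mem_centralizer_singleton_iff] at this
        exact this)
      rw [(hc.zpow_right i).eq, mul_inv_cancel_right]
      exact hn
    · intro h
      have h1 := Subgroup.card_mul_index (Subgroup.zpowers (⟨s.z, t.z_mem⟩ : t.C))
      rw [Nat.card_zpowers, Subgroup.orderOf_mk, s.orderOf_z, t.natCard_C] at h1
      exact s.not_dvd (Nat.eq_of_mul_eq_mul_left hp.pos h1 ▸ h)
  have he : ¬ p ∣ Nat.card t.auto * Nat.card t.Orb := by
    rw [mul_comm, t.card_orb_mul]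
    intro hd
    have h2 := hp.two_le
    have h3 : p ≤ p - 1 := Nat.le_of_dvd (by omega) hd
    omega
  intro hd
  have h := t.charDegree_modEq hM hind hBP hχ
  have h0 : (charDegree (χ : G → ℂ) : ℤ) ≡ 0 [ZMOD p] :=
    Int.modEq_zero_iff_dvd.mpr (Int.natCast_dvd_natCast.mpr hd)
  have h' := Int.modEq_zero_iff_dvd.mp (h.symm.trans h0)
  have hP := Nat.prime_iff_prime_int.mp hp
  rcases hP.dvd_or_dvd h' with h1 | h1
  · rcases hp.dvd_mul.mp (Int.natCast_dvd_natCast.mp h1) with h2 | h2
    · exact hq h2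
    · exact hθ h2
  have hunit : ∀ u : ℤ, (u = 1 ∨ u = -1) → ∀ m : ℕ, (p : ℤ) ∣ (m : ℤ) * u → p ∣ m := by
    rintro u (rfl | rfl) m hm
    · rwa [mul_one, Int.natCast_dvd_natCast] at hm
    · rwa [mul_neg_one, dvd_neg, Int.natCast_dvd_natCast] at hm
  by_cases hY : ∃ i, f i = χ
  · obtain ⟨i, rfl⟩ := hY
    rw [Finset.sum_congr rfl fun o _ => hvf o i, Finset.sum_ite_eq', if_pos (Finset.mem_univ i)] at h1
    exact he ((hunit ε hε _ h1).mul_right _)
  · push Not at hY
    obtain ⟨hc, hv⟩ := hcx χ hχ hY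
    rw [Finset.sum_congr rfl fun o _ => hv o, Finset.sum_const, Finset.card_univ,
      nsmul_eq_mul, ← mul_assoc, ← Nat.cast_mul, ← Nat.card_eq_fintype_card] at h1
    exact he (hunit _ hc _ h1)

omit hBP hidx

/-- The twisting datum of the normalizer. -/
theorem exists_local [Fintype (Subgroup.normalizer ((Subgroup.zpowers s.z : Subgroup G) : Set G))] :
    ∃ (s' : Setup (Subgroup.normalizer ((Subgroup.zpowers s.z : Subgroup G) : Set G)) p)
      (t' : Twist s'), (s'.z : G) = s.z ∧ Nat.card t'.auto = Nat.card t.auto ∧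
      ∀ b, IsInducedBlock M t'.C (t'.blk M) b →
        IsInducedBlock M (Subgroup.normalizer ((Subgroup.zpowers s.z : Subgroup G) : Set G)) b B := by
  classical
  haveI := isPrime hM
  set NN := Subgroup.normalizer ((Subgroup.zpowers s.z : Subgroup G) : Set G) with hNN
  have hzN : s.z ∈ NN := Subgroup.le_normalizer (Subgroup.mem_zpowers s.z)
  have hKN : s.K ≤ NN := t.K_le.trans t.C_le_normalizer
  set C' := t.C.subgroupOf NN with hC'
  have hcent : C' = Subgroup.centralizer ({(⟨s.z, hzN⟩ : NN)} : Set NN) := by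
    ext g
    rw [hC', Subgroup.mem_subgroupOf, t.hC, Subgroup.mem_centralizer_singleton_iff,
      Subgroup.mem_centralizer_singleton_iff]
    exact ⟨fun h => Subtype.ext h, fun h => congrArg Subtype.val h⟩
  let s' : Setup NN p :=
    { z := ⟨s.z, hzN⟩
      K := s.K.subgroupOf NN
      orderOf_z := by rw [Subgroup.orderOf_mk, s.orderOf_z]
      comm := fun w hw => Subtype.ext (s.comm _ hw)
      not_dvd := by
        rw [Nat.card_congr (Subgroup.subgroupOfEquivOfLe hKN).toEquiv]
        exact s.not_dvd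
      card_cent := by
        rw [← hcent, Nat.card_congr (Subgroup.subgroupOfEquivOfLe t.C_le_normalizer).toEquiv,
          Nat.card_congr (Subgroup.subgroupOfEquivOfLe hKN).toEquiv, t.natCard_C] }
  have hzp : ∀ k : ZMod p, ((s'.zp k : NN) : G) = s.zp k := fun k => by
    show ((⟨s.z, hzN⟩ ^ k.val : NN) : G) = s.z ^ k.val
    rw [Subgroup.coe_pow]
  let e : C' ≃* t.C := Subgroup.subgroupOfEquivOfLe t.C_le_normalizer
  haveI := Fintype.ofFinite C'
  let θ' : IrrCharacter C' := ⟨fun c => (t.θ : t.C → ℂ) (e c),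
    CharCore.isIrrCharacter_comp_surjective t.θ.2 e.toMonoidHom e.surjective⟩
  have hzN' : ∀ g : NN, g ∈ Subgroup.normalizer ((Subgroup.zpowers s'.z : Subgroup NN) : Set NN) := by
    intro g
    obtain ⟨a, ha⟩ := exists_conj_eq (s := s) g.2
    refine mem_normalizer_of_conj (s := s') (a := a) (Subtype.ext ?_)
    rw [Subgroup.coe_mul, Subgroup.coe_mul, Subgroup.coe_inv, hzp]
    exact ha
  let t' : Twist s' :=
    { C := C'
      hC := hcent
      θ := θ'
      hθ := fun k c c' h => t.hθ k (e c) (e c') (by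
        show ((c' : NN) : G) = s.zp k * ((c : NN) : G)
        rw [h, Subgroup.coe_mul, hzp])
      T := t.T.subgroupOf NN
      hT := fun g => by
        rw [Subgroup.mem_subgroupOf, t.hT]
        refine ⟨fun h => ⟨hzN' g, fun c c' hc => h.2 (e c) (e c') ?_⟩,
          fun h => ⟨g.2, fun c c' hc => ?_⟩⟩
        · show ((c' : NN) : G) = (g : G) * ((c : NN) : G) * (g : G)⁻¹
          rw [hc]
          rfl
        · have := h.2 (e.symm c) (e.symm c') (Subtype.ext hc)
          simpa [θ'] using this }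
  refine ⟨s', t', rfl, ?_, fun b hb => ?_⟩
  · have ha : t'.auto = t.auto := by
      ext a
      constructor
      · rintro ⟨g, hg, h⟩
        refine ⟨(g : G), hg, ?_⟩
        rw [← hzp, ← h]
        rfl
      · rintro ⟨g, hg, h⟩
        refine ⟨⟨g, t.T_le_normalizer hg⟩, hg, Subtype.ext ?_⟩
        rw [hzp, ← h]
        rfl
    exact congrArg (fun A : Subgroup (ZMod p)ˣ => Nat.card A) ha
  · haveI := Fintype.ofFinite t.C
    have hP : IsPGroup p (Subgroup.zpowers s.z) :=
      IsPGroup.of_card (n := 1) (by rw [Nat.card_zpowers, s.orderOf_z, pow_one])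
    have hCN := centralizer_le_normalizer' (Subgroup.zpowers s.z)
    obtain ⟨B', hB'⟩ := inducedBlockDefined hM hP Subgroup.le_normalizer hCN le_rfl hb.2.1
    obtain ⟨ξ, hξ⟩ := isPBlock_nonempty hb.2.1
    obtain ⟨χ', hχ'⟩ := isPBlock_nonempty hB'.2.1
    obtain ⟨χ, hχ⟩ := isPBlock_nonempty hind.2.1
    set a := blockCoeff B with ha
    have haI : IsIntClassFun M a := isIntClassFun_blockCoeff hM hind.2.1
    have h1 := omega_induced hM hb (mem_blockOf_self θ') hξ
      (isIntClassFun_brRes (P := Subgroup.zpowers s.z) (H := NN) le_rfl haI)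
    have h2 := omega_res_sub_brRes hM hP Subgroup.le_normalizer le_rfl ξ haI
    have h3 := omega_induced hM hB' hξ hχ' haI
    have h4 := omega_induced hM hind (mem_blockOf_self t.θ) hχ haI
    have h5 : omega (θ' : C' → ℂ) (res C' (brRes (Subgroup.zpowers s.z) NN a)) =
        omega (t.θ : t.C → ℂ) (res t.C a) := by
      rw [omega_eq_sum, omega_eq_sum]
      congr 1
      · refine Fintype.sum_equiv e.toEquiv _ _ fun c => ?_
        show brRes _ NN a (c : NN) * _ = a ((c : NN) : G) * _
        rw [brRes_of_mem]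
        · rfl
        rw [BlocksCore.centralizer_zpowers]
        exact (SetLike.ext_iff.mp t.hC _).mp c.2
    rw [h5] at h1
    suffices hB'B : B' = B by rwa [hB'B] at hB'
    refine isPBlock_eq_of_mem hB'.2.1 hind.2.1 hχ' ?_
    by_contra hn
    rw [ha, omega_blockCoeff, Set.indicator_of_mem hχ, Pi.one_apply, ← ha] at h4
    rw [ha, omega_blockCoeff, Set.indicator_of_notMem hn, sub_zero, ← ha] at h3
    have h6 := memLocalIdeal_sub (memLocalIdeal_add h1 (memLocalIdeal_sub h3 h2)) h4
    refine not_memLocalIdeal_one (M := M) ?_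
    convert h6 using 1
    ring

end Twist

end Cfsg.Agent.BlocksCore.CyclicTwist
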