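import Cfsg.Agent.Lib.BlocksCore.StableSimple

/-!
# Equivariant maps to irreducible representations of the normalizer modulo traces

An irreducible representation of the group has an equivariant map, which is no trace, to at most
one irreducible representation of the normalizer of a Sylow subgroup of prime order, and every
one of these occurs.
-/

set_option linter.unusedSectionVars false

namespace Cfsg.Agent.BlocksCore.StableHom

open Finset

universe w

variable {G : Type*} [Group G] {K : Type*} [Field K] {V : Type*} [AddCommGroup V] [Module K V]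
  {S S' : Type w} [AddCommGroup S] [Module K S] [AddCommGroup S'] [Module K S']

/-- A map factoring through the sum of the elements of `P`. -/
def StZeroS (ρ : Representation K G V) (P : Subgroup G) [Fintype P] (f : V →ₗ[K] S) : Prop :=
  ∃ ψ : V →ₗ[K] S, ∀ v, f v = ∑ u : P, ψ (ρ u v)

/-- `f` is equivariant for the representation `σ` of `N`. -/
def IsEquivS (ρ : Representation K G V) {N : Subgroup G} (σ : Representation K N S)
    (f : V →ₗ[K] S) : Prop :=
  ∀ (n : N) (v : V), f (ρ n v) = σ n (f v)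

variable {p : ℕ} [Fact p.Prime] [CharP K p] [Finite G] {P : Subgroup G} {z : G}
  (hs : Setting p P z) [Fintype P] (ρ : Representation K G V)

theorem exists_finS [FiniteDimensional K V] {N : Subgroup G} {σ : Representation K N S}
    {f : V →ₗ[K] S} (hf : IsEquivS ρ σ f) (hfs : ¬ StZeroS ρ P f) :
    ∃ (ρ' : Representation K G (Fin (Module.finrank K V) → K))
      (f' : (Fin (Module.finrank K V) → K) →ₗ[K] S),
      IsEquivS ρ' σ f' ∧ ¬ StZeroS ρ' P f' := by
  set e := (Module.finBasis K V).equivFun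
  refine ⟨(e.conjAlgEquiv K).toMonoidHom.comp ρ, f.comp e.symm.toLinearMap, fun n v => ?_,
    fun ⟨ψ, hψ⟩ => hfs ⟨ψ.comp e.toLinearMap, fun v => ?_⟩⟩
  · show f (e.symm (e (ρ n (e.symm v)))) = _
    rw [LinearEquiv.symm_apply_apply, hf]
    rfl
  · have h := hψ (e v)
    simpa [LinearEquiv.conjAlgEquiv_apply] using h

include hs

theorem stZeroS_iff (f : V →ₗ[K] S) :
    StZeroS ρ P f ↔ ∀ v, ((ρ z - 1) ^ (p - 1)) v = 0 → f v = 0 := by
  constructor
  · rintro ⟨ψ, hψ⟩ v hv
    rw [hψ, ← map_sum, sum_apply_eq hs, hv, map_zero]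
  · intro h
    set A := (ρ z - 1) ^ (p - 1) with hA
    obtain ⟨ψ, hψ⟩ := LinearMap.exists_extend
      (((LinearMap.ker A).liftQ f fun v hv => LinearMap.mem_ker.mpr (h v (LinearMap.mem_ker.mp hv))).comp
        A.quotKerEquivRange.symm.toLinearMap)
    refine ⟨ψ, fun v => ?_⟩
    rw [← map_sum, sum_apply_eq hs, ← hA]
    have h1 := LinearMap.congr_fun hψ ⟨A v, LinearMap.mem_range_self A v⟩
    simp only [LinearMap.comp_apply, Submodule.subtype_apply] at h1
    rw [h1]
    show f v = Submodule.liftQ _ f _ (A.quotKerEquivRange.symm ⟨A v, _⟩)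
    rw [show (⟨A v, LinearMap.mem_range_self A v⟩ : LinearMap.range A) =
      A.quotKerEquivRange (Submodule.Quotient.mk v) from Subtype.ext (by simp),
      LinearEquiv.symm_apply_apply]
    rfl

/-- The key step: two representations without intertwiner cannot both receive maps which are no
traces. -/
theorem false_of_twoS_aux [IsAlgClosed K] [FiniteDimensional K V] [Nontrivial V] [Nontrivial S]
    [FiniteDimensional K S] (hirr : IsIrr ρ)
    {σ : Representation K (Subgroup.normalizer (P : Set G)) S}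
    {τ : Representation K (Subgroup.normalizer (P : Set G)) S'}
    (hσ : ∀ n : Subgroup.normalizer (P : Set G), (n : G) ∈ P → σ n = 1)
    (hτ : ∀ n : Subgroup.normalizer (P : Set G), (n : G) ∈ P → τ n = 1)
    (hσirr : IsIrr σ)
    (hne : ∀ φ : S →ₗ[K] S', (∀ n x, φ (σ n x) = τ n (φ x)) → φ = 0)
    {f : V →ₗ[K] S} {g : V →ₗ[K] S'}
    (hf : IsEquivS ρ σ f) (hg : IsEquivS ρ τ g) (hgs : ¬ StZeroS ρ P g) {i : ℕ}
    (hi : i + 1 ≤ p - 1) {v₀ : V} (hv₀ : ((ρ z - 1) ^ (i + 1)) v₀ = 0) (hfv : f v₀ ≠ 0)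
    (hfk : ∀ w, ((ρ z - 1) ^ i) w = 0 → f w = 0)
    (hgk : ∀ w, ((ρ z - 1) ^ i) w = 0 → g w = 0) : False := by
  classical
  set X := ρ z - 1 with hX
  set P' := P.subgroupOf (Subgroup.normalizer (P : Set G)) with hP'
  haveI : P'.Normal := Subgroup.normal_in_normalizer
  haveI := Fintype.ofFinite (Subgroup.normalizer (P : Set G))
  haveI := Fintype.ofFinite ((Subgroup.normalizer (P : Set G)) ⧸ P')
  set m : K := (Fintype.card ((Subgroup.normalizer (P : Set G)) ⧸ P') : K) with hm
  have hm0 : m ≠ 0 := by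
    rw [hm, Ne, CharP.cast_eq_zero_iff K p, ← Nat.card_eq_fintype_card]
    exact fun hd => hs.not_dvd_index
      (hd.trans (Subgroup.relIndex_dvd_index_of_le Subgroup.le_normalizer))
  have hzf : ∀ {T : Type w} [AddCommGroup T] [Module K T] {κ : Representation K (Subgroup.normalizer (P : Set G)) T}
      {χ : V →ₗ[K] T}, (∀ n : (Subgroup.normalizer (P : Set G)), (n : G) ∈ P → κ n = 1) → IsEquivS ρ κ χ →
      (∀ u : P, ∀ w, χ (ρ (u : G) w) = χ w) ∧ ∀ w, χ (X w) = 0 := by
    intro T _ _ κ χ hκ hχ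
    have h1 : ∀ u : P, ∀ w, χ (ρ (u : G) w) = χ w := fun u w => by
      have h := hχ ⟨u, Subgroup.le_normalizer u.2⟩ w
      rwa [hκ _ u.2, Module.End.one_apply] at h
    exact ⟨h1, fun w => by
      rw [hX, LinearMap.sub_apply, Module.End.one_apply, map_sub, h1 ⟨z, hs.mem⟩, sub_self]⟩
  obtain ⟨hfP, hfX⟩ := hzf hσ hf
  obtain ⟨hgP, hgX⟩ := hzf hτ hg
  -- a section of `f` on the kernel, equivariant modulo the smaller kernel
  obtain ⟨s₀, hs₀X, hfs₀⟩ : ∃ s₀ : S →ₗ[K] V, (∀ x, (X ^ (i + 1)) (s₀ x) = 0) ∧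
      ∀ x, f (s₀ x) = x := by
    set fk := f.comp (LinearMap.ker (X ^ (i + 1))).subtype with hfk'
    have hsurj : LinearMap.range fk = ⊤ := by
      rcases hσirr (LinearMap.range fk) fun n y hy => by
          obtain ⟨w, rfl⟩ := hy
          refine ⟨⟨ρ (n : G) w.1, LinearMap.mem_ker.mpr
            (pow_apply_eq_zero hs ρ n.2 (LinearMap.mem_ker.mp w.2))⟩, ?_⟩
          exact hf n w.1 with h | h
      · exact absurd (LinearMap.congr_fun (LinearMap.range_eq_bot.mp h)
          ⟨v₀, LinearMap.mem_ker.mpr hv₀⟩) hfv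
      · exact h
    obtain ⟨r, hr⟩ := fk.exists_rightInverse_of_surjective hsurj
    exact ⟨(LinearMap.ker (X ^ (i + 1))).subtype.comp r, fun x => LinearMap.mem_ker.mp (r x).2,
      fun x => LinearMap.congr_fun hr x⟩
  set sN : S →ₗ[K] V := m⁻¹ • ∑ q : (Subgroup.normalizer (P : Set G)) ⧸ P', (ρ (q.out : G)).comp (s₀.comp (σ q.out⁻¹)) with hsN
  have hsNa : ∀ x, sN x = m⁻¹ • ∑ q : (Subgroup.normalizer (P : Set G)) ⧸ P', ρ (q.out : G) (s₀ (σ q.out⁻¹ x)) := fun x => by
    simp [hsN, LinearMap.sum_apply]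
  have hσinv : ∀ (n : (Subgroup.normalizer (P : Set G))) x, σ n (σ n⁻¹ x) = x := fun n x => by
    rw [← Module.End.mul_apply, ← map_mul, mul_inv_cancel, map_one, Module.End.one_apply]
  have hsX : ∀ x, (X ^ (i + 1)) (sN x) = 0 := fun x => by
    rw [hsNa, map_smul, map_sum, Finset.sum_eq_zero, smul_zero]
    exact fun q _ => pow_apply_eq_zero hs ρ q.out.2 (hs₀X _)
  have hfsN : ∀ x, f (sN x) = x := fun x => by
    rw [hsNa, map_smul, map_sum, Finset.sum_congr rfl fun q _ => by rw [hf, hfs₀, hσinv],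
      Finset.sum_const, Finset.card_univ, ← Nat.cast_smul_eq_nsmul K, smul_smul, ← hm,
      inv_mul_cancel₀ hm0, one_smul]
  have hsE : ∀ (n : (Subgroup.normalizer (P : Set G))) x, (X ^ i) (ρ (n : G) (sN x) - sN (σ n x)) = 0 := by
    intro n x
    have key : ∑ q : (Subgroup.normalizer (P : Set G)) ⧸ P', ρ (q.out : G) (s₀ (σ q.out⁻¹ (σ n x))) =
        ∑ q : (Subgroup.normalizer (P : Set G)) ⧸ P', ρ (((n : (Subgroup.normalizer (P : Set G)) ⧸ P') * q).out : G)
          (s₀ (σ ((n : (Subgroup.normalizer (P : Set G)) ⧸ P') * q).out⁻¹ (σ n x))) :=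
      (Fintype.sum_equiv (Equiv.mulLeft (n : (Subgroup.normalizer (P : Set G)) ⧸ P')) _ _ fun q => rfl).symm
    rw [hsNa, hsNa, map_smul (ρ (n : G)), map_sum, key, ← smul_sub, map_smul,
      ← Finset.sum_sub_distrib, map_sum, Finset.sum_eq_zero, smul_zero]
    intro q _
    set o : (Subgroup.normalizer (P : Set G)) := ((n : (Subgroup.normalizer (P : Set G)) ⧸ P') * q).out with ho
    have e : (o : (Subgroup.normalizer (P : Set G)) ⧸ P') = (((n * q.out : (Subgroup.normalizer (P : Set G)))) : (Subgroup.normalizer (P : Set G)) ⧸ P') := by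
      rw [QuotientGroup.out_eq', QuotientGroup.mk_mul, QuotientGroup.out_eq']
    have hu : ((o⁻¹ * (n * q.out) : (Subgroup.normalizer (P : Set G))) : G) ∈ P :=
      Subgroup.mem_subgroupOf.mp (QuotientGroup.eq.mp e)
    have h1 : σ o⁻¹ (σ n x) = σ q.out⁻¹ x := by
      have e2 : o⁻¹ * n = (o⁻¹ * (n * q.out)) * q.out⁻¹ := by group
      rw [← Module.End.mul_apply, ← map_mul, e2, map_mul, hσ _ hu, one_mul]
    rw [h1, ← Module.End.mul_apply (ρ (n : G)), ← map_mul, ← Subgroup.coe_mul,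
      show n * q.out = o * (o⁻¹ * (n * q.out)) by group, Subgroup.coe_mul, map_mul,
      Module.End.mul_apply, ← map_sub,
      pow_apply_eq_zero hs ρ o.2 (pow_apply_sub_eq_zero hs ρ (hs₀X _) hu)]
  -- `g` vanishes on the section
  have hgs0 : ∀ x, g (sN x) = 0 := by
    refine LinearMap.congr_fun (hne (g.comp sN) fun n x => ?_)
    have h := hgk _ (hsE n x)
    rw [map_sub, hg, sub_eq_zero] at h
    exact h.symm
  -- a map detecting `X ^ i` of the section
  set R := LinearMap.range (X ^ (i + 1)) with hR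
  obtain ⟨Φ, hΦ1, hΦ0⟩ : ∃ Φ : V →ₗ[K] S, (∀ x, Φ ((X ^ i) (sN x)) = x) ∧
      ∀ w, Φ ((X ^ (i + 1)) w) = 0 := by
    obtain ⟨L, hL⟩ := (R.mkQ.comp ((X ^ i).comp sN)).exists_leftInverse_of_injective (by
      refine LinearMap.ker_eq_bot'.mpr fun x hx => ?_
      obtain ⟨w, hw⟩ := (Submodule.Quotient.mk_eq_zero R).mp hx
      rw [pow_succ, Module.End.mul_apply] at hw
      have h := hfk (sN x - X w) (by rw [map_sub, hw, LinearMap.comp_apply, sub_self])
      rwa [map_sub, hfsN, hfX, sub_zero] at h)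
    refine ⟨L.comp R.mkQ, fun x => LinearMap.congr_fun hL x, fun w => ?_⟩
    show L (R.mkQ ((X ^ (i + 1)) w)) = 0
    rw [Submodule.mkQ_apply, (Submodule.Quotient.mk_eq_zero R).mpr (LinearMap.mem_range_self _ w),
      map_zero]
  set E₀ : Module.End K V :=
    ∑ l ∈ range (i + 1), (X ^ (i - l)).comp (sN.comp (Φ.comp (X ^ l))) with hE₀
  have hE₀a : ∀ w, E₀ w = ∑ l ∈ range (i + 1), (X ^ (i - l)) (sN (Φ ((X ^ l) w))) := fun w => by
    simp [hE₀, LinearMap.sum_apply]
  have hE₀X : X * E₀ = E₀ * X := by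
    refine LinearMap.ext fun w => ?_
    rw [Module.End.mul_apply, Module.End.mul_apply, hE₀a, hE₀a, map_sum]
    rw [Finset.sum_range_succ' (fun l => X ((X ^ (i - l)) (sN (Φ ((X ^ l) w))))),
      Finset.sum_range_succ (fun l => (X ^ (i - l)) (sN (Φ ((X ^ l) (X w)))))]
    simp only [Nat.sub_zero, ← Module.End.mul_apply, ← pow_succ, ← pow_succ', hsX,
      add_zero, hΦ0, map_zero, Nat.sub_self]
    refine Finset.sum_congr rfl fun l hl => ?_
    have : i - (l + 1) + 1 = i - l := by
      have := Finset.mem_range.mp hl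
      omega
    rw [this]
  have hE₀z : ρ z * E₀ = E₀ * ρ z := by
    have e : ρ z = X + 1 := (sub_add_cancel _ _).symm
    rw [e, add_mul, mul_add, hE₀X, one_mul, mul_one]
  have hE₀P : ∀ y ∈ P', ρ.comp (Subgroup.normalizer (P : Set G)).subtype y * E₀ = E₀ * ρ.comp (Subgroup.normalizer (P : Set G)).subtype y := by
    intro y hy
    obtain ⟨a, ha⟩ := hs.exists_pow hy
    show ρ (y : G) * E₀ = E₀ * ρ (y : G)
    rw [show (y : G) = z ^ a from ha.symm, map_pow]
    exact (Commute.pow_left hE₀z a).eq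
  set E := conjSum P' (ρ.comp (Subgroup.normalizer (P : Set G)).subtype) E₀ with hE
  have hEN : ∀ n ∈ (Subgroup.normalizer (P : Set G)), ρ n * E = E * ρ n := fun n hn =>
    conjSum_commute P' (ρ.comp (Subgroup.normalizer (P : Set G)).subtype) E₀ hE₀P ⟨n, hn⟩
  have hEa : ∀ w, E w = ∑ q : (Subgroup.normalizer (P : Set G)) ⧸ P', ρ (q.out : G) (E₀ (ρ ((q.out⁻¹ : (Subgroup.normalizer (P : Set G))) : G) w)) := fun w => by
    rw [hE, conjSum, LinearMap.sum_apply]
    rfl
  have hval : ∀ {T : Type w} [AddCommGroup T] [Module K T] (χ : V →ₗ[K] T),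
      (∀ w, χ (X w) = 0) → ∀ w, χ (E₀ w) = χ (sN (Φ ((X ^ i) w))) := by
    intro T _ _ χ hχ w
    rw [hE₀a, map_sum, Finset.sum_eq_single i]
    · simp
    · intro l hl hli
      obtain ⟨d, hd⟩ : ∃ d, i - l = d + 1 := ⟨i - l - 1, by have := Finset.mem_range.mp hl; omega⟩
      rw [hd, pow_succ', Module.End.mul_apply, hχ]
    · simp
  obtain ⟨c, ψ, hcψ⟩ := exists_scalar hs ρ hirr E hEN
  have hker : ∀ {T : Type w} [AddCommGroup T] [Module K T] (χ : V →ₗ[K] T),
      (∀ u : P, ∀ w, χ (ρ (u : G) w) = χ w) → ∀ w,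
      (X ^ (p - 1)) w = 0 → χ (E w) = c • χ w := by
    intro T _ _ χ hχ w hw
    rw [hcψ, LinearMap.add_apply, LinearMap.smul_apply, Module.End.one_apply, map_add, map_smul,
      LinearMap.sum_apply, map_sum, add_eq_left]
    simp only [Module.End.mul_apply, hχ]
    rw [← map_sum, ← map_sum, Fintype.sum_equiv (Equiv.inv P) (fun u : P => ρ (u : G)⁻¹ w)
      (fun u : P => ρ (u : G) w) (fun u => by simp), sum_apply_eq hs, hw, map_zero, map_zero]
  have hc : c = 0 := by
    by_contra hc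
    refine hgs ((stZeroS_iff hs ρ g).mpr fun w hw => ?_)
    have h1 := hker g hgP w hw
    have h2 : g (E w) = 0 := by
      rw [hEa, map_sum]
      exact Finset.sum_eq_zero fun q _ => by rw [hg, hval g hgX, hgs0, map_zero]
    rw [h2] at h1
    exact (smul_eq_zero.mp h1.symm).resolve_left hc
  obtain ⟨x, hx⟩ := exists_ne (0 : S)
  have hvp : (X ^ (p - 1)) (sN x) = 0 := by
    rw [← Nat.sub_add_cancel hi, pow_add, Module.End.mul_apply, hsX, map_zero]
  have hfin := hker f hfP (sN x) hvp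
  rw [hc, zero_smul, hEa, map_sum, Finset.sum_eq_card_nsmul (b := x)] at hfin
  · rw [Finset.card_univ, ← Nat.cast_smul_eq_nsmul K, smul_eq_zero] at hfin
    exact hfin.elim hm0 hx
  · intro q _
    have h1 := hsE q.out⁻¹ x
    rw [map_sub, sub_eq_zero] at h1
    rw [hf, hval f hfX, hfsN, h1, hΦ1, hσinv]

/-- At most one irreducible representation has an equivariant map which is no trace. -/
theorem false_of_twoS [IsAlgClosed K] [FiniteDimensional K V] [Nontrivial S] [Nontrivial S']
    [FiniteDimensional K S] [FiniteDimensional K S'] (hirr : IsIrr ρ)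
    {σ : Representation K (Subgroup.normalizer (P : Set G)) S}
    {τ : Representation K (Subgroup.normalizer (P : Set G)) S'}
    (hσ : ∀ n : Subgroup.normalizer (P : Set G), (n : G) ∈ P → σ n = 1)
    (hτ : ∀ n : Subgroup.normalizer (P : Set G), (n : G) ∈ P → τ n = 1)
    (hσirr : IsIrr σ) (hτirr : IsIrr τ)
    (hne : ∀ φ : S →ₗ[K] S', (∀ n x, φ (σ n x) = τ n (φ x)) → φ = 0)
    (hne' : ∀ φ : S' →ₗ[K] S, (∀ n x, φ (τ n x) = σ n (φ x)) → φ = 0)
    {f : V →ₗ[K] S} {g : V →ₗ[K] S'}
    (hf : IsEquivS ρ σ f) (hg : IsEquivS ρ τ g) (hfs : ¬ StZeroS ρ P f)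
    (hgs : ¬ StZeroS ρ P g) : False := by
  classical
  haveI : Nontrivial V := by
    by_contra hnt
    rw [not_nontrivial_iff_subsingleton] at hnt
    exact hfs ⟨0, fun v => by simp [Subsingleton.elim v 0]⟩
  have hfs' := hfs
  rw [stZeroS_iff hs] at hfs'
  push Not at hfs'
  obtain ⟨w, hw, hw'⟩ := hfs'
  have hex : ∃ j, ∃ v, ((ρ z - 1 : Module.End K V) ^ j) v = 0 ∧ (f v ≠ 0 ∨ g v ≠ 0) :=
    ⟨p - 1, w, hw, Or.inl hw'⟩
  obtain ⟨v, hv, hv'⟩ := Nat.find_spec hex
  have hle : Nat.find hex ≤ p - 1 := Nat.find_min' hex ⟨w, hw, Or.inl hw'⟩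
  obtain ⟨i, hi⟩ : ∃ i, Nat.find hex = i + 1 := by
    refine Nat.exists_eq_succ_of_ne_zero fun h0 => ?_
    rw [h0, pow_zero, Module.End.one_apply] at hv
    subst hv
    simp at hv'
  rw [hi] at hv hle
  have hk : ∀ w, ((ρ z - 1) ^ i) w = 0 → f w = 0 ∧ g w = 0 := by
    intro w hw
    have := Nat.find_min hex (m := i) (by omega)
    push Not at this
    exact this w hw
  rcases hv' with h | h
  · exact false_of_twoS_aux hs ρ hirr hσ hτ hσirr hne hf hg hgs hle hv h (fun w hw => (hk w hw).1)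
      (fun w hw => (hk w hw).2)
  · exact false_of_twoS_aux hs ρ hirr hτ hσ hτirr hne' hg hf hfs hle hv h
      (fun w hw => (hk w hw).2) (fun w hw => (hk w hw).1)

omit ρ

/-- The induced space carries a map which is no trace. -/
theorem exists_nonzero_mapS [FiniteDimensional K S] [Nontrivial S]
    (σ : Representation K (Subgroup.normalizer (P : Set G)) S)
    (hσ : ∀ n : Subgroup.normalizer (P : Set G), (n : G) ∈ P → σ n = 1) :
    ∃ (n : ℕ) (ρ : Representation K G (Fin n → K)) (f : (Fin n → K) →ₗ[K] S),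
      IsEquivS ρ σ f ∧ ¬ StZeroS ρ P f := by
  classical
  haveI := Fintype.ofFinite G
  let W : Submodule K (G → S) :=
    { carrier := {φ | ∀ (n : Subgroup.normalizer (P : Set G)) (g : G),
        φ ((n : G) * g) = σ n (φ g)}
      add_mem' := fun {a b} ha hb n g => by simp [ha n g, hb n g]
      zero_mem' := fun n g => by simp
      smul_mem' := fun c a ha n g => by simp [ha n g] }
  let ρ : Representation K G W :=
    { toFun := fun x => LinearMap.restrict (LinearMap.funLeft K S (· * x))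
        (fun φ (hφ : φ ∈ W) => fun n g => by
          show φ (n * g * x) = σ n (φ (g * x))
          rw [mul_assoc]
          exact hφ n _)
      map_one' := by
        refine LinearMap.ext fun φ => Subtype.ext (funext fun g => ?_)
        show φ.1 (g * 1) = φ.1 g
        rw [mul_one]
      map_mul' := fun a b => by
        refine LinearMap.ext fun φ => Subtype.ext (funext fun g => ?_)
        show φ.1 (g * (a * b)) = φ.1 (g * a * b)
        rw [mul_assoc] }
  let f : W →ₗ[K] S := (LinearMap.proj 1).comp W.subtype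
  have hf : IsEquivS ρ σ f := fun n φ => by
    show φ.1 (1 * (n : G)) = σ n (φ.1 1)
    rw [one_mul, ← φ.2 n 1, mul_one]
  obtain ⟨x, hx⟩ := exists_ne (0 : S)
  have hfs : ¬ StZeroS ρ P f := by
    rw [stZeroS_iff hs]
    push Not
    set φ₀ : G → S := fun g => if h : g ∈ Subgroup.normalizer (P : Set G) then σ ⟨g, h⟩ x else 0
      with hφ₀d
    have hφ₀ : φ₀ ∈ W := fun n g => by
      by_cases hg : g ∈ Subgroup.normalizer (P : Set G)
      · simp only [φ₀, dif_pos hg, dif_pos (mul_mem n.2 hg), ← Module.End.mul_apply, ← map_mul]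
        rfl
      · simp only [φ₀, dif_neg hg, dif_neg (fun h => hg ((Subgroup.mul_mem_cancel_left _ n.2).mp h)),
          map_zero]
    have hzN : z ∈ Subgroup.normalizer (P : Set G) := Subgroup.le_normalizer hs.mem
    have hfix : (ρ z - 1) ⟨φ₀, hφ₀⟩ = 0 := by
      rw [LinearMap.sub_apply, Module.End.one_apply, sub_eq_zero]
      refine Subtype.ext (funext fun g => ?_)
      show φ₀ (g * z) = φ₀ g
      by_cases hg : g ∈ Subgroup.normalizer (P : Set G)
      · simp only [φ₀, dif_pos hg, dif_pos (mul_mem hg hzN)]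
        rw [show (⟨g * z, mul_mem hg hzN⟩ : Subgroup.normalizer (P : Set G)) = ⟨g, hg⟩ * ⟨z, hzN⟩
          from rfl, map_mul, hσ ⟨z, hzN⟩ hs.mem, mul_one]
      · simp only [φ₀, dif_neg hg,
          dif_neg (fun h => hg ((Subgroup.mul_mem_cancel_right _ hzN).mp h))]
    refine ⟨⟨φ₀, hφ₀⟩, ?_, ?_⟩
    · obtain ⟨i, hi⟩ : ∃ i, p - 1 = i + 1 :=
        ⟨p - 2, by have := (Fact.out : p.Prime).two_le; omega⟩
      rw [hi, pow_succ, Module.End.mul_apply, hfix, map_zero]
    · show φ₀ 1 ≠ 0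
      simp only [φ₀, dif_pos (one_mem (Subgroup.normalizer (P : Set G)))]
      rw [show (⟨1, one_mem _⟩ : Subgroup.normalizer (P : Set G)) = 1 from rfl, map_one,
        Module.End.one_apply]
      exact hx
  exact ⟨_, exists_finS ρ hf hfs⟩

/-- An irreducible representation with a map which is no trace. -/
theorem exists_simpleS [FiniteDimensional K S] [Nontrivial S]
    (σ : Representation K (Subgroup.normalizer (P : Set G)) S)
    (hσ : ∀ n : Subgroup.normalizer (P : Set G), (n : G) ∈ P → σ n = 1) :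
    ∃ (n : ℕ) (ρ : Representation K G (Fin n → K)) (f : (Fin n → K) →ₗ[K] S),
      IsIrr ρ ∧ IsEquivS ρ σ f ∧ ¬ StZeroS ρ P f := by
  classical
  have hex := exists_nonzero_mapS hs σ hσ
  obtain ⟨n, ⟨ρ, f, hf, hfs⟩, hmin⟩ : ∃ n, (∃ (ρ : Representation K G (Fin n → K))
      (f : (Fin n → K) →ₗ[K] S), IsEquivS ρ σ f ∧ ¬ StZeroS ρ P f) ∧
      ∀ m < n, ¬ ∃ (ρ : Representation K G (Fin m → K))
        (f : (Fin m → K) →ₗ[K] S), IsEquivS ρ σ f ∧ ¬ StZeroS ρ P f :=
    ⟨_, Nat.find_spec hex, fun m hm => Nat.find_min hex hm⟩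
  refine ⟨_, ρ, f, fun A hA => ?_, hf, hfs⟩
  by_contra hAne
  push Not at hAne
  have hlt : Module.finrank K A < n := by
    have := Submodule.finrank_lt (lt_top_iff_ne_top.mpr hAne.2).ne
    rwa [Module.finrank_fintype_fun_eq_card, Fintype.card_fin] at this
  have hlt2 : Module.finrank K ((Fin n → K) ⧸ A) < n := by
    have h1 := A.finrank_quotient_add_finrank
    rw [Module.finrank_fintype_fun_eq_card, Fintype.card_fin] at h1
    have := Submodule.one_le_finrank_iff.mpr hAne.1
    omega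
  let ρA : Representation K G A :=
    { toFun := fun g => LinearMap.restrict (ρ g) (hA g)
      map_one' := LinearMap.ext fun a => Subtype.ext (by
        show ρ 1 a.1 = a.1
        rw [map_one]; rfl)
      map_mul' := fun a b => LinearMap.ext fun v => Subtype.ext (by
        show ρ (a * b) v.1 = ρ a (ρ b v.1)
        rw [map_mul]; rfl) }
  have hfA : IsEquivS ρA σ (f.comp A.subtype) := fun m v => hf m v.1
  by_cases hAs : StZeroS ρA P (f.comp A.subtype)
  swap
  · exact hmin _ hlt (exists_finS ρA hfA hAs)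
  obtain ⟨ψ, hψ⟩ := hAs
  obtain ⟨ψ', hψ'⟩ := LinearMap.exists_extend ψ
  set T₀ : (Fin n → K) →ₗ[K] S := ∑ u : P, ψ'.comp (ρ (u : G)) with hT₀
  have hT₀P : ∀ (w : P) (v : Fin n → K), T₀ (ρ (w : G) v) = T₀ v := fun w v => by
    simp only [hT₀, LinearMap.sum_apply, LinearMap.comp_apply]
    refine Fintype.sum_equiv (Equiv.mulRight w) _ _ fun u => ?_
    show _ = ψ' (ρ ((u * w : P) : G) v)
    rw [Subgroup.coe_mul, map_mul]
    rfl
  haveI := Fintype.ofFinite (Subgroup.normalizer (P : Set G))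
  set P' := P.subgroupOf (Subgroup.normalizer (P : Set G)) with hP'
  haveI : P'.Normal := Subgroup.normal_in_normalizer
  haveI := Fintype.ofFinite ((Subgroup.normalizer (P : Set G)) ⧸ P')
  set m : K := (Fintype.card ((Subgroup.normalizer (P : Set G)) ⧸ P') : K) with hm
  have hm0 : m ≠ 0 := by
    rw [hm, Ne, CharP.cast_eq_zero_iff K p, ← Nat.card_eq_fintype_card]
    exact fun hd => hs.not_dvd_index
      (hd.trans (Subgroup.relIndex_dvd_index_of_le Subgroup.le_normalizer))
  have hσinv : ∀ (n : (Subgroup.normalizer (P : Set G))) x, σ n (σ n⁻¹ x) = x := fun n x => by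
    rw [← Module.End.mul_apply, ← map_mul, mul_inv_cancel, map_one, Module.End.one_apply]
  set T : (Fin n → K) →ₗ[K] S := m⁻¹ • ∑ q : (Subgroup.normalizer (P : Set G)) ⧸ P', (σ q.out⁻¹).comp (T₀.comp (ρ (q.out : G)))
    with hT
  have hTa : ∀ v, T v = m⁻¹ • ∑ q : (Subgroup.normalizer (P : Set G)) ⧸ P', σ q.out⁻¹ (T₀ (ρ (q.out : G) v)) := fun v => by
    simp [hT, LinearMap.sum_apply]
  have hTe : IsEquivS ρ σ T := fun a v => by
    rw [hTa, hTa, map_smul, map_sum]
    congr 1
    refine Fintype.sum_equiv (Equiv.mulRight (a : (Subgroup.normalizer (P : Set G)) ⧸ P')) _ _ fun q => ?_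
    rw [Equiv.coe_mulRight]
    set o := (q * (a : (Subgroup.normalizer (P : Set G)) ⧸ P')).out with ho
    have e : (((q.out * a : (Subgroup.normalizer (P : Set G)))) : (Subgroup.normalizer (P : Set G)) ⧸ P') = (o : _ ⧸ P') := by
      rw [ho, QuotientGroup.out_eq', QuotientGroup.mk_mul, QuotientGroup.out_eq']
    obtain ⟨u, hu, hua⟩ : ∃ u : (Subgroup.normalizer (P : Set G)), (u : G) ∈ P ∧ q.out * a = u * o := by
      refine ⟨q.out * a * o⁻¹, ?_, by group⟩
      have h1 := QuotientGroup.eq.mp e.symm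
      have h2 := (inferInstance : P'.Normal).conj_mem _ h1 o
      rw [show o * (o⁻¹ * (q.out * a)) * o⁻¹ = q.out * a * o⁻¹ by group] at h2
      exact Subgroup.mem_subgroupOf.mp h2
    have h1 : σ a * σ o⁻¹ = σ q.out⁻¹ := by
      have e2 : q.out⁻¹ * u = a * o⁻¹ := by
        rw [show u = q.out * a * o⁻¹ by rw [hua]; group]
        group
      rw [← map_mul, ← e2, map_mul, hσ u hu, mul_one]
    have h2 : T₀ (ρ (q.out : G) (ρ (a : G) v)) = T₀ (ρ (o : G) v) := by
      rw [← Module.End.mul_apply, ← map_mul, ← Subgroup.coe_mul, hua, Subgroup.coe_mul, map_mul]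
      exact hT₀P ⟨_, hu⟩ _
    rw [h2, ← h1]
    rfl
  have hTs : StZeroS ρ P T := by
    rw [stZeroS_iff hs]
    intro v hv
    rw [hTa, Finset.sum_eq_zero, smul_zero]
    intro q _
    rw [(stZeroS_iff hs ρ T₀).mp ⟨ψ', fun w => by simp [hT₀, LinearMap.sum_apply]⟩ _
      (pow_apply_eq_zero hs ρ q.out.2 hv), map_zero]
  have hTA : ∀ a ∈ A, T a = f a := by
    intro a ha
    have h0 : ∀ b ∈ A, T₀ b = f b := fun b hb => by
      have := hψ ⟨b, hb⟩
      rw [LinearMap.comp_apply, Submodule.subtype_apply] at this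
      rw [this, hT₀, LinearMap.sum_apply]
      refine Finset.sum_congr rfl fun u _ => ?_
      rw [← hψ']
      rfl
    rw [hTa, Finset.sum_eq_card_nsmul (b := f a), Finset.card_univ, ← Nat.cast_smul_eq_nsmul K,
      smul_smul, ← hm, inv_mul_cancel₀ hm0, one_smul]
    intro q _
    rw [h0 _ (hA _ a ha), hf, ← Module.End.mul_apply, ← map_mul, inv_mul_cancel, map_one,
      Module.End.one_apply]
  let ρq : Representation K G ((Fin n → K) ⧸ A) :=
    { toFun := fun g => A.mapQ A (ρ g) (hA g)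
      map_one' := Submodule.linearMap_qext _ (LinearMap.ext fun v => by
        show Submodule.Quotient.mk (ρ 1 v) = Submodule.Quotient.mk v
        rw [map_one]; rfl)
      map_mul' := fun a b => Submodule.linearMap_qext _ (LinearMap.ext fun v => by
        show Submodule.Quotient.mk (ρ (a * b) v) = Submodule.Quotient.mk (ρ a (ρ b v))
        rw [map_mul]; rfl) }
  let fq : ((Fin n → K) ⧸ A) →ₗ[K] S :=
    A.liftQ (f - T) fun a ha => by
      rw [LinearMap.mem_ker, LinearMap.sub_apply, hTA a ha, sub_self]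
  have hfq : IsEquivS ρq σ fq := fun a v => by
    obtain ⟨v, rfl⟩ := Submodule.Quotient.mk_surjective A v
    show f (ρ a v) - T (ρ a v) = σ a (f v - T v)
    rw [hf, hTe, map_sub]
  refine hmin _ hlt2 (exists_finS ρq hfq fun ⟨χ, hχ⟩ => hfs ?_)
  obtain ⟨φ, hφ⟩ := hTs
  refine ⟨χ.comp A.mkQ + φ, fun v => ?_⟩
  have h1 : f v - T v = ∑ u : P, χ (A.mkQ (ρ (u : G) v)) := hχ (Submodule.Quotient.mk v)
  simp only [LinearMap.add_apply, LinearMap.comp_apply, Finset.sum_add_distrib, ← h1, ← hφ,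
    sub_add_cancel]

/-- A central element acting as one through the centralizer fixes the representation. -/
theorem sum_smul_eq_oneS [IsAlgClosed K] [FiniteDimensional K V] [Fintype G]
    (ρ : Representation K G V) (hirr : IsIrr ρ)
    {σ : Representation K (Subgroup.normalizer (P : Set G)) S}
    (hσ : ∀ n : Subgroup.normalizer (P : Set G), (n : G) ∈ P → σ n = 1)
    {f : V →ₗ[K] S} (hf : IsEquivS ρ σ f) (hfs : ¬ StZeroS ρ P f) (ε : G → K)
    (hε : ∀ g h, ε (h * g * h⁻¹) = ε g)
    [Fintype {g : G // g ∈ Subgroup.centralizer (P : Set G)}]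
    (hD : ∑ g : {g : G // g ∈ Subgroup.centralizer (P : Set G)},
      ε g.1 • σ ⟨g.1, Subgroup.centralizer_le_normalizer _ g.2⟩ = 1) :
    ∑ g, ε g • ρ g = 1 := by
  classical
  haveI : Nontrivial V := by
    by_contra hnt
    rw [not_nontrivial_iff_subsingleton] at hnt
    exact hfs ⟨0, fun v => by simp [Subsingleton.elim v 0]⟩
  set E := ∑ g, ε g • ρ g with hE
  have hEc : ∀ x, ρ x * E = E * ρ x := fun x => by
    rw [hE, Finset.mul_sum, Finset.sum_mul]
    refine Fintype.sum_equiv (MulAut.conj x).toEquiv _ _ fun g => ?_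
    show ρ x * (ε g • ρ g) = ε (x * g * x⁻¹) • ρ (x * g * x⁻¹) * ρ x
    rw [hε, mul_smul_comm, smul_mul_assoc, ← map_mul, ← map_mul, inv_mul_cancel_right]
  obtain ⟨c, hc⟩ := Module.End.exists_eigenvalue E
  have hEv : ∀ v, E v = c • v := by
    have hA := hirr (Module.End.eigenspace E c) fun g v hv => by
      rw [Module.End.mem_eigenspace_iff] at hv ⊢
      rw [← Module.End.mul_apply, ← hEc g, Module.End.mul_apply, hv, map_smul]
    exact fun v => Module.End.mem_eigenspace_iff.mp (hA.resolve_left hc ▸ Submodule.mem_top)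
  suffices c = 1 by
    refine LinearMap.ext fun v => ?_
    rw [hEv, this, one_smul, Module.End.one_apply]
  set C := Subgroup.centralizer (P : Set G) with hC
  have hCN : C ≤ Subgroup.normalizer (P : Set G) := Subgroup.centralizer_le_normalizer _
  have hPC : ∀ u ∈ P, u ∈ C := by
    intro u hu
    rw [hC, Subgroup.mem_centralizer_iff]
    intro v hv
    obtain ⟨a, rfl⟩ := hs.exists_pow hu
    obtain ⟨b, rfl⟩ := hs.exists_pow hv
    rw [← pow_add, ← pow_add, add_comm]
  have hfP : ∀ u : P, ∀ v, f (ρ (u : G) v) = f v := fun u v => by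
    have h := hf ⟨u, Subgroup.le_normalizer u.2⟩ v
    rwa [hσ ⟨(u : G), Subgroup.le_normalizer u.2⟩ u.2, Module.End.one_apply] at h
  let Sc := {g : G // g ∉ C}
  let _ : MulAction P Sc :=
    { smul := fun u g => ⟨(u : G) * g.1 * (u : G)⁻¹, fun h => g.2 (by
        have := mul_mem (mul_mem (inv_mem (hPC _ u.2)) h) (hPC _ u.2)
        simpa [mul_assoc] using this)⟩
      one_smul := fun g => Subtype.ext (by show (1 : G) * g.1 * (1 : G)⁻¹ = g.1; simp)
      mul_smul := fun u v g => Subtype.ext (by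
        show (u : G) * v * g.1 * ((u : G) * v)⁻¹ = u * (v * g.1 * (v : G)⁻¹) * (u : G)⁻¹
        group) }
  have hfree : ∀ (u : P) (g : Sc), u • g = g → u = 1 := by
    intro u g h
    by_contra hu
    refine g.2 ?_
    have h1 : (u : G) * g.1 * (u : G)⁻¹ = g.1 := congrArg Subtype.val h
    show g.1 ∈ Subgroup.centralizer (P : Set G)
    rw [Subgroup.mem_centralizer_iff]
    intro v hv
    have hv' : v ∈ Subgroup.zpowers (u : G) :=
      (hs.zpowers_eq_of_mem u.2 (fun h => hu (Subtype.ext h))).symm ▸ hv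
    obtain ⟨i, rfl⟩ := Subgroup.mem_zpowers_iff.mp hv'
    exact (Commute.zpow_left (show Commute (u : G) g.1 from mul_inv_eq_iff_eq_mul.mp h1) i).eq
  haveI := Fintype.ofFinite (Quotient (MulAction.orbitRel P Sc))
  obtain ⟨w, hw, hfw⟩ : ∃ w, ((ρ z - 1) ^ (p - 1)) w = 0 ∧ f w ≠ 0 := by
    rw [stZeroS_iff hs] at hfs
    push Not at hfs
    exact hfs
  have hout : ∑ g : Sc, f ((ε g.1 • ρ g.1) w) = 0 := by
    rw [sum_eq_sum_free hfree (fun g : Sc => f ((ε g.1 • ρ g.1) w)), Finset.sum_comm]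
    refine Finset.sum_eq_zero fun q _ => ?_
    simp only [LinearMap.smul_apply, map_smul]
    have he : ∀ u : P, ε (u • q.out).1 • f (ρ (u • q.out).1 w) =
        ε q.out.1 • f (ρ q.out.1 (ρ ((u⁻¹ : P) : G) w)) := fun u => by
      show ε ((u : G) * q.out.1 * (u : G)⁻¹) • f (ρ ((u : G) * q.out.1 * (u : G)⁻¹) w) = _
      rw [hε, map_mul, map_mul, Module.End.mul_apply, Module.End.mul_apply, hfP]
      rfl
    rw [Finset.sum_congr rfl fun u _ => he u, ← Finset.smul_sum, ← map_sum, ← map_sum,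
      Fintype.sum_equiv (Equiv.inv P) (fun u : P => ρ ((u⁻¹ : P) : G) w)
        (fun u : P => ρ (u : G) w) (fun u => rfl), sum_apply_eq hs, hw, map_zero, map_zero,
      smul_zero]
  have h1 : f (E w) = f w := by
    rw [hE, LinearMap.sum_apply, map_sum, ← Fintype.sum_subtype_add_sum_subtype (· ∈ C)]
    have hin : ∑ g : {g : G // g ∈ C}, f ((ε g.1 • ρ g.1) w) = f w := by
      conv_rhs => rw [← Module.End.one_apply (R := K) (f w), ← hD]
      rw [LinearMap.sum_apply]
      refine Finset.sum_congr (by congr 1; exact Subsingleton.elim _ _) fun g _ => ?_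
      rw [LinearMap.smul_apply, map_smul, LinearMap.smul_apply]
      exact congrArg (ε g.1 • ·) (hf ⟨g.1, hCN g.2⟩ w)
    have hout' := hout
    conv_rhs => rw [← add_zero (f w)]
    rw [← hin]
    refine congrArg₂ (· + ·) ?_ ?_
    · congr!
    · convert hout' using 1
  rw [hEv, map_smul] at h1
  by_contra hne
  rw [← sub_eq_zero, show c • f w - f w = (c - 1) • f w by rw [sub_smul, one_smul]] at h1
  exact hne (sub_eq_zero.mp ((smul_eq_zero.mp h1).resolve_right hfw))

end Cfsg.Agent.BlocksCore.StableHom
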