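import Cfsg.Agent.Lib.BlocksCore.CyclicTwistBlock
import Cfsg.Agent.Lib.BlocksCore.CyclicRank
import Cfsg.Agent.Lib.BlocksCore.StableRep
import Cfsg.Agent.Lib.BlocksCore.CyclicReps
import Cfsg.Agent.Blocks88.CliffordGallagher
import Cfsg.Agent.CharB.CyclicExt
import Cfsg.Agent.Lib.CharClifford.Clifford
import Mathlib.GroupTheory.FiniteAbelian.Duality

/-!
# A lower bound for the number of characters in a block of defect one
-/

set_option linter.unusedSectionVars false

open scoped ComplexConjugate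

namespace Cfsg.Agent.BlocksCore.CyclicTwist

open BlocksDefect SmallGroups.SelfCent

section Family

variable {N : Type*} [Group N] [Fintype N] (H T : Subgroup N) [hH : H.Normal] [Fintype H]
  [Fintype T]

/-- Irreducible characters over a character whose stabilizer has cyclic quotient. -/
theorem exists_linear_family {ϑ : H → ℂ} (hϑ : IsIrrCharacter H ϑ)
    (hT : ∀ g : N, g ∈ T ↔ ∀ n : H, ϑ ⟨g * n * g⁻¹, hH.conj_mem (n : N) n.2 g⟩ = ϑ n)
    (hHT : H ≤ T) {A : Type*} [CommGroup A] [Finite A] [IsCyclic A] (ν : T →* A)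
    (hker : ν.ker = H.subgroupOf T) :
    ∃ ξ : Fin (Nat.card ν.range) → IrrCharacter N, Function.Injective ξ ∧
      ∀ i, classInner (fun n : H => (ξ i : N → ℂ) n) ϑ ≠ 0 := by
  classical
  haveI hH' : (H.subgroupOf T).Normal := Subgroup.normal_subgroupOf
  have hcyc : IsCyclic (T ⧸ H.subgroupOf T) :=
    isCyclic_of_injective ((QuotientGroup.kerLift ν).comp
      (QuotientGroup.quotientMulEquivOfEq hker.symm).toMonoidHom)
      ((QuotientGroup.kerLift_injective ν).comp (MulEquiv.injective _))
  set e := Subgroup.subgroupOfEquivOfLe hHT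
  have hϑ' : IsIrrCharacter (H.subgroupOf T) (fun x => ϑ (e x)) :=
    CharCore.isIrrCharacter_comp_surjective hϑ e.toMonoidHom e.surjective
  obtain ⟨η, hη, hext'⟩ := CharB.exists_extension_of_cyclic (H.subgroupOf T) hcyc hϑ'
    (fun g n => (hT g).mp g.2 (e n))
  have hext : ∀ n : H, η ⟨n, hHT n.2⟩ = ϑ n := fun n => hext' ⟨⟨n, hHT n.2⟩, n.2⟩
  haveI : HasEnoughRootsOfUnity ℂ (Monoid.exponent ν.range) := inferInstance
  have hcard : Nat.card (ν.range →* ℂˣ) = Nat.card ν.range :=
    CommGroup.card_monoidHom_of_hasEnoughRootsOfUnity ν.range ℂ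
  haveI : Finite (ν.range →* ℂˣ) := Nat.finite_of_card_ne_zero (by rw [hcard]; exact Nat.card_pos.ne')
  let eq := (Finite.equivFinOfCardEq hcard).symm
  let β : Fin (Nat.card ν.range) → T → ℂ := fun i t =>
    (((eq i).comp ν.rangeRestrict t : ℂˣ) : ℂ)
  have hβ : ∀ i, IsIrrCharacter T (β i) := fun i =>
    CharCore.isIrrCharacter_hom ((eq i).comp ν.rangeRestrict)
  have hinv : ∀ i (n : H.subgroupOf T) t, β i ((n : T) * t) = β i t := fun i n t => by
    have h1 : ν.rangeRestrict (n : T) = 1 :=
      Subtype.ext (MonoidHom.mem_ker.mp (by rw [hker]; exact n.2))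
    simp only [β, MonoidHom.comp_apply, map_mul, h1, one_mul, map_one]
  have hspec := fun i => Blocks88.ind_spec H hϑ T hT hHT hη hext (hβ i) (hinv i)
  refine ⟨fun i => ⟨_, (hspec i).1⟩, fun i j h => ?_, fun i => (hspec i).2.1⟩
  have h1 : Cfsg.indFun T (β i * η) = Cfsg.indFun T (β j * η) := congrArg Subtype.val h
  have h2 : β i = β j := by rw [← (hspec i).2.2, h1, (hspec j).2.2]
  refine eq.injective (MonoidHom.ext fun x => ?_)
  obtain ⟨t, rfl⟩ := ν.rangeRestrict_surjective x
  exact Units.ext (congrFun h2 t)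

end Family

namespace Twist

variable {G : Type*} [Group G] [Fintype G] {p : ℕ} [Fact p.Prime] {s : Setup G p} (t : Twist s)

/-- The action of the normalizer on `⟨z⟩`. -/
theorem exists_hom :
    ∃ ν : Subgroup.normalizer ((Subgroup.zpowers s.z : Subgroup G) : Set G) →* (ZMod p)ˣ,
      ν.ker = t.C.subgroupOf _ := by
  choose a ha using fun g : Subgroup.normalizer ((Subgroup.zpowers s.z : Subgroup G) : Set G) =>
    exists_conj_eq g.2
  have hu : ∀ (g : Subgroup.normalizer ((Subgroup.zpowers s.z : Subgroup G) : Set G))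
      (b : (ZMod p)ˣ), (g : G) * s.z * (g : G)⁻¹ = s.zp (b : ZMod p) → a g = b :=
    fun g b h => Units.ext (s.zp_injective ((ha g).symm.trans h))
  refine ⟨MonoidHom.mk' a fun x y => hu _ _ (by
    have := conj_zp_eq (ha x) (a y : ZMod p)
    rw [← ha y] at this
    rw [Units.val_mul, ← this, Subgroup.coe_mul]
    group), ?_⟩
  ext g
  rw [MonoidHom.mem_ker, Subgroup.mem_subgroupOf, t.hC, Subgroup.mem_centralizer_singleton_iff]
  constructor
  · intro h
    have h' := ha g
    rw [show a g = 1 from h, Units.val_one, s.zp_one, mul_inv_eq_iff_eq_mul] at h'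
    exact h'
  · intro h
    exact hu g 1 (by rw [Units.val_one, s.zp_one, h, mul_inv_cancel_right])

theorem z_mem : s.z ∈ t.C := by
  have := t.zp_mem 1
  rwa [s.zp_one] at this

/-- Irreducible characters of the normalizer over `θ`. -/
theorem exists_chars :
    ∃ ξ : Fin (Nat.card t.auto) →
        IrrCharacter (Subgroup.normalizer ((Subgroup.zpowers s.z : Subgroup G) : Set G)),
      Function.Injective ξ ∧
      (∀ i (n u : Subgroup.normalizer ((Subgroup.zpowers s.z : Subgroup G) : Set G)), (u : G) ∈ Subgroup.zpowers s.z →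
        (ξ i : Subgroup.normalizer ((Subgroup.zpowers s.z : Subgroup G) : Set G) → ℂ) (n * u) =
        (ξ i : Subgroup.normalizer ((Subgroup.zpowers s.z : Subgroup G) : Set G) → ℂ) n) ∧
      ∀ (ε : G → ℂ), IsClassFunction G ε → ∀ [Fintype t.C] i
        (n : Subgroup.normalizer ((Subgroup.zpowers s.z : Subgroup G) : Set G)),
        ∑ c : t.C, ε c *
          (ξ i : Subgroup.normalizer ((Subgroup.zpowers s.z : Subgroup G) : Set G) → ℂ)
            (⟨c, t.C_le_normalizer c.2⟩ * n) =
        omega (t.θ : t.C → ℂ) (res t.C ε) *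
          (ξ i : Subgroup.normalizer ((Subgroup.zpowers s.z : Subgroup G) : Set G) → ℂ) n := by
  classical
  set NN := Subgroup.normalizer ((Subgroup.zpowers s.z : Subgroup G) : Set G) with hNN
  set C' := t.C.subgroupOf NN with hC'
  set T' := t.T.subgroupOf NN with hT'
  obtain ⟨ν, hν⟩ := t.exists_hom
  haveI hCn : C'.Normal := by rw [hC', ← hν]; infer_instance
  haveI := Fintype.ofFinite C'
  haveI := Fintype.ofFinite T'
  set e := Subgroup.subgroupOfEquivOfLe t.C_le_normalizer with he
  set ϑ : C' → ℂ := fun x => (t.θ : t.C → ℂ) (e x) with hϑd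
  have hϑ : IsIrrCharacter C' ϑ :=
    CharCore.isIrrCharacter_comp_surjective t.θ.2 e.toMonoidHom e.surjective
  have hT : ∀ g : NN, g ∈ T' ↔ ∀ n : C', ϑ ⟨g * n * g⁻¹, Subgroup.Normal.conj_mem ‹C'.Normal›
      (n : NN) n.2 g⟩ = ϑ n := by
    intro g
    rw [hT', Subgroup.mem_subgroupOf, t.hT]
    refine ⟨fun h n => h.2 (e n) _ rfl, fun h => ⟨g.2, fun c c' hc => ?_⟩⟩
    have := h (e.symm c)
    simp only [hϑd, MulEquiv.apply_symm_apply] at this
    rw [← this]
    exact congrArg _ (Subtype.ext hc)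
  have hHT : C' ≤ T' := fun g hg => t.C_le_T hg
  have hker : (ν.comp T'.subtype).ker = C'.subgroupOf T' := by
    rw [← MonoidHom.comap_ker, hν]
    rfl
  have hcard : Nat.card (ν.comp T'.subtype).range = Nat.card t.auto := by
    rw [← Subgroup.index_ker, hker, ← t.relIndex_eq, ← Subgroup.relIndex,
      Subgroup.relIndex_subgroupOf t.T_le_normalizer]
  obtain ⟨ξ, hinj, hover⟩ := exists_linear_family C' T' hϑ hT hHT (ν.comp T'.subtype) hker
  -- constituents of the restriction
  have hres : ∀ i, ∀ η : IrrCharacter C', classInner (fun c : C' => (ξ i : NN → ℂ) c) η ≠ 0 →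
      ∃ x : NN, (η : C' → ℂ) = CharClifford.conjFun C' x ϑ := fun i η hη =>
    CharClifford.exists_conjFun_eq_of_constituents C' (ξ i).2 hϑ η.2 (hover i) hη
  have hdec : ∀ i, ∀ c : C', (ξ i : NN → ℂ) c = ∑ η : IrrCharacter C',
      classInner (fun c : C' => (ξ i : NN → ℂ) c) η * (η : C' → ℂ) c := fun i c => by
    have h := CharCore.IsCharacter.eq_sum_classInner
      (CharCore.isCharacter_restrict (CharCore.irr_isCharacter (ξ i)) C')
    refine (congrFun h c).trans ?_
    simp only [Finset.sum_apply, Pi.smul_apply, smul_eq_mul]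
  have hfix : ∀ i, ∀ u : C', ((u : NN) : G) ∈ Subgroup.zpowers s.z →
      (ξ i : NN → ℂ) (u : NN) = (ξ i : NN → ℂ) 1 := by
    intro i u hu
    rw [show (1 : NN) = ((1 : C') : NN) from rfl, hdec i u, hdec i 1]
    refine Finset.sum_congr rfl fun η _ => ?_
    by_cases hη : classInner (fun c : C' => (ξ i : NN → ℂ) c) η = 0
    · rw [hη, zero_mul, zero_mul]
    congr 1
    obtain ⟨x, hx⟩ := hres i η hη
    rw [hx, CharClifford.conjFun_apply, CharClifford.conjFun_apply, hϑd]
    have hmem : ∀ y : C', ((y : NN) : G) ∈ Subgroup.zpowers s.z →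
        (t.θ : t.C → ℂ) (e y) = (t.θ : t.C → ℂ) 1 := by
      intro y hy
      obtain ⟨j, hj : s.z ^ j = ((y : NN) : G)⟩ :=
        ((isOfFinOrder_of_finite s.z).mem_powers_iff_mem_zpowers).mpr hy
      refine t.hθ (j : ZMod p) 1 (e y) ?_
      rw [s.zp_natCast, OneMemClass.coe_one, mul_one, hj]
      rfl
    refine (hmem _ ?_).trans (hmem _ ?_).symm
    · have := (Subgroup.mem_normalizer_iff.mp (x⁻¹).2 ((u : NN) : G)).mp hu
      have h' := (Subgroup.mem_normalizer_iff.mp x.2 ((u : NN) : G)).mp hu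
      simp only [Subgroup.coe_inv, inv_inv] at this
      push_cast
      first | exact this | exact h'
    · push_cast
      simp [one_mem]
  have hsum : ∀ (ε : G → ℂ), IsClassFunction G ε → ∀ [Fintype t.C], ∀ i,
      ∑ c : C', ε ((c : NN) : G) * (ξ i : NN → ℂ) c =
        omega (t.θ : t.C → ℂ) (res t.C ε) * (ξ i : NN → ℂ) 1 := by
    intro ε hε _ i
    have hev : ∀ η : IrrCharacter C', classInner (fun c : C' => (ξ i : NN → ℂ) c) η ≠ 0 →
        ∑ c : C', ε ((c : NN) : G) * (η : C' → ℂ) c =
          omega (t.θ : t.C → ℂ) (res t.C ε) * (η : C' → ℂ) 1 := by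
      intro η hη
      obtain ⟨x, hx⟩ := hres i η hη
      have h1 : (η : C' → ℂ) 1 = (t.θ : t.C → ℂ) 1 := by
        rw [hx, CharClifford.conjFun_apply]
        show (t.θ : t.C → ℂ) (e _) = _
        refine congrArg _ (Subtype.ext ?_)
        push_cast
        simp only [mul_one, mul_inv_cancel]
        exact congrArg (Subtype.val : t.C → G) (map_one e)
      have h2 : omega (t.θ : t.C → ℂ) (res t.C ε) * (t.θ : t.C → ℂ) 1 =
          ∑ c : t.C, ε c * (t.θ : t.C → ℂ) c := by
        rw [omega_eq_sum, div_mul_cancel₀ _ (irr_one_ne_zero t.θ)]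
        rfl
      rw [h1, h2]
      refine Fintype.sum_equiv ((MulAut.conjNormal x : MulAut C').toEquiv.trans e.toEquiv) _ _
        fun c => ?_
      rw [hx, CharClifford.conjFun_apply]
      show _ = ε ((x : G) * ((c : NN) : G) * (x : G)⁻¹) * _
      rw [hε]
      rfl
    rw [show (1 : NN) = ((1 : C') : NN) from rfl, hdec i 1, Finset.mul_sum,
      Finset.sum_congr rfl fun c _ => by rw [hdec i c, Finset.mul_sum], Finset.sum_comm]
    refine Finset.sum_congr rfl fun η _ => ?_
    by_cases hη : classInner (fun c : C' => (ξ i : NN → ℂ) c) η = 0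
    · simp [hη]
    rw [mul_left_comm, ← hev η hη, Finset.mul_sum]
    exact Finset.sum_congr rfl fun c _ => mul_left_comm _ _ _
  refine ⟨fun i => ξ (Fin.cast hcard.symm i), fun i j h => Fin.cast_injective _ (hinj h), ?_, ?_⟩
  · intro i' n u hu
    set i := Fin.cast hcard.symm i'
    have huC : u ∈ C' := by
      obtain ⟨k, hk : s.z ^ k = (u : G)⟩ :=
        ((isOfFinOrder_of_finite s.z).mem_powers_iff_mem_zpowers).mpr hu
      show (u : G) ∈ t.C
      rw [← hk]
      exact pow_mem t.z_mem k
    have h1 := hfix i ⟨u, huC⟩ hu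
    obtain ⟨d, ρ, hρ, hρf⟩ := (ξ i).2
    rw [← hρf] at h1 ⊢
    have h2 : ρ u = 1 := CharClifford.eq_one_of_character_eq_finrank ρ u (by
      rw [h1, ρ.char_one])
    show LinearMap.trace ℂ _ (ρ (n * u)) = LinearMap.trace ℂ _ (ρ n)
    rw [map_mul, h2, mul_one]
  · intro ε hε _ i' n
    set i := Fin.cast hcard.symm i'
    have hs1 := hsum ε hε i
    obtain ⟨d, ρ, hρ, hρf⟩ := (ξ i).2
    rw [← hρf] at hs1 ⊢
    set Z := ∑ c : C', ε ((c : NN) : G) • ρ (c : NN) with hZ
    have hc : ∀ g, Z * ρ g = ρ g * Z := fun g => by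
      rw [hZ, Finset.mul_sum, Finset.sum_mul]
      symm
      refine Fintype.sum_equiv (MulAut.conjNormal g : MulAut C').toEquiv _ _ fun c => ?_
      show ρ g * (ε ((c : NN) : G) • ρ (c : NN)) =
        ε ((g * (c : NN) * g⁻¹ : NN) : G) • ρ (g * (c : NN) * g⁻¹) * ρ g
      rw [Subgroup.coe_mul, Subgroup.coe_mul, Subgroup.coe_inv, hε, mul_smul_comm, smul_mul_assoc,
        ← map_mul, ← map_mul, inv_mul_cancel_right]
    obtain ⟨l, hl⟩ := CharClifford.exists_scalar_of_commute ρ Z hc
    have hl' : l = omega (t.θ : t.C → ℂ) (res t.C ε) := by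
      have h3 := congrArg (LinearMap.trace ℂ _) hl
      simp only [hZ, map_sum, map_smul, smul_eq_mul] at h3
      refine mul_right_cancel₀ (b := ρ.character 1) ?_ ?_
      · rw [hρf]; exact CharCore.irr_apply_one_ne_zero (ξ i)
      · rw [← hs1, Representation.character, map_one, ← h3]
        rfl
    have h4 := congrArg (fun T => LinearMap.trace ℂ _ (T * ρ n)) hl
    simp only [hZ, Finset.sum_mul, smul_mul_assoc, one_mul, map_sum, map_smul, smul_eq_mul,
      ← map_mul] at h4
    rw [← hl']
    refine Eq.trans ?_ h4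
    exact Fintype.sum_equiv e.symm.toEquiv _ _ fun c => rfl

variable {M : Ideal AlgInt} (hM : IsPModular p M) {B : Set (IrrCharacter G)}
  (hind : IsInducedBlock M t.C (t.blk M) B)
  (hBP : IsDefectGroup p M B (Subgroup.zpowers s.z))
  (hidx : ¬ p ∣ (Subgroup.zpowers s.z).index)

include hM hind hBP hidx

theorem blockDefect_eq : blockDefect p B = 1 ∧ (Nat.card G).factorization p = 1 := by
  have hp : p.Prime := Fact.out
  have h := defectGroup_natCard hM hind.2.1 hBP
  rw [Nat.card_zpowers, s.orderOf_z] at h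
  refine ⟨(Nat.pow_right_injective hp.two_le (h.symm.trans (pow_one p).symm)), ?_⟩
  rw [← Subgroup.card_mul_index (Subgroup.zpowers s.z), Nat.card_zpowers, s.orderOf_z,
    Nat.factorization_mul hp.ne_zero Subgroup.index_ne_zero_of_finite, Finsupp.add_apply,
    hp.factorization_self, Nat.factorization_eq_zero_of_not_dvd hidx]

/-- Some member has degree prime to `p`. -/
theorem exists_not_dvd_degree :
    ∃ χ ∈ B, ¬ p ∣ charDegree (χ : G → ℂ) := by
  have hp : p.Prime := Fact.out
  have := isPrime hM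
  obtain ⟨h1, h2⟩ := t.blockDefect_eq hM hind hBP hidx
  obtain ⟨χ₀, hχ₀⟩ := isPBlock_nonempty hind.2.1
  obtain ⟨χ, hχ, hmin⟩ := Nat.sInf_mem (s := (fun ψ : IrrCharacter G =>
    (charDegree (ψ : G → ℂ)).factorization p) '' B) ⟨_, χ₀, hχ₀, rfl⟩
  refine ⟨χ, hχ, fun hd => ?_⟩
  have h3 : 1 ≤ (charDegree (χ : G → ℂ)).factorization p :=
    hp.factorization_pos_of_dvd (charDegree_pos χ).ne' hd
  simp only at hmin
  rw [blockDefect, h2, ← hmin] at h1
  omega

/-- No member has all multiplicities zero. -/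
theorem exists_vecO_ne_zero {χ : IrrCharacter G} (hχ : χ ∈ B) : ∃ o : t.Orb, t.vecO χ o ≠ 0 := by
  classical
  have := isPrime hM
  have hp : p.Prime := Fact.out
  by_contra hno
  push Not at hno
  have hzero : ∀ k : ZMod p, k ≠ 0 → (χ : G → ℂ) (s.zp k) = 0 := by
    intro k hk
    obtain ⟨F, hF, h⟩ := t.apply_zp hM hind hBP hk hχ
    rw [h, Finset.sum_eq_zero, mul_zero]
    intro i _
    rw [t.phi_of_const χ 0 hno (hF i), Int.cast_zero, neg_zero]
  have hcard : Nat.card (Subgroup.zpowers s.z) = p := by rw [Nat.card_zpowers, s.orderOf_z]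
  have hvan : ∀ g : G, orderOf g = p → (χ : G → ℂ) g = 0 := by
    intro g hg
    let S : Sylow p G := (IsPGroup.of_card (n := 1) (by rw [hcard, pow_one]) :
      IsPGroup p (Subgroup.zpowers s.z)).toSylow hidx
    obtain ⟨T, hT⟩ := (IsPGroup.of_card (n := 1) (by rw [Nat.card_zpowers, hg, pow_one]) :
      IsPGroup p (Subgroup.zpowers g)).exists_le_sylow
    obtain ⟨c, hc⟩ := MulAction.exists_smul_eq G T S
    have hmem : c * g * c⁻¹ ∈ Subgroup.zpowers s.z := by
      show c * g * c⁻¹ ∈ (S : Subgroup G)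
      rw [← hc]
      exact ⟨g, hT (Subgroup.mem_zpowers g), rfl⟩
    obtain ⟨j, hj : s.z ^ j = c * g * c⁻¹⟩ :=
      ((isOfFinOrder_of_finite s.z).mem_powers_iff_mem_zpowers).mpr hmem
    rw [← s.zp_natCast] at hj
    have hj0 : (j : ZMod p) ≠ 0 := fun h0 => by
      rw [h0, s.zp_zero, eq_comm, conj_eq_one_iff] at hj
      rw [hj, orderOf_one] at hg
      exact hp.ne_one hg.symm
    rw [← irr_class χ g c, ← hj, hzero _ hj0]
  obtain ⟨h1, h2⟩ := t.blockDefect_eq hM hind hBP hidx
  obtain ⟨ψ, hψ, hψd⟩ := t.exists_not_dvd_degree hM hind hBP hidx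
  have hd := factorization_charDegree_of_vanishes χ hvan
  have hB : B = {χ} := by
    refine (isPBlock_eq_blockOf hind.2.1 hχ).trans (blockOf_eq_singleton_of_not_dvd hM χ fun hdvd => ?_)
    have h3 := hp.factorization_pos_of_dvd (Nat.div_pos (Nat.le_of_dvd Nat.card_pos
      (charDegree_dvd_card χ)) (charDegree_pos χ)).ne' hdvd
    rw [Nat.factorization_div (charDegree_dvd_card χ), Finsupp.tsub_apply, hd] at h3
    omega
  rw [hB] at hψ
  rw [Set.mem_singleton_iff.mp hψ] at hψd
  exact hψd (Nat.dvd_of_factorization_pos (n := charDegree (χ : G → ℂ)) (by rw [hd, h2]; exact one_ne_zero))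

variable [M.IsPrime] {K' : Type*} [Field K'] [IsAlgClosed K'] [CharP K' p] (ι : Res M →+* K')

open CyclicRank StableHom in
include ι in
/-- A block of defect one has at least `e + (p - 1) / e` members. -/
theorem card_ge : Nat.card t.auto + Nat.card t.Orb ≤ Nat.card B := by
  classical
  have := isPrime hM
  have hp : p.Prime := Fact.out
  haveI := Fintype.ofFinite t.Orb
  haveI := Fintype.ofFinite t.C
  set P := Subgroup.zpowers s.z with hP
  haveI := Fintype.ofFinite P
  have hs : Setting p P s.z := ⟨rfl, s.orderOf_z, hidx⟩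
  have hex := t.exists_chars
  set e := Nat.card t.auto with he
  obtain ⟨ξ, hξinj, hξP, hξε⟩ := hex
  haveI := Fintype.ofFinite (Subgroup.normalizer (P : Set G))
  set P' := P.subgroupOf (Subgroup.normalizer (P : Set G)) with hP'
  haveI : P'.Normal := Subgroup.normal_in_normalizer
  haveI := Fintype.ofFinite P'
  haveI := Fintype.ofFinite ((Subgroup.normalizer (P : Set G)) ⧸ P')
  have hQ : (Fintype.card ((Subgroup.normalizer (P : Set G)) ⧸ P') : K') ≠ 0 := by
    rw [Ne, CharP.cast_eq_zero_iff K' p, ← Nat.card_eq_fintype_card]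
    exact fun hd => hidx (hd.trans (Subgroup.relIndex_dvd_index_of_le Subgroup.le_normalizer))
  have hεm := isIntClassFun_blockCoeff hM hind.2.1
  set ε : G → K' := fun g => R ι (blockCoeff B g) with hε
  have hωm : MemLocalRing M (omega (t.θ : t.C → ℂ) (res t.C (blockCoeff B))) ∧ R ι (omega (t.θ : t.C → ℂ) (res t.C (blockCoeff B))) = 1 := by
    obtain ⟨χ, hχ⟩ := isPBlock_nonempty hind.2.1
    have h1 := omega_induced hM hind (mem_blockOf_self t.θ) hχ hεm
    rw [omega_blockCoeff, Set.indicator_of_mem hχ, Pi.one_apply] at h1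
    have h2 : MemLocalRing M (omega (t.θ : t.C → ℂ) (res t.C (blockCoeff B))) := by
      have := (localRing M).add_mem (memLocalRing_of_memLocalIdeal h1) (localRing M).one_mem
      simpa using this
    exact ⟨h2, by rw [← R_one ι, R_eq ι h2 (localRing M).one_mem h1]⟩
  let τ : Fin e → ((Subgroup.normalizer (P : Set G)) ⧸ P') → K' := fun i q =>
    R ι ((ξ i : (Subgroup.normalizer (P : Set G)) → ℂ) q.out⁻¹)
  have hτ : ∀ i (n : Subgroup.normalizer (P : Set G)), τ i (n : (Subgroup.normalizer (P : Set G)) ⧸ P') =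
      R ι ((ξ i : (Subgroup.normalizer (P : Set G)) → ℂ) n⁻¹) := by
    intro i n
    obtain ⟨⟨u, hu⟩, hnu⟩ := QuotientGroup.mk_out_eq_mul P' n
    simp only [τ]
    rw [show (n : (Subgroup.normalizer (P : Set G)) ⧸ P').out = n * u from hnu, mul_inv_rev]
    congr 1
    have h := irr_class (ξ i) (u⁻¹ * n⁻¹) u
    rw [show u * (u⁻¹ * n⁻¹) * u⁻¹ = n⁻¹ * u⁻¹ by group] at h
    rw [← h]
    exact hξP i _ _ (Subgroup.mem_subgroupOf.mp (inv_mem hu))
  let κ : t.C → ((Subgroup.normalizer (P : Set G)) ⧸ P') := fun c =>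
    ((⟨c, t.C_le_normalizer c.2⟩ : Subgroup.normalizer (P : Set G)) :
      (Subgroup.normalizer (P : Set G)) ⧸ P')
  let w : ((Subgroup.normalizer (P : Set G)) ⧸ P') → K' := fun q =>
    ∑ c ∈ Finset.univ.filter (fun c => κ c = q), ε c
  have hwsum : ∀ {A : Type _} [AddCommMonoid A] [Module K' A]
      (F : ((Subgroup.normalizer (P : Set G)) ⧸ P') → A),
      ∑ q, w q • F q = ∑ c : t.C, ε c • F (κ c) := by
    intro A _ _ F
    simp only [w, Finset.sum_smul]
    rw [← Finset.sum_fiberwise_of_maps_to (t := Finset.univ) (g := κ)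
      (fun c _ => Finset.mem_univ _)]
    exact Finset.sum_congr rfl fun q _ => Finset.sum_congr rfl fun c hc => by
      rw [(Finset.mem_filter.mp hc).2]
  have hfix : ∀ i q, ∑ x, w x * τ i (x⁻¹ * q) = τ i q := by
    intro i q
    obtain ⟨n, rfl⟩ := QuotientGroup.mk_surjective q
    have h1 : ∀ c : t.C, τ i ((κ c)⁻¹ * (n : (Subgroup.normalizer (P : Set G)) ⧸ P')) =
        R ι ((ξ i : (Subgroup.normalizer (P : Set G)) → ℂ) (⟨c, t.C_le_normalizer c.2⟩ * n⁻¹)) := by
      intro c
      simp only [κ]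
      rw [← QuotientGroup.mk_inv, ← QuotientGroup.mk_mul, hτ, mul_inv_rev, inv_inv]
      congr 1
      have h := irr_class (ξ i) (n⁻¹ * (⟨c, t.C_le_normalizer c.2⟩ : Subgroup.normalizer (P : Set G))) n
      rw [← h]
      congr 1
      group
    refine (hwsum (fun x => τ i (x⁻¹ * (n : (Subgroup.normalizer (P : Set G)) ⧸ P')))).trans ?_
    simp only [smul_eq_mul, h1, hτ, hε]
    rw [Finset.sum_congr rfl fun c _ => (R_mul ι (hεm.2 _) (memLocalRing_irr (ξ i) _)).symm,
      ← R_sum ι _ fun c => (localRing M).mul_mem (hεm.2 _) (memLocalRing_irr (ξ i) _),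
      hξε _ hεm.1 i n⁻¹, R_mul ι hωm.1 (memLocalRing_irr (ξ i) _), hωm.2, one_mul]
  have hli : LinearIndependent K' τ := Fintype.linearIndependent_iff.mpr fun a ha j => by
    have horth : ∀ i, ∑ q : (Subgroup.normalizer (P : Set G)) ⧸ P', τ i q *
        R ι ((ξ j : (Subgroup.normalizer (P : Set G)) → ℂ) q.out) =
        if i = j then (Fintype.card ((Subgroup.normalizer (P : Set G)) ⧸ P') : K') else 0 := by
      intro i
      set F : (Subgroup.normalizer (P : Set G)) → ℂ := fun n =>
        (ξ i : (Subgroup.normalizer (P : Set G)) → ℂ) n⁻¹ *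
          (ξ j : (Subgroup.normalizer (P : Set G)) → ℂ) n with hF
      have hinv : ∀ n u, u ∈ P' → F (n * u) = F n := fun n u hu => by
        simp only [hF]
        rw [hξP j n u hu, mul_inv_rev]
        congr 1
        have h := irr_class (ξ i) (u⁻¹ * n⁻¹) u
        rw [show u * (u⁻¹ * n⁻¹) * u⁻¹ = n⁻¹ * u⁻¹ by group] at h
        rw [← h]
        exact hξP i _ _ (Subgroup.mem_subgroupOf.mp (inv_mem hu))
      have hsum : ∑ q : (Subgroup.normalizer (P : Set G)) ⧸ P', F q.out =
          if i = j then (Fintype.card ((Subgroup.normalizer (P : Set G)) ⧸ P') : ℂ) else 0 := by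
        have h1 : ∑ n, F n = (Fintype.card P' : ℂ) *
            ∑ q : (Subgroup.normalizer (P : Set G)) ⧸ P', F q.out := by
          rw [← Fintype.sum_equiv (Subgroup.groupEquivQuotientProdSubgroup (s := P')).symm
            (fun x => F x.1.out) (fun n => F n) fun x => ?_]
          · rw [Fintype.sum_prod_type]
            simp only [Finset.sum_const, Finset.card_univ, nsmul_eq_mul, ← Finset.mul_sum]
          · obtain ⟨n, hn⟩ := (Subgroup.groupEquivQuotientProdSubgroup (s := P')).surjective x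
            rw [← hn, Equiv.symm_apply_apply]
            obtain ⟨⟨u, hu'⟩, hu⟩ := QuotientGroup.mk_out_eq_mul P' n
            show F (n : (Subgroup.normalizer (P : Set G)) ⧸ P').out = _
            rw [hu]
            exact hinv n u hu'
        have h2 : ∑ n, F n = (Nat.card (Subgroup.normalizer (P : Set G)) : ℂ) *
            if i = j then 1 else 0 := by
          have h3 := CharCore.classInner_irr (ξ j) (ξ i)
          rw [CharCore.classInner_def] at h3
          rw [show (if i = j then (1 : ℂ) else 0) = if ξ j = ξ i then 1 else 0 from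
            if_congr ⟨fun h => h ▸ rfl, fun h => (hξinj h).symm⟩ rfl rfl, ← h3,
            mul_inv_cancel_left₀ (Nat.cast_ne_zero.mpr Nat.card_pos.ne')]
          exact Finset.sum_congr rfl fun n _ => by simp only [hF]; rw [CharCore.irr_apply_inv, mul_comm]
        rw [h2] at h1
        refine mul_left_cancel₀ (b := ∑ q : _ ⧸ P', F q.out) (a := (Fintype.card P' : ℂ))
          (Nat.cast_ne_zero.mpr Fintype.card_ne_zero) (h1.symm.trans ?_)
        rw [Subgroup.card_eq_card_quotient_mul_card_subgroup P', Nat.card_eq_fintype_card,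
          Nat.card_eq_fintype_card, Nat.cast_mul]
        split_ifs <;> ring
      simp only [τ]
      rw [Finset.sum_congr rfl fun q _ => (R_mul ι (memLocalRing_irr (ξ i) _)
          (memLocalRing_irr (ξ j) _)).symm,
        ← R_sum ι _ fun q => (localRing M).mul_mem (memLocalRing_irr (ξ i) _)
          (memLocalRing_irr (ξ j) _), hsum]
      split_ifs
      · simpa using R_intCast ι (Fintype.card ((Subgroup.normalizer (P : Set G)) ⧸ P') : ℤ)
      · exact R_zero ι
    have h : ∑ q : (Subgroup.normalizer (P : Set G)) ⧸ P', (∑ i, a i • τ i) q *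
        R ι ((ξ j : (Subgroup.normalizer (P : Set G)) → ℂ) q.out) = 0 :=
      Finset.sum_eq_zero fun q _ => by rw [congrFun ha q, Pi.zero_apply, zero_mul]
    simp only [Finset.sum_apply, Pi.smul_apply, smul_eq_mul, Finset.sum_mul, mul_assoc] at h
    rw [Finset.sum_comm] at h
    simp only [← Finset.mul_sum, horth, mul_ite, mul_zero, Finset.sum_ite_eq', Finset.mem_univ,
      if_true] at h
    exact (mul_eq_zero.mp h).resolve_right hQ
  obtain ⟨n, σ₀, hσirr, hσnt, hσD, hσint⟩ := CyclicReps.exists_fixed_reps hQ w τ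
    (fun i g h => by
      obtain ⟨g, rfl⟩ := QuotientGroup.mk_surjective g
      obtain ⟨h, rfl⟩ := QuotientGroup.mk_surjective h
      rw [← QuotientGroup.mk_mul, ← QuotientGroup.mk_inv, ← QuotientGroup.mk_mul, hτ, hτ,
        mul_inv_rev, mul_inv_rev, inv_inv, ← mul_assoc]
      exact congrArg _ (irr_class (ξ i) _ _)) hfix hli
  let σ : ∀ i, Representation K' (Subgroup.normalizer (P : Set G)) (Fin (n i) → K') := fun i =>
    (σ₀ i).comp (QuotientGroup.mk' P')
  have hσP : ∀ i, ∀ u : Subgroup.normalizer (P : Set G), (u : G) ∈ P → σ i u = 1 := fun i u hu => by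
    show σ₀ i (QuotientGroup.mk' P' u) = 1
    rw [QuotientGroup.mk'_apply, (QuotientGroup.eq_one_iff u).mpr (Subgroup.mem_subgroupOf.mpr hu),
      map_one]
  have hσirr' : ∀ i, IsIrr (σ i) := fun i A hA => hσirr i A fun q v hv => by
    obtain ⟨g, rfl⟩ := QuotientGroup.mk_surjective q
    exact hA g v hv
  choose d ρ f hirr hf hfs using fun i => haveI := hσnt i; exists_simpleS hs (σ i) (hσP i)
  have hεc : ∀ g h, ε (h * g * h⁻¹) = ε g := fun g h => congrArg (R ι) (hεm.1 g h)
  have hCc : Subgroup.centralizer (P : Set G) = t.C := by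
    rw [t.hC, hP, BlocksCore.centralizer_zpowers]
  have hfix' : ∀ i, ∑ g, ε g • ρ i g = 1 := fun i => by
    refine sum_smul_eq_oneS hs (ρ i) (hirr i) (hσP i) (hf i) (hfs i) ε hεc ?_
    have h1 := hwsum (fun q => σ₀ i q)
    rw [hσD i] at h1
    refine Eq.trans ?_ h1.symm
    exact Fintype.sum_equiv (Equiv.subtypeEquivRight fun g => by rw [hCc]) _ _ fun g => rfl
  have hnt : ∀ i, Nontrivial (Fin (d i) → K') := fun i => by
    by_contra hnt
    rw [not_nontrivial_iff_subsingleton] at hnt
    exact hfs i ⟨0, fun v => by simp [Subsingleton.elim v 0]⟩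
  have hint : ∀ i j, i ≠ j → ∀ φ : (Fin (d i) → K') →ₗ[K'] (Fin (d j) → K'),
      (∀ g v, φ (ρ i g v) = ρ j g (φ v)) → φ = 0 := by
    intro i j hij φ hφ
    rcases hirr i (LinearMap.ker φ) fun g v hv => by
        rw [LinearMap.mem_ker] at hv ⊢
        rw [hφ, hv, map_zero] with hk | hk
    swap
    · exact LinearMap.ker_eq_top.mp hk
    rcases hirr j (LinearMap.range φ) fun g v hv => by
        obtain ⟨w, rfl⟩ := hv
        exact ⟨ρ i g w, hφ g w⟩ with hr | hr
    · exact LinearMap.range_eq_bot.mp hr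
    exfalso
    set e := LinearEquiv.ofBijective φ ⟨LinearMap.ker_eq_bot.mp hk, LinearMap.range_eq_top.mp hr⟩
    haveI := hσnt i
    haveI := hσnt j
    refine false_of_twoS hs (ρ i) (hirr i) (hσP i) (hσP j) (hσirr' i) (hσirr' j)
      (fun ψ hψ => hσint i j hij ψ fun q v => ?_) (fun ψ hψ => hσint j i hij.symm ψ fun q v => ?_)
      (hf i) (g := (f j).comp φ) (fun a v => by rw [LinearMap.comp_apply, hφ, hf j]; rfl) (hfs i) ?_
    · obtain ⟨g, rfl⟩ := QuotientGroup.mk_surjective q
      exact hψ g v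
    · obtain ⟨g, rfl⟩ := QuotientGroup.mk_surjective q
      exact hψ g v
    rintro ⟨ψ, hψ⟩
    refine hfs j ⟨ψ.comp e.symm.toLinearMap, fun v => ?_⟩
    obtain ⟨w, rfl⟩ := e.surjective v
    refine (hψ w).trans (Finset.sum_congr rfl fun u _ => ?_)
    show _ = ψ (e.symm (ρ j (u : G) (φ w)))
    rw [← hφ]
    exact congrArg ψ (e.symm_apply_apply _).symm
  let T : Fin e → G → K' := fun i g => LinearMap.trace K' _ (ρ i g)
  have hA : ∀ i, ∃ A : B → K', ∀ g,
      T i g = ∑ θ : B, A θ * R ι (((θ : IrrCharacter G) : G → ℂ) g) := by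
    intro i
    obtain ⟨A, hA⟩ := exists_expansion ι hM (T i)
      (fun g h => by
        show LinearMap.trace K' _ (ρ i (h * g * h⁻¹)) = _
        rw [map_mul, LinearMap.trace_mul_comm, ← map_mul, inv_mul_cancel_left])
      (fun hxy hx => trace_eq_regular (ρ i) hxy hx)
    refine ⟨fun θ => A θ.1, fun x => ?_⟩
    have hproj : ∀ θ : IrrCharacter G, ∑ g, ε g * R ι ((θ : G → ℂ) (g * x)) =
        if θ ∈ B then R ι ((θ : G → ℂ) x) else 0 := by
      intro θ
      rw [Finset.sum_congr rfl fun g _ => (R_mul ι (hεm.2 g) (memLocalRing_irr θ (g * x))).symm,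
        ← R_sum ι _ fun g => (localRing M).mul_mem (hεm.2 g) (memLocalRing_irr θ (g * x)),
        sum_classFun_mul_translate θ hεm.1, omega_blockCoeff]
      split_ifs with hθ
      · rw [Set.indicator_of_mem hθ, Pi.one_apply, one_mul]
      · rw [Set.indicator_of_notMem hθ, zero_mul, R_zero]
    calc T i x = LinearMap.trace K' _ ((∑ g, ε g • ρ i g) * ρ i x) := by rw [hfix', one_mul]
      _ = ∑ g, ε g * T i (g * x) := by
        rw [Finset.sum_mul, map_sum]
        exact Finset.sum_congr rfl fun g _ => by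
          rw [smul_mul_assoc, map_smul, ← map_mul, smul_eq_mul]
      _ = ∑ θ : IrrCharacter G, A θ * (if θ ∈ B then R ι ((θ : G → ℂ) x) else 0) := by
        simp only [← hproj, hA, Finset.mul_sum]
        rw [Finset.sum_comm]
        exact Finset.sum_congr rfl fun θ _ => Finset.sum_congr rfl fun g _ => mul_left_comm _ _ _
      _ = _ := by
        simp only [mul_ite, mul_zero]
        rw [← Finset.sum_filter]
        exact Finset.sum_subtype _ (fun θ => by simp) _
  let Φ : (B → K') →ₗ[K'] (G → K') :=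
    { toFun := fun c g => ∑ θ : B, c θ * R ι (((θ : IrrCharacter G) : G → ℂ) g)
      map_add' := fun a b => funext fun g => by simp [add_mul, Finset.sum_add_distrib]
      map_smul' := fun a c => funext fun g => by simp [mul_assoc, Finset.mul_sum] }
  have h1 : e ≤ Module.finrank K' (LinearMap.range Φ) := by
    have hliT : LinearIndependent K' T := Fintype.linearIndependent_iff.mpr fun a ha i => by
      refine congrFun (CyclicReps.traces_independent ρ hirr hnt hint a fun g => ?_) i
      simpa using congrFun ha g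
    have hmem : ∀ i, T i ∈ LinearMap.range Φ := fun i => by
      obtain ⟨A, hA⟩ := hA i
      exact ⟨A, funext fun g => (hA g).symm⟩
    have := (LinearIndependent.of_comp (LinearMap.range Φ).subtype
      (v := fun i => (⟨T i, hmem i⟩ : LinearMap.range Φ)) hliT).fintype_card_le_finrank
    simpa using this
  have h2 : Nat.card t.Orb ≤ Module.finrank K' (LinearMap.ker Φ) := by
    let v : t.Orb → B → K' := fun o θ => ((t.vecO θ.1 o : ℤ) : K')
    have hall : ∀ F : IrrCharacter G → K', (∀ θ, θ ∉ B → F θ = 0) →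
        ∑ θ : B, F θ.1 = ∑ θ, F θ := fun F hF => by
      rw [← Finset.sum_subtype (Finset.univ.filter (· ∈ B)) (fun θ => by simp) F]
      exact Finset.sum_subset (Finset.subset_univ _) fun θ _ hθ => hF θ (by simpa using hθ)
    have hoff : ∀ o θ, θ ∉ B → ((t.vecO θ o : ℤ) : K') = 0 := fun o θ hθ => by
      rw [t.vecO_of_notMem hM hind hθ, Int.cast_zero]
    have hker : ∀ o, v o ∈ LinearMap.ker Φ := fun o => by
      refine LinearMap.mem_ker.mpr (funext fun g => ?_)
      show ∑ θ : B, ((t.vecO θ o : ℤ) : K') * R ι (((θ : IrrCharacter G) : G → ℂ) g) = 0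
      rw [hall (fun θ => ((t.vecO θ o : ℤ) : K') * R ι ((θ : G → ℂ) g))
        (fun θ hθ => by rw [hoff o θ hθ, zero_mul])]
      obtain ⟨x, y, rfl, hxy, ⟨k, hx⟩, hy⟩ := exists_pPart (p := p) hM.1 g
      simp only [R_irr_regular ι hM _ hxy hx hy, ← R_intCast ι,
        ← R_mul ι (memLocalRing_intCast _) (memLocalRing_irr _ _)]
      rw [← R_sum ι _ fun θ => (localRing M).mul_mem (memLocalRing_intCast _)
        (memLocalRing_irr θ y), ← R_zero ι]
      congr 1
      rw [← t.sum_vec_mul_regular hy ((Quotient.out o : (ZMod p)ˣ) : ZMod p)]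
      exact Finset.sum_congr rfl fun θ _ => mul_comm _ _
    have hliv : LinearIndependent K' v := Fintype.linearIndependent_iff.mpr fun a ha => by
      have h : ∀ o', a o' + (e : K') * ∑ o, a o = 0 := by
        intro o'
        have h : ∑ o, a o * ((((if o = o' then 1 else 0) + (e : ℤ)) : ℤ) : K') = 0 := by
          calc _ = ∑ o, a o * ∑ θ : B, v o θ * v o' θ := by
                refine Finset.sum_congr rfl fun o _ => ?_
                rw [hall (fun θ => ((t.vecO θ o : ℤ) : K') * ((t.vecO θ o' : ℤ) : K'))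
                  (fun θ hθ => by rw [hoff o θ hθ, zero_mul])]
                rw [he, ← t.gram_orb o o']
                push_cast
                rfl
            _ = ∑ θ : B, (∑ o, a o • v o) θ * v o' θ := by
                simp only [Finset.sum_apply, Pi.smul_apply, smul_eq_mul, Finset.sum_mul,
                  Finset.mul_sum, mul_assoc]
                exact Finset.sum_comm
            _ = 0 := Finset.sum_eq_zero fun θ _ => by rw [congrFun ha θ, Pi.zero_apply, zero_mul]
        simpa [mul_add, Finset.sum_add_distrib, ← Finset.sum_mul, mul_comm] using h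
      intro o'
      obtain ⟨χ, hχ, hd⟩ := t.exists_not_dvd_degree hM hind hBP hidx
      have hS : ((∑ o, t.vecO χ o : ℤ) : K') ≠ 0 := by
        intro h0
        refine hd ((Int.natCast_dvd_natCast).mp ?_)
        have hdvd := (CharP.intCast_eq_zero_iff K' p _).mp h0
        have hm := Int.modEq_iff_dvd.mp (t.charDegree_modEq hM hind hBP hχ)
        exact (Int.dvd_iff_dvd_of_dvd_sub hm).mp ((hdvd.mul_left _).mul_left _)
      have h3 := congrFun ha ⟨χ, hχ⟩
      simp only [Finset.sum_apply, Pi.smul_apply, smul_eq_mul, Pi.zero_apply, v] at h3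
      have hc : ∀ o, a o = a o' := fun o => add_right_cancel ((h o).trans (h o').symm)
      rw [Finset.sum_congr rfl fun o _ => by rw [hc o], ← Finset.mul_sum, ← Int.cast_sum] at h3
      exact (mul_eq_zero.mp h3).resolve_right hS
    have := (LinearIndependent.of_comp (LinearMap.ker Φ).subtype
      (v := fun o => (⟨v o, hker o⟩ : LinearMap.ker Φ)) hliv).fintype_card_le_finrank
    simpa [Nat.card_eq_fintype_card] using this
  have h3 := Φ.finrank_range_add_finrank_ker
  rw [Module.finrank_fintype_fun_eq_card, ← Nat.card_eq_fintype_card] at h3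
  omega

end Twist

end Cfsg.Agent.BlocksCore.CyclicTwist
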