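import Cfsg.Agent.Lib.BlocksCore.CyclicTwistRank
import Cfsg.Agent.Lib.BlocksCore.CyclicPrincipal

/-!
# The shape of a block of defect one
-/

set_option linter.unusedSectionVars false

open scoped ComplexConjugate

namespace Cfsg.Agent.BlocksCore.CyclicTwist

open BlocksDefect SmallGroups.SelfCent

variable {G : Type*} [Group G] [Fintype G] {p : ℕ} [Fact p.Prime]

/-- A Sylow subgroup of prime order with a character of its centralizer trivial on it gives a
twisting datum. -/
theorem exists_twist (P : Sylow p G) (hP : Nat.card P = p)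
    (θ : IrrCharacter (Subgroup.centralizer ((P : Subgroup G) : Set G)))
    (hθP : ∀ x : Subgroup.centralizer ((P : Subgroup G) : Set G), (x : G) ∈ (P : Subgroup G) →
      (θ : Subgroup.centralizer ((P : Subgroup G) : Set G) → ℂ) x =
        (θ : Subgroup.centralizer ((P : Subgroup G) : Set G) → ℂ) 1)
    (T : Subgroup G)
    (hT : ∀ g : G, g ∈ T ↔ (g ∈ Subgroup.normalizer ((P : Subgroup G) : Set G) ∧
      ∀ c c' : Subgroup.centralizer ((P : Subgroup G) : Set G), (c' : G) = g * c * g⁻¹ →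
        (θ : Subgroup.centralizer ((P : Subgroup G) : Set G) → ℂ) c' =
          (θ : Subgroup.centralizer ((P : Subgroup G) : Set G) → ℂ) c)) :
    ∃ (s : Setup G p) (hC : Subgroup.centralizer ((P : Subgroup G) : Set G) =
        Subgroup.centralizer ({s.z} : Set G)) (hθ : ∀ (k : ZMod p)
        (c c' : Subgroup.centralizer ((P : Subgroup G) : Set G)), (c' : G) = s.zp k * (c : G) →
          (θ : Subgroup.centralizer ((P : Subgroup G) : Set G) → ℂ) c' =
            (θ : Subgroup.centralizer ((P : Subgroup G) : Set G) → ℂ) c)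
        (hT' : ∀ g : G, g ∈ T ↔
          (g ∈ Subgroup.normalizer ((Subgroup.zpowers s.z : Subgroup G) : Set G) ∧
          ∀ c c' : Subgroup.centralizer ((P : Subgroup G) : Set G), (c' : G) = g * c * g⁻¹ →
            (θ : Subgroup.centralizer ((P : Subgroup G) : Set G) → ℂ) c' =
              (θ : Subgroup.centralizer ((P : Subgroup G) : Set G) → ℂ) c)),
      (P : Subgroup G) = Subgroup.zpowers s.z ∧ ¬ p ∣ (Subgroup.zpowers s.z).index := by
  classical
  haveI : IsCyclic (P : Subgroup G) := isCyclic_of_prime_card hP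
  obtain ⟨⟨z, hzP⟩, hgen⟩ := IsCyclic.exists_generator (α := (P : Subgroup G))
  have hz : orderOf z = p := by
    rw [← Subgroup.orderOf_mk z hzP, orderOf_eq_card_of_forall_mem_zpowers hgen, hP]
  have hzP' : Subgroup.zpowers z = (P : Subgroup G) :=
    Subgroup.eq_of_le_of_card_ge (Subgroup.zpowers_le.mpr hzP)
      (by rw [Nat.card_zpowers, hz, hP])
  have hidx : ¬ p ∣ (Subgroup.zpowers z).index := hzP' ▸ P.not_dvd_index
  obtain ⟨s, hs⟩ := CyclicCount.exists_setup hz hidx
  subst hs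
  refine ⟨s, by rw [← hzP', BlocksCore.centralizer_zpowers], fun k c c' hc => ?_,
    fun g => (hT g).trans (and_congr (by rw [hzP']) Iff.rfl), hzP'.symm, hidx⟩
  haveI := Fintype.ofFinite (Subgroup.centralizer ((P : Subgroup G) : Set G))
  have hmem : s.zp k ∈ Subgroup.centralizer ((P : Subgroup G) : Set G) := by
    rw [← hzP', BlocksCore.centralizer_zpowers]
    exact Subgroup.mem_centralizer_singleton_iff.mpr
      (Commute.pow_left (Commute.refl s.z) k.val).eq
  have h1 := hθP ⟨s.zp k, hmem⟩ (by show s.zp k ∈ (P : Subgroup G); rw [← hzP']; exact pow_mem (Subgroup.mem_zpowers s.z) k.val)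
  obtain ⟨f, n, ρ, hρ, hρf⟩ := θ
  subst hρf
  have h2 : ρ ⟨s.zp k, hmem⟩ = 1 := CharClifford.eq_one_of_character_eq_finrank ρ _ (by
    show ρ.character ⟨s.zp k, hmem⟩ = _
    rw [show ρ.character ⟨s.zp k, hmem⟩ = ρ.character 1 from h1, ρ.char_one])
  show LinearMap.trace ℂ _ (ρ c') = LinearMap.trace ℂ _ (ρ c)
  rw [show c' = ⟨s.zp k, hmem⟩ * c from Subtype.ext hc, map_mul, h2, one_mul]

namespace Twist

variable {M : Ideal AlgInt} {s : Setup G p} (t : Twist s) (hM : IsPModular p M)
  {B : Set (IrrCharacter G)}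
  (hind : IsInducedBlock M t.C (t.blk M) B)
  (hBP : IsDefectGroup p M B (Subgroup.zpowers s.z))
  (hidx : ¬ p ∣ (Subgroup.zpowers s.z).index)

include hM hind hBP hidx

open scoped Classical in
/-- The shape of a block of defect one. -/
theorem exists_shape [Fintype t.Orb] :
    ∃ (f : t.Orb → IrrCharacter G) (c : IrrCharacter G → ℤ) (ε : ℤ), (ε = 1 ∨ ε = -1) ∧
      Function.Injective f ∧ (∀ i, f i ∈ B) ∧
      (∀ i j, t.vecO (f j) i = if i = j then ε else 0) ∧
      (∀ χ ∈ B, (∀ i, f i ≠ χ) → (c χ = 1 ∨ c χ = -1) ∧ ∀ i, t.vecO χ i = c χ) ∧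
      Nat.card B = Nat.card t.auto + Fintype.card t.Orb := by
  classical
  haveI := isPrime hM
  letI : Field (Res M) := Ideal.Quotient.field _
  haveI : CharP (Res M) p := charP_res hM
  haveI : CharP (AlgebraicClosure (Res M)) p :=
    charP_of_injective_ringHom (algebraMap (Res M) (AlgebraicClosure (Res M))).injective p
  have hge := t.card_ge hM hind hBP hidx (algebraMap (Res M) (AlgebraicClosure (Res M)))
  set Bf : Finset (IrrCharacter G) := Finset.univ.filter (· ∈ B) with hBf
  have hmem : ∀ χ, χ ∈ Bf ↔ χ ∈ B := fun χ => by simp [hBf]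
  have hcard : Nat.card B = Bf.card := by
    rw [Nat.card_eq_fintype_card, Fintype.card_subtype]
  rw [hcard, Nat.card_eq_fintype_card (α := t.Orb)] at hge
  obtain ⟨f, c, ε, hε, hf, hfB, hvf, hcx, hc⟩ := CyclicCount.shape Bf
    (fun χ => (Setup.deg χ : ℤ)) (fun χ => by exact_mod_cast (Setup.deg_spec χ).1)
    (fun o χ => t.vecO χ o) (Nat.card t.auto) t.gram_orb t.sum_deg_mul_vecO
    (fun o χ hχ => t.vecO_of_notMem hM hind (fun h => hχ ((hmem χ).mpr h)) _)
    (fun χ hχ => t.exists_vecO_ne_zero hM hind hBP hidx ((hmem χ).mp hχ)) hge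
  exact ⟨f, c, ε, hε, hf, fun i => (hmem _).mp (hfB i), hvf,
    fun χ hχ => hcx χ ((hmem χ).mpr hχ), hcard.trans hc⟩

open scoped Classical in
/-- The relation on `p`-regular elements. -/
theorem sum_regular_eq_zero [Fintype t.Orb] {f : t.Orb → IrrCharacter G} {c : IrrCharacter G → ℤ}
    {ε : ℤ} (hf : Function.Injective f) (hfB : ∀ i, f i ∈ B)
    (hvf : ∀ i j, t.vecO (f j) i = if i = j then ε else 0)
    (hcx : ∀ χ ∈ B, (∀ i, f i ≠ χ) → (c χ = 1 ∨ c χ = -1) ∧ ∀ i, t.vecO χ i = c χ)
    {g : G} (hg : ¬ p ∣ orderOf g) (i : t.Orb) :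
    (∑ χ ∈ (Finset.univ.filter (· ∈ B)) \ Finset.univ.image f, (c χ : ℂ) * (χ : G → ℂ) g) +
      (ε : ℂ) * (f i : G → ℂ) g = 0 := by
  classical
  have hYB : Finset.univ.image f ⊆ Finset.univ.filter (· ∈ B) := by
    intro x hx
    obtain ⟨i, -, rfl⟩ := Finset.mem_image.mp hx
    simpa using hfB i
  have h : ∑ χ : IrrCharacter G, (t.vecO χ i : ℂ) * (χ : G → ℂ) g = 0 := by
    rw [← t.sum_vec_mul_regular hg ((Quotient.out i : (ZMod p)ˣ) : ZMod p)]
    exact Finset.sum_congr rfl fun χ _ => mul_comm _ _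
  rw [← Finset.sum_subset (Finset.subset_univ (Finset.univ.filter (· ∈ B))) (fun χ _ hχ => by
      rw [t.vecO_of_notMem hM hind (fun h => hχ (by simpa using h)), Int.cast_zero, zero_mul]),
    ← Finset.sum_sdiff hYB,
    Finset.sum_image (fun a _ b _ h => hf h), Finset.sum_eq_single i
      (fun j _ hj => by rw [hvf, if_neg (Ne.symm hj), Int.cast_zero, zero_mul]) (by simp),
    hvf, if_pos rfl] at h
  rw [← h]
  congr 1
  refine Finset.sum_congr rfl fun χ hχ => ?_
  obtain ⟨h1, h2⟩ := Finset.mem_sdiff.mp hχ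
  rw [(hcx χ (by simpa using h1) fun i hi =>
    h2 (hi ▸ Finset.mem_image_of_mem f (Finset.mem_univ i))).2 i]

end Twist

end Cfsg.Agent.BlocksCore.CyclicTwist
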