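import Cfsg.Agent.Lib.BlocksCore.Ring
import Cfsg.Agent.Lib.CharClifford.Galois
import Mathlib.Algebra.Polynomial.BigOperators
import Mathlib.Algebra.Polynomial.Eval.Coeff

/-!
# Blocks do not depend on the choice of the modular maximal ideal
-/

set_option linter.unusedSectionVars false

namespace Cfsg.Agent.BlocksCore

open Polynomial

variable {G : Type*} [Group G] [Fintype G] {p : ℕ} {M M' : Ideal AlgInt}

/-- Two modular ideals contain the same integers, hence a finite Galois stable set of local
ideal elements at one lies in the other. -/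
theorem memLocalIdeal_of_galois_stable (hM : IsPModular p M) (hM' : IsPModular p M')
    (S : Finset ℂ) (hint : ∀ r ∈ S, IsIntegral ℤ r) (hmem : ∀ r ∈ S, MemLocalIdeal M r)
    (hσ : ∀ σ : ℂ →+* ℂ, ∀ r ∈ S, σ r ∈ S) {d : ℂ} (hd : d ∈ S) : MemLocalIdeal M' d := by
  classical
  have := isPrime hM
  have := isPrime hM'
  set P : ℂ[X] := ∏ r ∈ S, (X - C r) with hP
  let R : localRing M → (localRing M)[X] := fun r => X - C r
  let P₀ : (localRing M)[X] := ∏ r ∈ S.attach, R ⟨r.1, memLocalRing_of_isIntegral (hint r.1 r.2)⟩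
  have hP₀ : P₀.map (localRing M).subtype = P := by
    simp only [P₀, R, Polynomial.map_prod, Polynomial.map_sub, map_X, map_C]
    exact Finset.prod_attach S fun r => X - C r
  have hk : P₀.map (Ideal.Quotient.mk (localIdeal M)) = X ^ S.card := by
    simp only [P₀, R, Polynomial.map_prod, Polynomial.map_sub, map_X, map_C]
    rw [Finset.prod_congr rfl fun r _ => by
      rw [Ideal.Quotient.eq_zero_iff_mem.mpr (hmem r.1 r.2 : _ ∈ localIdeal M), map_zero, sub_zero],
      Finset.prod_const, Finset.card_attach]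
  have hmon : P.Monic := monic_prod_of_monic _ _ fun r _ => monic_X_sub_C r
  have hdeg : P.natDegree = S.card := by
    rw [hP, natDegree_prod_of_monic _ _ fun r _ => monic_X_sub_C r]
    simp
  have hcoef : ∀ i, ∃ c : ℤ, P.coeff i = c ∧ (i < S.card → (p : ℤ) ∣ c) := by
    intro i
    obtain ⟨c, hc⟩ := CharClifford.exists_int_of_fixed (z := P.coeff i) (by
      have : ∀ j, IsIntegral ℤ (P.coeff j) := by
        let P₁ : AlgInt[X] := ∏ r ∈ S.attach, (X - C (⟨r.1, hint r.1 r.2⟩ : AlgInt))
        have h1 : P₁.map (Subalgebra.val AlgInt).toRingHom = P := by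
          simp only [P₁, Polynomial.map_prod, Polynomial.map_sub, map_X, map_C]
          exact Finset.prod_attach S fun r => X - C r
        intro j
        rw [← h1, coeff_map]
        exact (P₁.coeff j).2
      exact this i) (fun σ => by
      rw [← coeff_map]
      congr 1
      rw [hP, Polynomial.map_prod]
      simp only [Polynomial.map_sub, map_X, map_C]
      refine Finset.prod_nbij σ (fun r hr => hσ σ r hr) σ.injective.injOn ?_ (fun r _ => rfl)
      exact (Finset.surjOn_of_injOn_of_card_le σ (fun r hr => hσ σ r hr) σ.injective.injOn le_rfl))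
    refine ⟨c, hc, fun hi => ?_⟩
    have h1 := congrArg (fun Q => Polynomial.coeff Q i) hk
    simp only [coeff_map, coeff_X_pow, if_neg hi.ne] at h1
    have h2 : MemLocalIdeal M ((P₀.coeff i : localRing M) : ℂ) :=
      Ideal.Quotient.eq_zero_iff_mem.mp h1
    have h3 : ((P₀.coeff i : localRing M) : ℂ) = (c : ℂ) := by
      rw [← hc, ← hP₀, coeff_map]
      rfl
    rw [h3] at h2
    exact (memLocalIdeal_intCast_iff hM c).mp h2
  have h0 : P.eval d = 0 := by
    rw [hP, eval_prod]
    exact Finset.prod_eq_zero hd (by simp)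
  rw [eval_eq_sum_range, hdeg, Finset.sum_range_succ] at h0
  have hlc : P.coeff S.card = 1 := hdeg ▸ hmon
  rw [hlc, one_mul, add_comm, add_eq_zero_iff_eq_neg] at h0
  refine (memLocalIdeal_pow_iff (memLocalRing_of_isIntegral (hint d hd))
    (Finset.card_ne_zero_of_mem hd)).mp ?_
  rw [h0]
  refine memLocalIdeal_neg (memLocalIdeal_sum fun i hi => ?_)
  obtain ⟨c, hc, hdvd⟩ := hcoef i
  rw [hc]
  exact memLocalIdeal_mul_right
    ((memLocalIdeal_intCast_iff hM' c).mpr (hdvd (Finset.mem_range.mp hi)))
    ((localRing M').pow_mem (memLocalRing_of_isIntegral (hint d hd)) _)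

theorem sameBlock_of_isPModular (hM : IsPModular p M) (hM' : IsPModular p M')
    {χ ψ : IrrCharacter G} (h : SameBlock M (χ : G → ℂ) (ψ : G → ℂ)) :
    SameBlock M' (χ : G → ℂ) (ψ : G → ℂ) := by
  classical
  intro g
  refine memLocalIdeal_of_galois_stable hM hM'
    (Finset.univ.image fun x : G => centralChar (χ : G → ℂ) x - centralChar (ψ : G → ℂ) x)
    ?_ ?_ ?_ (Finset.mem_image_of_mem _ (Finset.mem_univ g))
  · intro r hr
    obtain ⟨x, -, rfl⟩ := Finset.mem_image.mp hr
    exact (isIntegral_centralChar χ x).sub (isIntegral_centralChar ψ x)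
  · intro r hr
    obtain ⟨x, -, rfl⟩ := Finset.mem_image.mp hr
    exact h x
  · intro σ r hr
    obtain ⟨x, -, rfl⟩ := Finset.mem_image.mp hr
    obtain ⟨m, hm, hσ⟩ := CharClifford.exists_pow_of_ringHom σ (Nat.card_pos (α := G)).ne'
    refine Finset.mem_image.mpr ⟨x ^ m, Finset.mem_univ _, ?_⟩
    have hchar : ∀ (φ : IrrCharacter G) (y : G),
        σ ((φ : G → ℂ) y) = (φ : G → ℂ) (y ^ m) := by
      rintro ⟨f, n, ρ, -, rfl⟩ y
      exact CharClifford.map_character ρ σ y Nat.card_pos.ne' pow_card_eq_one' hσ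
    have hcent : Subgroup.centralizer ({x ^ m} : Set G) = Subgroup.centralizer ({x} : Set G) := by
      ext y
      simp only [Subgroup.mem_centralizer_singleton_iff]
      refine ⟨fun hy => ?_, fun hy => (Commute.pow_right (a := y) hy m).eq⟩
      have hinj := (CharClifford.bijective_pow_of_coprime (G := G) hm).1
      have : (y * x * y⁻¹) ^ m = x ^ m := by rw [conj_pow, hy, mul_inv_cancel_right]
      exact mul_inv_eq_iff_eq_mul.mp (hinj this)
    have h1 : ∀ φ : IrrCharacter G, σ (centralChar (φ : G → ℂ) x) =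
        centralChar (φ : G → ℂ) (x ^ m) := fun φ => by
      simp [centralChar, hchar, hcent]
    rw [map_sub, h1, h1]

end Cfsg.Agent.BlocksCore
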