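import Cfsg.Agent.Lib.BlocksCore.KleinBlock
import Cfsg.Agent.Lib.BlocksCore.CyclicPrincipal
import Cfsg.Agent.Lib.BlocksDefect.Lifting
import Cfsg.Agent.Lib.Involution.KleinSylow

/-!
# Class equations of the principal `2`-block for a four-group
-/

set_option linter.unusedSectionVars false

namespace Cfsg.Agent.BlocksCore.KleinOrder

open BlocksDefect CyclicPrincipal Finset

variable {G : Type*} [Group G] [Fintype G] {p : ℕ} [Fact p.Prime] {M : Ideal AlgInt}

/-- The structure constant as a character sum. -/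
theorem class_formula (t g : G) :
    ((Subgroup.centralizer ({t} : Set G)).index : ℂ) ^ 2 *
        ∑ χ : IrrCharacter G, (χ : G → ℂ) t ^ 2 / (χ : G → ℂ) 1 * (χ : G → ℂ) g⁻¹ =
      (Nat.card G : ℂ) * conv (classInd t) (classInd t) g := by
  classical
  set F := conv (classInd t) (classInd t) with hF
  have hFc : IsClassFunction G F :=
    isClassFunction_conv (isClassFunction_classInd t) (isClassFunction_classInd t)
  have hω : ∀ χ : IrrCharacter G, ∑ x, F x * (χ : G → ℂ) x =
      ((Subgroup.centralizer ({t} : Set G)).index : ℂ) ^ 2 *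
        ((χ : G → ℂ) t ^ 2 / (χ : G → ℂ) 1) := by
    intro χ
    have h1 := omega_conv χ (isClassFunction_classInd t) (isClassFunction_classInd t)
    rw [omega_classInd (irr_class χ), centralChar, ← hF, omega_eq_sum] at h1
    have := irr_one_ne_zero χ
    field_simp at h1 ⊢
    linear_combination h1
  have hkey : ∀ χ : IrrCharacter G, ((Subgroup.centralizer ({t} : Set G)).index : ℂ) ^ 2 *
      ((χ : G → ℂ) t ^ 2 / (χ : G → ℂ) 1 * (χ : G → ℂ) g⁻¹) =
      (∑ x, F x * (χ : G → ℂ) x) * (χ : G → ℂ) g⁻¹ := fun χ => by rw [hω χ, mul_assoc]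
  simp only [Finset.mul_sum, hkey]
  simp only [Finset.sum_mul, mul_assoc]
  rw [Finset.sum_comm]
  have hx : ∀ x : G, ∑ χ : IrrCharacter G, F x * ((χ : G → ℂ) x * (χ : G → ℂ) g⁻¹) =
      F g * (Nat.card (Subgroup.centralizer ({g} : Set G)) : ℂ) * classInd g x := by
    intro x
    rw [← Finset.mul_sum, sum_irr_mul_inv x g]
    split_ifs with hx
    · obtain ⟨c, hc⟩ := isConj_iff.mp hx
      rw [classInd_apply_of_isConj hx.symm, mul_one, natCard_centralizer_of_isConj hx]
      congr 1
      rw [← hc, hFc]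
    · rw [classInd_apply_of_not_isConj fun h => hx h.symm, mul_zero, mul_zero]
  simp only [hx]
  rw [← Finset.mul_sum, sum_classInd, mul_assoc, ← Nat.cast_mul, Subgroup.card_mul_index, mul_comm]

/-- The principal part of a character sum on a section. -/
theorem sum_members_section (hM : IsPModular p M) {z : G} {k : ℕ} (hz : orderOf z = p ^ k)
    (lam : IrrCharacter G → ℂ) [Fintype (Subgroup.centralizer ({z} : Set G))] :
    ∑ χ ∈ members M G, lam χ * (χ : G → ℂ) z =
      ∑ c : Subgroup.centralizer ({z} : Set G),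
        blockCoeff (principalBlock M (Subgroup.centralizer ({z} : Set G))) c *
          ∑ χ : IrrCharacter G, lam χ * (χ : G → ℂ) (z * c) := by
  have := isPrime hM
  have h1p : ¬ p ∣ orderOf (1 : (Subgroup.centralizer ({z} : Set G))) := by
    rw [orderOf_one]; exact (Fact.out : p.Prime).not_dvd_one
  simp only [Finset.mul_sum]
  classical
  rw [Finset.sum_comm, ← Finset.sum_subset (Finset.subset_univ (members M G))]
  · refine Finset.sum_congr rfl fun χ hχ => ?_
    have h1 := principal_apply_section hM hz (mem_members.mp hχ) (1 : (Subgroup.centralizer ({z} : Set G))) h1p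
    rw [OneMemClass.coe_one, mul_one] at h1
    conv_lhs => rw [← h1, Finset.mul_sum]
    refine Finset.sum_congr rfl fun c _ => ?_
    rw [Subgroup.mem_centralizer_singleton_iff.mp c.2]
    ring
  · intro χ _ hχ
    have hnot : ¬ IsInducedBlock M (Subgroup.centralizer ({z} : Set G)) (principalBlock M (Subgroup.centralizer ({z} : Set G))) (blockOf M (χ : G → ℂ)) := fun hi =>
      hχ (mem_members.mpr (eq_principal_of_inducing hM hi ▸ mem_blockOf_self χ))
    have h1 := sum_blockCoeff_section_eq_zero hM hz isPBlock_principal hnot (1 : (Subgroup.centralizer ({z} : Set G))) h1p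
    rw [OneMemClass.coe_one, mul_one] at h1
    calc _ = lam χ * ∑ c : (Subgroup.centralizer ({z} : Set G)), blockCoeff (principalBlock M (Subgroup.centralizer ({z} : Set G))) c * (χ : G → ℂ) ((c : G) * z) := by
          rw [Finset.mul_sum]
          exact Finset.sum_congr rfl fun c _ => by
            rw [Subgroup.mem_centralizer_singleton_iff.mp c.2]; ring
      _ = 0 := by rw [h1, mul_zero]

/-- Without a normal complement the Sylow subgroup is a four-group and involutions are fused. -/
theorem setup (P : Sylow 2 G) (g₀ : ℕ) (hg₀ : Odd g₀) (hG : Nat.card G = 4 * g₀)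
    (hnc : ¬ ∃ N : Subgroup G, N.Normal ∧ Nat.card N = g₀) :
    Nat.card P = 4 ∧ (∀ x : P, x * x = 1) ∧
      ∀ s t : G, orderOf s = 2 → orderOf t = 2 → IsConj s t := by
  classical
  haveI : Fact (Nat.Prime 2) := ⟨Nat.prime_two⟩
  have hP : Nat.card P = 4 := by
    have h2 : g₀.factorization 2 = 0 := Nat.factorization_eq_zero_of_not_dvd fun h => by
      obtain ⟨j, hj⟩ := hg₀
      omega
    rw [P.card_eq_multiplicity, hG, Nat.factorization_mul (by norm_num) hg₀.pos.ne',
      Finsupp.add_apply, h2, add_zero, show (4 : ℕ) = 2 ^ 2 from rfl,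
      Nat.Prime.factorization_pow Nat.prime_two, Finsupp.single_eq_same]
  have hno : ¬ Subgroup.normalizer ((P : Subgroup G) : Set G) ≤
      Subgroup.centralizer ((P : Subgroup G) : Set G) := by
    intro hle
    refine hnc ⟨(MonoidHom.transferSylow P hle).ker, inferInstance, ?_⟩
    have h := (MonoidHom.ker_transferSylow_isComplement' P hle).card_mul
    rw [hP, hG] at h
    omega
  have hsq : ∀ x : P, x * x = 1 := by
    intro x
    have hd : orderOf x ∣ 4 := hP ▸ orderOf_dvd_natCard x
    by_contra hx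
    have h4 : orderOf x = 4 := by
      have h2 : ¬ orderOf x ∣ 2 := fun h2 => hx (by rw [← pow_two]; exact orderOf_dvd_iff_pow_eq_one.mp h2)
      have hle := Nat.le_of_dvd (by norm_num) hd
      interval_cases hk : orderOf x <;> simp_all
    haveI : IsCyclic (P : Subgroup G) := isCyclic_of_orderOf_eq_card x (by rw [h4, hP])
    have hmin : (Nat.card G).minFac = 2 := (Nat.minFac_eq_two_iff _).mpr (by
      rw [hG]; exact Dvd.intro (2 * g₀) (by ring))
    exact hno (IsCyclic.normalizer_le_centralizer hmin (P := P) ‹_›)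
  haveI : Nontrivial (P : Subgroup G) := Finite.one_lt_card_iff_nontrivial.mp (by omega)
  have hK : IsKleinFour (P : Subgroup G) := by
    refine ⟨hP, ?_⟩
    refine (Monoid.exponent_eq_prime_iff Nat.prime_two).mpr fun x hx =>
      orderOf_eq_prime (by rw [pow_two]; exact hsq x) hx
  exact ⟨hP, hsq, (Involution.klein_sylow_dichotomy P hK).resolve_left hno⟩

section Klein

variable (P : Sylow 2 G) (hP : Nat.card P = 4) (hexp : ∀ x : P, x * x = 1) {J : G}
  (hJ : J ∈ (P : Subgroup G)) (hJ2 : orderOf J = 2)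

include hP hexp hJ hJ2

theorem comm_P : ∀ a ∈ (P : Subgroup G), ∀ b ∈ (P : Subgroup G), a * b = b * a := by
  intro a ha b hb
  have hsq : ∀ a ∈ (P : Subgroup G), a⁻¹ = a := fun a ha =>
    inv_eq_of_mul_eq_one_right (congrArg Subtype.val (hexp ⟨a, ha⟩))
  rw [← hsq _ (mul_mem ha hb), mul_inv_rev, hsq a ha, hsq b hb]

theorem sum_regular_orth (hM : IsPModular 2 M) {g : G} (hg : ¬ 2 ∣ orderOf g) :
    ∑ χ ∈ members M G, (χ : G → ℂ) J * (χ : G → ℂ) g = 0 := by
  haveI : Fact (Nat.Prime 2) := ⟨Nat.prime_two⟩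
  have := isPrime hM
  have hxg : IsPPart 2 g⁻¹ 1 :=
    ⟨g⁻¹, one_mul _, Commute.one_left _, ⟨0, by simp⟩, by rwa [orderOf_inv]⟩
  have hxJ : IsPPart 2 J J := ⟨1, mul_one _, Commute.one_right _, ⟨1, by rw [hJ2, pow_one]⟩, by simp⟩
  have h := blockOrth_sections hM (isPBlock_principal (G := G)) hxJ hxg fun h => by
    rw [isConj_one_left] at h
    rw [h, orderOf_one] at hJ2
    omega
  rw [inv_inv] at h
  rw [← h, ← finsum_mem_coe_finset]
  refine finsum_mem_congr ?_ fun _ _ => rfl
  ext χ
  simp [mem_members]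

/-- The indicators are orthogonal to the values at the involution. -/
theorem sum_indicator_eq_zero (hM : IsPModular 2 M) :
    ∑ χ ∈ members M G, (∑ s : G, (χ : G → ℂ) (s * s)) * (χ : G → ℂ) J = 0 := by
  classical
  haveI : Fact (Nat.Prime 2) := ⟨Nat.prime_two⟩
  have := isPrime hM
  have := Fintype.ofFinite (Subgroup.centralizer ({J} : Set G))
  have hsec := sum_members_section hM (k := 1) (z := J) (by rw [hJ2, pow_one])
    fun χ => ∑ s : G, (χ : G → ℂ) (s * s)
  rw [hsec]
  refine Finset.sum_eq_zero fun c _ => ?_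
  by_cases hc : 2 ∣ orderOf c
  · rw [blockCoeff_eq_zero_of_dvd_orderOf hM isPBlock_principal hc, zero_mul]
  refine mul_eq_zero_of_right _ ?_
  simp only [Finset.sum_mul]
  rw [Finset.sum_comm]
  refine Finset.sum_eq_zero fun s _ => ?_
  have h2 := sum_irr_mul_inv (s * s) (J * (c : G))⁻¹
  rw [inv_inv] at h2
  rw [h2, if_neg]
  intro hcon
  -- the `2`-part of a square is trivial
  obtain ⟨x, w, rfl, hxw, ⟨j, hx⟩, hw⟩ := exists_pPart (p := 2) Nat.prime_two s
  have hxx : x * x = 1 := by
    obtain ⟨T, hT⟩ := (IsPGroup.of_card (n := j) (by rw [Nat.card_zpowers, hx]) :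
      IsPGroup 2 (Subgroup.zpowers x)).exists_le_sylow
    obtain ⟨d, hd⟩ := MulAction.exists_smul_eq G T P
    have hmem : d * x * d⁻¹ ∈ (P : Subgroup G) := by
      rw [← hd]
      exact ⟨x, hT (Subgroup.mem_zpowers x), rfl⟩
    have h1 : d * x * d⁻¹ * (d * x * d⁻¹) = 1 := congrArg Subtype.val (hexp ⟨_, hmem⟩)
    rw [show d * x * d⁻¹ * (d * x * d⁻¹) = d * (x * x) * d⁻¹ by group, conj_eq_one_iff] at h1
    exact h1
  have hss : IsPPart 2 (x * w * (x * w)) 1 := by
    refine ⟨w * w, ?_, Commute.one_left _, ⟨0, by simp⟩, ?_⟩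
    · rw [one_mul, show x * w * (x * w) = x * x * (w * w) from hxw.symm.mul_mul_mul_comm x w, hxx, one_mul]
    · exact fun hd => hw (hd.trans (by rw [← pow_two]; exact orderOf_pow_dvd 2))
  have hJc : IsPPart 2 (J * (c : G))⁻¹ J⁻¹ := by
    refine ⟨(c : G)⁻¹, ?_, ?_, ⟨1, by rw [orderOf_inv, hJ2, pow_one]⟩,
      by rwa [orderOf_inv, Subgroup.orderOf_coe]⟩
    · rw [← mul_inv_rev, Subgroup.mem_centralizer_singleton_iff.mp c.2]
    · exact (show Commute J (c : G) from
        (Subgroup.mem_centralizer_singleton_iff.mp c.2).symm).inv_inv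
  obtain ⟨d, hd⟩ := isConj_iff.mp hcon
  have h3 := isPPart_conj hss d
  rw [hd, mul_one, mul_inv_cancel] at h3
  have h4 := isPPart_unique Nat.prime_two hJc h3
  rw [inv_eq_one] at h4
  rw [h4, orderOf_one] at hJ2
  omega

set_option maxHeartbeats 1000000 in
/-- The class equation of the involutions. -/
theorem order_equation (hM : IsPModular 2 M)
    (hone : ∀ s t : G, orderOf s = 2 → orderOf t = 2 → IsConj s t) :
    (Nat.card G : ℂ) * (∑ χ ∈ members M G, (χ : G → ℂ) J ^ 3 / (χ : G → ℂ) 1) *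
        (Nat.card (Subgroup.centralizer ((P : Subgroup G) : Set G)) : ℂ) ^ 2 =
      8 * (Nat.card (Subgroup.centralizer ({J} : Set G)) : ℂ) ^ 3 := by
  classical
  haveI : Fact (Nat.Prime 2) := ⟨Nat.prime_two⟩
  have := isPrime hM
  set C := Subgroup.centralizer ({J} : Set G) with hC
  have := Fintype.ofFinite C
  have hJ1 : J ≠ 1 := fun h => by rw [h, orderOf_one] at hJ2; omega
  have hJi : J⁻¹ = J := inv_eq_of_mul_eq_one_right (congrArg Subtype.val (hexp ⟨J, hJ⟩))
  have hcomm := comm_P P hP hexp hJ hJ2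
  have hPC : (P : Subgroup G) ≤ C := fun a ha =>
    Subgroup.mem_centralizer_singleton_iff.mpr (hcomm a ha J hJ)
  obtain ⟨K, hKn, hKp, hreg, hKi⟩ := SectionKernel.exists_kernel P hcomm hJ
    (KleinBlock.normalizer_fix P hP hexp hJ hJ2)
  have := Fintype.ofFinite K
  have := Fintype.ofFinite (C ⧸ K)
  have := Fintype.ofFinite (P : Subgroup G)
  let π : (P : Subgroup G) →* C ⧸ K := (QuotientGroup.mk' K).comp (Subgroup.inclusion hPC)
  have hπ : Function.Bijective π := by
    refine (Nat.bijective_iff_injective_and_card π).mpr ⟨?_, hKi.symm⟩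
    rw [injective_iff_map_eq_one]
    intro a ha
    have hmem : Subgroup.inclusion hPC a ∈ K := (QuotientGroup.eq_one_iff _).mp ha
    obtain ⟨i, hi⟩ := IsPGroup.iff_orderOf.mp P.2 a
    have hd : orderOf a ∣ Nat.card K := by
      rw [← orderOf_injective (Subgroup.inclusion hPC) (Subgroup.inclusion_injective hPC) a]
      exact Subgroup.orderOf_dvd_natCard K hmem
    rcases Nat.eq_zero_or_pos i with rfl | hi0
    · exact orderOf_eq_one_iff.mp (by simpa using hi)
    · exact absurd ((hi ▸ dvd_pow_self 2 hi0.ne').trans hd) hKp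
  set e := (Subgroup.centralizer ((P : Subgroup G) : Set G)).relIndex C with he
  have hle : Subgroup.centralizer ((P : Subgroup G) : Set G) ≤ C :=
    Subgroup.centralizer_le (Set.singleton_subset_iff.mpr hJ)
  have hde : e * Nat.card (Subgroup.centralizer ((P : Subgroup G) : Set G)) = Nat.card C := by
    rw [← Nat.card_congr (Subgroup.subgroupOfEquivOfLe hle).toEquiv]
    exact Subgroup.index_mul_card _
  -- involutions of `C` by cosets
  set I := (univ : Finset C).filter fun u => orderOf u = 2 with hI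
  set N : C ⧸ K → ℕ := fun q => (I.filter fun u => QuotientGroup.mk' K u = q).card with hN
  have hconj : ∀ u ∈ I, ∃ a : (P : Subgroup G), IsConj (Subgroup.inclusion hPC a) u ∧
      QuotientGroup.mk' K u = π a ∧ a ≠ 1 := by
    intro u hu
    have huo : orderOf u = 2 := (mem_filter.mp hu).2
    obtain ⟨T, hT⟩ := (IsPGroup.of_card (n := 1) (by rw [Nat.card_zpowers, huo, pow_one]) :
      IsPGroup 2 (Subgroup.zpowers u)).exists_le_sylow
    obtain ⟨d, hd⟩ := MulAction.exists_smul_eq C T (P.subtype hPC)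
    have hmem : d * u * d⁻¹ ∈ (P.subtype hPC : Subgroup C) := by
      rw [← hd]
      exact ⟨u, hT (Subgroup.mem_zpowers u), rfl⟩
    obtain ⟨d₀, hd₀⟩ := hπ.2 (QuotientGroup.mk' K d)
    obtain ⟨a₀, ha₀⟩ := hπ.2 (QuotientGroup.mk' K u)
    refine ⟨⟨((d * u * d⁻¹ : C) : G), hmem⟩, isConj_iff.mpr ⟨d⁻¹, ?_⟩, ?_, ?_⟩
    · show d⁻¹ * (d * u * d⁻¹) * d⁻¹⁻¹ = u
      group
    · have e1 : π ⟨((d * u * d⁻¹ : C) : G), hmem⟩ =
          π d₀ * QuotientGroup.mk' K u * (π d₀)⁻¹ := by
        rw [hd₀, ← map_inv, ← map_mul, ← map_mul]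
        rfl
      have hc : Commute d₀ a₀ := Subtype.ext (hcomm _ d₀.2 _ a₀.2)
      rw [e1, ← ha₀, ← map_mul, ← map_inv, ← map_mul, hc.eq, mul_inv_cancel_right]
    · intro h1
      have h2 : d * u * d⁻¹ = 1 := Subtype.ext (congrArg (fun x : (P : Subgroup G) => (x : G)) h1)
      rw [conj_eq_one_iff] at h2
      rw [h2, orderOf_one] at huo
      omega
  have hN1 : N (π 1) = 0 := by
    rw [hN, Finset.card_eq_zero, Finset.filter_eq_empty_iff]
    intro u hu hcon
    obtain ⟨a, -, ha, ha1⟩ := hconj u hu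
    exact ha1 (hπ.1 (ha.symm.trans hcon))
  have hNa : ∀ a : (P : Subgroup G), a ≠ 1 → (a : G) ≠ J → N (π a) = e := by
    intro a ha1 haJ
    have haI : Subgroup.inclusion hPC a ∈ I := by
      refine mem_filter.mpr ⟨mem_univ _, ?_⟩
      rw [orderOf_injective (Subgroup.inclusion hPC) (Subgroup.inclusion_injective hPC) a]
      exact orderOf_eq_prime (by rw [pow_two]; exact hexp a) ha1
    have hset : I.filter (fun u => QuotientGroup.mk' K u = π a) =
        univ.filter (fun u => IsConj (Subgroup.inclusion hPC a) u) := by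
      ext u
      simp only [mem_filter, mem_univ, true_and]
      constructor
      · rintro ⟨hu, hq⟩
        obtain ⟨b, hb, hqb, -⟩ := hconj u hu
        rwa [hπ.1 (hqb.symm.trans hq)] at hb
      · intro hc
        obtain ⟨d, hd⟩ := isConj_iff.mp hc
        have huo : orderOf u = 2 := by
          rw [← hd, ← MulAut.conj_apply, MulEquiv.orderOf_eq]
          exact (mem_filter.mp haI).2
        refine ⟨mem_filter.mpr ⟨mem_univ _, huo⟩, ?_⟩
        obtain ⟨d₀, hd₀⟩ := hπ.2 (QuotientGroup.mk' K d)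
        have hc' : Commute d₀ a := Subtype.ext (hcomm _ d₀.2 _ a.2)
        rw [← hd, map_mul, map_mul, map_inv, ← hd₀,
          show QuotientGroup.mk' K (Subgroup.inclusion hPC a) = π a from rfl, ← map_mul, ← map_inv,
          ← map_mul, hc'.eq, mul_inv_cancel_right]
    have hcent : Subgroup.centralizer ({Subgroup.inclusion hPC a} : Set C) =
        (Subgroup.centralizer ((P : Subgroup G) : Set G)).subgroupOf C := by
      ext x
      rw [Subgroup.mem_centralizer_singleton_iff, Subgroup.mem_subgroupOf, Subgroup.mem_centralizer_iff]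
      constructor
      · intro hx b hb
        have hxa : (x : G) * a = a * x := congrArg Subtype.val hx
        have hxJ : (x : G) * J = J * x := Subgroup.mem_centralizer_singleton_iff.mp x.2
        have hb4 : (⟨b, hb⟩ : (P : Subgroup G)) ∈
            ({1, ⟨J, hJ⟩, a, ⟨J, hJ⟩ * a} : Finset (P : Subgroup G)) := by
          have hJa : (⟨J, hJ⟩ : (P : Subgroup G)) * a ≠ 1 := fun h1 => haJ (by
            have h2 : J * (a : G) = 1 := congrArg Subtype.val h1
            rw [← inv_eq_of_mul_eq_one_right h2, hJi])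
          have hcard : ({1, ⟨J, hJ⟩, a, ⟨J, hJ⟩ * a} : Finset (P : Subgroup G)).card = 4 := by
            rw [Finset.card_insert_of_notMem, Finset.card_insert_of_notMem,
              Finset.card_insert_of_notMem, Finset.card_singleton]
            · simp only [Finset.mem_singleton]
              intro h1
              exact hJ1 (congrArg Subtype.val (right_eq_mul.mp h1))
            · simp only [Finset.mem_insert, Finset.mem_singleton, not_or]
              exact ⟨fun h1 => haJ (congrArg Subtype.val h1).symm,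
                fun h1 => ha1 (left_eq_mul.mp h1)⟩
            · simp only [Finset.mem_insert, Finset.mem_singleton, not_or]
              exact ⟨fun h1 => hJ1 (congrArg Subtype.val h1).symm, ha1.symm, hJa.symm⟩
          rw [Finset.eq_univ_of_card _ (hcard.trans (by rw [← Nat.card_eq_fintype_card, hP]))]
          exact mem_univ _
        simp only [Finset.mem_insert, Finset.mem_singleton, Subtype.ext_iff] at hb4
        rcases hb4 with h1 | h1 | h1 | h1
        · rw [show b = 1 from h1, one_mul, mul_one]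
        · rw [show b = J from h1, hxJ]
        · rw [show b = (a : G) from h1, hxa]
        · rw [show b = J * (a : G) from h1, mul_assoc, ← hxa, ← mul_assoc, ← hxJ, mul_assoc]
      · intro hx
        exact Subtype.ext (hx (a : G) a.2).symm
    show (I.filter fun u => QuotientGroup.mk' K u = π a).card = e
    rw [hset, he, Subgroup.relIndex, ← hcent]
    apply Nat.cast_injective (R := ℂ)
    rw [← sum_classInd, Finset.natCast_card_filter]
    exact Finset.sum_congr rfl fun x _ => by
      split_ifs with hx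
      · rw [classInd_apply_of_isConj hx]
      · rw [classInd_apply_of_not_isConj hx]
  -- the projection
  have hsec := sum_members_section hM (k := 1) (z := J) (by rw [hJ2, pow_one]) fun χ =>
    (χ : G → ℂ) J ^ 2 / (χ : G → ℂ) 1
  rw [Finset.sum_congr rfl (g := fun χ : IrrCharacter G =>
      (χ : G → ℂ) J ^ 2 / (χ : G → ℂ) 1 * (χ : G → ℂ) J) (fun χ _ => by ring), hsec,
    SectionKernel.blockCoeff_principal hM K hKp hreg, sum_subInd_mul]
  set SS := ∑ n : K, ∑ χ : IrrCharacter G,
    (χ : G → ℂ) J ^ 2 / (χ : G → ℂ) 1 * (χ : G → ℂ) (J * ((n : C) : G)) with hSS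
  have hJC : J ∈ C := hPC hJ
  have hstep : ((C.index : ℂ)) ^ 2 * SS =
      (Nat.card G : ℂ) * ∑ n : K, conv (classInd J) (classInd J) (J * ((n : C) : G))⁻¹ := by
    rw [hSS, Finset.mul_sum, Finset.mul_sum]
    refine Finset.sum_congr rfl fun n _ => ?_
    rw [← class_formula J (J * ((n : C) : G))⁻¹, inv_inv]
  -- an involution pair over the section lies in `C`
  have hpair : ∀ (n : K) (u : G), orderOf u = 2 → orderOf (u⁻¹ * (J * ((n : C) : G))⁻¹) = 2 →
      u ∈ C := by
    intro n u hu hw
    set g := (J * ((n : C) : G))⁻¹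
    have hui : u⁻¹ = u := inv_eq_of_mul_eq_one_right (by rw [← pow_two, ← hu, pow_orderOf_eq_one])
    have hwi : (u⁻¹ * g)⁻¹ = u⁻¹ * g :=
      inv_eq_of_mul_eq_one_right (by rw [← pow_two, ← hw, pow_orderOf_eq_one])
    rw [mul_inv_rev, inv_inv, hui] at hwi
    have hnreg : ¬ 2 ∣ orderOf ((n : C) : G) := by
      rw [Subgroup.orderOf_coe]
      exact fun hd => hKp (hd.trans (Subgroup.orderOf_dvd_natCard K n.2))
    have hpp : IsPPart 2 (J * ((n : C) : G)) J := ⟨_, rfl,
      (Subgroup.mem_centralizer_singleton_iff.mp (n : C).2).symm, ⟨1, by rw [hJ2, pow_one]⟩, hnreg⟩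
    have hpi : IsPPart 2 g J⁻¹ := by
      refine ⟨((n : C) : G)⁻¹, ?_, ?_, ⟨1, by rw [orderOf_inv, hJ2, pow_one]⟩, by rwa [orderOf_inv]⟩
      · show _ = (J * ((n : C) : G))⁻¹
        rw [← mul_inv_rev, Subgroup.mem_centralizer_singleton_iff.mp (n : C).2]
      · exact (show Commute J ((n : C) : G) from
          (Subgroup.mem_centralizer_singleton_iff.mp (n : C).2).symm).inv_inv
    have h1 := isPPart_conj hpi u
    have e1 : u * g * u⁻¹ = J * ((n : C) : G) := by
      rw [← hwi, hui, mul_assoc, ← pow_two, ← hu, pow_orderOf_eq_one, mul_one]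
    rw [e1, hJi] at h1
    exact Subgroup.mem_centralizer_singleton_iff.mpr
      (mul_inv_eq_iff_eq_mul.mp (isPPart_unique Nat.prime_two h1 hpp))
  have hF : ∀ n : K, conv (classInd J) (classInd J) (J * ((n : C) : G))⁻¹ =
      ((I.filter fun u => u⁻¹ * (⟨J, hJC⟩ * (n : C))⁻¹ ∈ I).card : ℂ) := by
    intro n
    have hind : ∀ x : G, classInd J x = if orderOf x = 2 then 1 else 0 := fun x => by
      split_ifs with hx
      · exact classInd_apply_of_isConj (hone J x hJ2 hx)
      · exact classInd_apply_of_not_isConj fun hc => hx (by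
          obtain ⟨d, rfl⟩ := isConj_iff.mp hc
          rw [← MulAut.conj_apply, MulEquiv.orderOf_eq, hJ2])
    rw [conv_apply, Finset.natCast_card_filter, Finset.sum_filter]
    rw [← Finset.sum_subset (Finset.subset_univ ((univ : Finset C).map ⟨Subtype.val, Subtype.val_injective⟩)),
      Finset.sum_map]
    · refine Finset.sum_congr rfl fun u _ => ?_
      simp only [Function.Embedding.coeFn_mk, hind, Subgroup.orderOf_coe, hI, mem_filter, mem_univ,
        true_and]
      rw [show (u : G)⁻¹ * (J * ((n : C) : G))⁻¹ = ((u⁻¹ * (⟨J, hJC⟩ * (n : C))⁻¹ : C) : G) from rfl,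
        Subgroup.orderOf_coe]
      split_ifs <;> simp
    · intro u _ hu
      have huC : u ∉ C := fun h1 => hu (mem_map.mpr ⟨⟨u, h1⟩, mem_univ _, rfl⟩)
      rw [hind, hind]
      split_ifs with h1 h2 <;> try simp
      exact huC (hpair n u h1 h2)
  have hcount : ∑ n : K, conv (classInd J) (classInd J) (J * ((n : C) : G))⁻¹ = ((2 * e ^ 2 : ℕ) : ℂ) := by
    rw [Finset.sum_congr rfl fun n _ => hF n, ← Nat.cast_sum]
    congr 1
    have hswap : ∑ n : K, (I.filter fun u => u⁻¹ * (⟨J, hJC⟩ * (n : C))⁻¹ ∈ I).card =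
        ∑ u ∈ I, N ((QuotientGroup.mk' K u)⁻¹ * π ⟨J, hJ⟩) := by
      simp only [Finset.card_filter]
      rw [Finset.sum_comm]
      refine Finset.sum_congr rfl fun u hu => ?_
      rw [← Finset.card_filter]
      have hπJ : QuotientGroup.mk' K (⟨J, hJC⟩ : C)⁻¹ = π ⟨J, hJ⟩ :=
        congrArg (QuotientGroup.mk' K) (Subtype.ext hJi : (⟨J, hJC⟩ : C)⁻¹ = Subgroup.inclusion hPC ⟨J, hJ⟩)
      refine Finset.card_bij (fun n _ => u⁻¹ * (⟨J, hJC⟩ * (n : C))⁻¹) (fun n hn => ?_)
        (fun a _ b _ hab => Subtype.ext (mul_left_cancel (inv_injective (mul_left_cancel hab))))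
        (fun w hw => ?_)
      · refine mem_filter.mpr ⟨(mem_filter.mp hn).2, ?_⟩
        rw [map_mul, map_inv, mul_inv_rev, map_mul, map_inv,
          (QuotientGroup.eq_one_iff (n : C)).mpr n.2 |> fun h =>
            (h : QuotientGroup.mk' K (n : C) = 1), inv_one, one_mul, hπJ]
      · obtain ⟨hwI, hwq⟩ := mem_filter.mp hw
        have hmem : (⟨J, hJC⟩ : C)⁻¹ * (u * w)⁻¹ ∈ K := by
          refine (QuotientGroup.eq_one_iff _).mp ?_
          show QuotientGroup.mk' K _ = 1
          rw [map_mul, map_inv (QuotientGroup.mk' K) (u * w), map_mul, hwq, mul_inv_cancel_left,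
            hπJ, mul_inv_cancel]
        refine ⟨⟨_, hmem⟩, mem_filter.mpr ⟨mem_univ _, ?_⟩, ?_⟩
        · convert hwI using 1
          simp
        · simp
    rw [hswap, ← Finset.sum_fiberwise I (QuotientGroup.mk' K),
      Finset.sum_congr rfl (g := fun q => N q * N (q⁻¹ * π ⟨J, hJ⟩)) (fun q _ => by
        rw [Finset.sum_congr rfl (g := fun _ => N (q⁻¹ * π ⟨J, hJ⟩)) fun u hu => by
          rw [(mem_filter.mp hu).2], Finset.sum_const, smul_eq_mul]),
      ← (Equiv.ofBijective π hπ).sum_comp, ← Finset.add_sum_erase _ _ (mem_univ (1 : (P : Subgroup G))),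
      ← Finset.add_sum_erase _ _ (mem_erase.mpr ⟨fun h1 => hJ1 (congrArg Subtype.val h1),
        mem_univ (⟨J, hJ⟩ : (P : Subgroup G))⟩)]
    simp only [Equiv.ofBijective_apply, hN1, zero_mul, zero_add, inv_mul_cancel]
    rw [show N 1 = 0 from (map_one π) ▸ hN1, mul_zero, zero_add,
      Finset.sum_congr rfl (g := fun _ => e * e) (fun a ha => ?_), Finset.sum_const,
      Finset.card_erase_of_mem (mem_erase.mpr ⟨fun h1 => hJ1 (congrArg Subtype.val h1), mem_univ _⟩),
      Finset.card_erase_of_mem (mem_univ _), card_univ, ← Nat.card_eq_fintype_card, hP, smul_eq_mul,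
      pow_two]
    obtain ⟨haJ, ha⟩ := mem_erase.mp ha
    have ha1 := (mem_erase.mp ha).1
    rw [hNa a ha1 fun h1 => haJ (Subtype.ext h1), ← map_inv, ← map_mul, hNa]
    · exact fun h1 => haJ (inv_mul_eq_one.mp h1)
    · intro h1
      apply ha1
      have h2 : a⁻¹ * (⟨J, hJ⟩ : (P : Subgroup G)) = ⟨J, hJ⟩ := Subtype.ext h1
      exact inv_eq_one.mp (mul_eq_right.mp h2)
  rw [hcount] at hstep
  have hK4 : (4 : ℂ) * (Nat.card K : ℂ) = (Nat.card C : ℂ) := by
    have := Subgroup.index_mul_card K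
    rw [hKi, hP] at this
    exact_mod_cast this
  have hCG : (C.index : ℂ) * (Nat.card C : ℂ) = (Nat.card G : ℂ) := by
    exact_mod_cast Subgroup.index_mul_card C
  have hde' : (e : ℂ) * (Nat.card (Subgroup.centralizer ((P : Subgroup G) : Set G)) : ℂ) =
      (Nat.card C : ℂ) := by exact_mod_cast hde
  have hK0 : (Nat.card K : ℂ) ≠ 0 := Nat.cast_ne_zero.mpr Nat.card_pos.ne'
  have hI0 : (C.index : ℂ) ≠ 0 := Nat.cast_ne_zero.mpr Subgroup.index_ne_zero_of_finite
  push_cast at hstep
  rw [← hCG] at hstep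
  have hS : (C.index : ℂ) * SS = (Nat.card C : ℂ) * (2 * (e : ℂ) ^ 2) :=
    mul_left_cancel₀ hI0 (by linear_combination hstep)
  rw [← hCG]
  set dd := (Nat.card (Subgroup.centralizer ((P : Subgroup G) : Set G)) : ℂ)
  refine mul_left_cancel₀ hK0 ?_
  have hKK := mul_inv_cancel₀ hK0
  linear_combination (Nat.card C : ℂ) * dd ^ 2 * hS +
    2 * (Nat.card C : ℂ) ^ 2 * ((e : ℂ) * dd + (Nat.card C : ℂ)) * hde' -
    2 * (Nat.card C : ℂ) ^ 3 * hK4 + ((C.index : ℂ) * (Nat.card C : ℂ) * SS * dd ^ 2) * hKK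

end Klein

end Cfsg.Agent.BlocksCore.KleinOrder
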