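import Cfsg.Agent.Lib.BlocksCore.WeakOrth
import Cfsg.Agent.Lib.BlocksDefect.Congruence
import Mathlib.RingTheory.ZMod

/-!
# Vanishing of traces of permutations twisted by idempotents

If a permutation `u` of `p`-power order commutes with an idempotent matrix over the local ring
whose entries between fixed points are in the local ideal, then the trace of their product is `0`.
-/

set_option linter.unusedSectionVars false

namespace Cfsg.Agent.BlocksCore

variable {p : ℕ} {M : Ideal AlgInt}

/-- Idempotent matrices with nilpotent difference modulo the local ideal have equal traces. -/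
theorem trace_eq_of_idempotent_nilpotent [M.IsPrime] {ι : Type*} [Fintype ι] [DecidableEq ι]
    {P Q : Matrix ι ι ℂ} (hP : P * P = P) (hQ : Q * Q = Q)
    (hPi : ∀ i j, MemLocalRing M (P i j)) (hQi : ∀ i j, MemLocalRing M (Q i j))
    (hNN : ∀ i j k, MemLocalIdeal M ((P i j - Q i j) * (P j k - Q j k)))
    (hNQ : ∀ i j k, MemLocalIdeal M ((P i j - Q i j) * Q j k)) : P.trace = Q.trace := by
  let π := (Ideal.Quotient.mk (localIdeal M)).mapMatrix (m := ι)
  let σ := (localRing M).subtype.mapMatrix (m := ι)
  let P' : Matrix ι ι (localRing M) := Matrix.of fun i j => ⟨P i j, hPi i j⟩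
  let Q' : Matrix ι ι (localRing M) := Matrix.of fun i j => ⟨Q i j, hQi i j⟩
  have hσP : σ P' = P := rfl
  have hσQ : σ Q' = Q := rfl
  have hσ : Function.Injective σ := fun A B hAB => Matrix.ext fun i j =>
    Subtype.ext (congrFun (congrFun hAB i) j)
  have hQ' : Q' * Q' = Q' := hσ (by rw [map_mul, hσQ, hQ])
  have hN2 : π (P' - Q') * π (P' - Q') = 0 := by
    rw [← map_mul]
    refine Matrix.ext fun i k => Ideal.Quotient.eq_zero_iff_mem.mpr ?_
    rw [Matrix.mul_apply]
    exact (localIdeal M).sum_mem fun j _ => hNN i j k
  have hNQ' : π (P' - Q') * π Q' = 0 := by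
    rw [← map_mul]
    refine Matrix.ext fun i k => Ideal.Quotient.eq_zero_iff_mem.mpr ?_
    rw [Matrix.mul_apply]
    exact (localIdeal M).sum_mem fun j _ => hNQ i j k
  set U : Matrix ι ι (localRing M) := P' * Q' + (1 - P') * (1 - Q') with hU
  have hU1 : π U = 1 - π (P' - Q') := by
    have e1 : π P' = π Q' + π (P' - Q') := by rw [map_sub]; abel
    have e2 : π P' * π Q' = π Q' := by
      rw [e1, add_mul, hNQ', add_zero, ← map_mul, hQ']
    simp only [hU, map_add, map_mul, map_sub, map_one]
    rw [sub_mul, one_mul, mul_sub, mul_one, e2]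
    abel
  have hdet : (σ U).det ≠ 0 := by
    intro h0
    rw [← RingHom.map_det] at h0
    have h1 : U.det = 0 := Subtype.ext h0
    have h2 : π U * (1 + π (P' - Q')) = 1 := by
      rw [hU1, sub_mul, one_mul, mul_add, mul_one, hN2, add_zero, add_sub_cancel_right]
    have h3 := congrArg Matrix.det h2
    rw [Matrix.det_mul, ← RingHom.map_det, h1, map_zero, zero_mul, Matrix.det_one] at h3
    exact zero_ne_one h3
  have hcomm : P * σ U = σ U * Q := by
    simp only [hU, map_add, map_mul, map_sub, map_one, hσP, hσQ]
    have e1 : P * (1 - P) = 0 := by rw [mul_sub, mul_one, hP, sub_self]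
    have e2 : (1 - Q) * Q = 0 := by rw [sub_mul, one_mul, hQ, sub_self]
    rw [mul_add, add_mul, ← mul_assoc, ← mul_assoc, hP, e1, zero_mul, add_zero, mul_assoc, hQ,
      mul_assoc, e2, mul_zero, add_zero]
  have hunit : IsUnit (σ U).det := isUnit_iff_ne_zero.mpr hdet
  calc P.trace = (P * (σ U * (σ U)⁻¹)).trace := by rw [Matrix.mul_nonsing_inv _ hunit, mul_one]
    _ = ((σ U)⁻¹ * (σ U * Q)).trace := by
        rw [← mul_assoc, Matrix.trace_mul_comm, hcomm]
    _ = Q.trace := by rw [← mul_assoc, Matrix.nonsing_inv_mul _ hunit, one_mul]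

/-- The trace of a `p`-power order permutation times a commuting idempotent vanishes if the
idempotent is trivial modulo the local ideal between fixed points. -/
theorem sum_perm_idempotent_eq_zero (hM : IsPModular p M) {X : Type*} [Fintype X]
    (u : Equiv.Perm X) {k : ℕ} (hu : u ^ p ^ k = 1) (E : X → X → ℂ)
    (hint : ∀ x y, MemLocalRing M (E x y)) (hidem : ∀ x z, ∑ y, E x y * E y z = E x z)
    (hinv : ∀ x y, E (u x) (u y) = E x y)
    (hfix : ∀ x y, u x = x → u y = y → MemLocalIdeal M (E x y)) :
    ∑ x, E x (u x) = 0 := by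
  classical
  have := isPrime hM
  haveI := Fact.mk hM.1
  set n := p ^ (k + 1) with hn
  haveI : NeZero n := ⟨pow_ne_zero _ hM.1.ne_zero⟩
  have hun : u ^ n = 1 := by rw [hn, pow_succ, pow_mul, hu, one_pow]
  let U : ZMod n → Equiv.Perm X := fun i => u ^ i.val
  have hUnat : ∀ q : ℕ, U (q : ZMod n) = u ^ q := fun q => by
    simp only [U, ZMod.val_natCast]
    exact (pow_eq_pow_mod q hun).symm
  have hUadd : ∀ a b x, U (a + b) x = U a (U b x) := fun a b x => by
    rw [← Equiv.Perm.mul_apply]
    congr 1
    simp only [U, ← pow_add, ZMod.val_add]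
    exact (pow_eq_pow_mod _ hun).symm
  have hU0 : ∀ x, U 0 x = x := fun x => by
    have h0 := hUnat 0
    rw [Nat.cast_zero] at h0
    rw [h0, pow_zero]; rfl
  have hU1 : ∀ x, U 1 x = u x := fun x => by
    have h0 := hUnat 1
    rw [Nat.cast_one] at h0
    rw [h0, pow_one]
  have hUcomm : ∀ a b x, U a (U b x) = U b (U a x) := fun a b x => by
    rw [← hUadd, ← hUadd, add_comm]
  have hEU : ∀ i x y, E (U i x) (U i y) = E x y := fun i x y => by
    simp only [U]
    induction i.val with
    | zero => rfl
    | succ q ih => rw [pow_succ', Equiv.Perm.mul_apply, Equiv.Perm.mul_apply, hinv, ih]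
  let ψ : AddChar (ZMod n) ℂ := ZMod.stdAddChar
  let R : X → X → Prop := fun x y => ∃ i, U i x = y
  have hR : Equivalence R :=
    { refl := fun x => ⟨0, hU0 x⟩
      symm := fun {x y} ⟨i, hi⟩ => ⟨-i, by rw [← hi, ← hUadd, neg_add_cancel, hU0]⟩
      trans := fun {x y z} ⟨i, hi⟩ ⟨j, hj⟩ => ⟨j + i, by rw [hUadd, hi, hj]⟩ }
  let st : Setoid X := ⟨R, hR⟩
  haveI : Fintype (Quotient st) := Fintype.ofFinite _
  let orb : X → Quotient st := Quotient.mk st
  have horbU : ∀ i x, orb (U i x) = orb x := fun i x =>
    (Quotient.sound (s := st) (show R x (U i x) from ⟨i, rfl⟩)).symm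
  have hI : ∀ y, ∃ i, U i (orb y).out = y := fun y => Quotient.exact (Quotient.out_eq (orb y))
  choose I hI using hI
  let good : ZMod n → X → Prop := fun j x => ∀ i, U i x = x → ψ (i * j) = 1
  have hgoodU : ∀ j i x, good j (U i x) ↔ good j x := fun j i x => by
    refine forall_congr' fun a => ?_
    rw [hUcomm, (U i).injective.eq_iff]
  have hgoodout : ∀ j y, good j (orb y).out ↔ good j y := fun j y => by
    conv_rhs => rw [← hI y]
    rw [hgoodU]
  have hgood_eq : ∀ j x, good j x → ∀ a b, U a x = U b x → ψ (a * j) = ψ (b * j) := by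
    intro j x hx a b hab
    have h1 : U (-b + a) x = x := by rw [hUadd, hab, ← hUadd, neg_add_cancel, hU0]
    rw [show a * j = b * j + (-b + a) * j by ring, AddChar.map_add_eq_mul, hx _ h1, mul_one]
  let F : ZMod n → Quotient st → X → ℂ := fun j r x =>
    ∑ z, if orb z = r then ψ (I z * j) * E x z else 0
  let A : ZMod n → Matrix (Quotient st) (Quotient st) ℂ := fun j => Matrix.of fun s t =>
    if good j s.out ∧ good j t.out then F j t s.out else 0
  have hFshift : ∀ j r, good j r.out → ∀ i x, F j r (U i x) = ψ (i * j) * F j r x := by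
    intro j r hr i x
    simp only [F, Finset.mul_sum]
    refine (Fintype.sum_equiv (U i) _ _ fun z => ?_).symm
    rw [horbU, hEU]
    split_ifs with hz
    · have h1 : ψ (I (U i z) * j) = ψ ((i + I z) * j) := by
        refine hgood_eq j r.out hr _ _ ?_
        have e1 := hI (U i z)
        rw [horbU, hz] at e1
        have e2 := hI z
        rw [hz] at e2
        rw [e1, hUadd, e2]
      rw [h1, add_mul, AddChar.map_add_eq_mul, mul_assoc]
    · rw [mul_zero]
  have hF0 : ∀ j r y, good j r.out → ¬ good j y → F j r y = 0 := by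
    intro j r y hr hy
    simp only [good, not_forall] at hy
    obtain ⟨i, hi, hψ⟩ := hy
    have h := hFshift j r hr i y
    rw [hi] at h
    by_contra h0
    exact hψ (mul_right_cancel₀ h0 (by rw [one_mul]; exact h.symm))
  have hA : ∀ j, A j * A j = A j := by
    intro j
    ext s r
    rw [Matrix.mul_apply]
    by_cases hsr : good j s.out ∧ good j r.out
    · have hstep : ∀ t, A j s t * A j t r =
          ∑ y, if orb y = t then E s.out y * F j r y else 0 := by
        intro t
        by_cases ht : good j t.out
        · simp only [A, Matrix.of_apply, hsr.1, hsr.2, ht, and_self, if_true]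
          conv_lhs => rw [show F j t s.out = ∑ y, if orb y = t then ψ (I y * j) * E s.out y else 0
            from rfl, Finset.sum_mul]
          refine Finset.sum_congr rfl fun y _ => ?_
          split_ifs with hy
          · have h := hFshift j r hsr.2 (I y) t.out
            have e := hI y
            rw [hy] at e
            rw [e] at h
            rw [h]
            ring
          · rw [zero_mul]
        · simp only [A, Matrix.of_apply, ht, and_false, if_false, false_and, zero_mul]
          refine (Finset.sum_eq_zero fun y _ => ?_).symm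
          split_ifs with hy
          · rw [hF0 j r y hsr.2 (fun h => ht (hy ▸ (hgoodout j y).mpr h)), mul_zero]
          · rfl
      rw [Finset.sum_congr rfl fun t _ => hstep t, Finset.sum_comm]
      simp only [Finset.sum_ite_eq, Finset.mem_univ, if_true]
      simp only [A, Matrix.of_apply, hsr, and_self, if_true, F, Finset.mul_sum]
      rw [Finset.sum_comm]
      refine Finset.sum_congr rfl fun z _ => ?_
      split_ifs with hz
      · rw [← hidem, Finset.mul_sum]
        refine Finset.sum_congr rfl fun y _ => ?_
        ring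
      · simp
    · rw [Finset.sum_eq_zero, show A j s r = 0 by simp only [A, Matrix.of_apply, hsr, if_false]]
      intro t _
      simp only [A, Matrix.of_apply]
      by_cases h1 : good j s.out
      · have h2 : ¬ good j r.out := fun h => hsr ⟨h1, h⟩
        simp [h2]
      · simp [h1]
  have hψi : ∀ a, MemLocalRing M (ψ a) := fun a => memLocalRing_of_isIntegral <|
    IsIntegral.of_pow (n := n) (Nat.pos_of_ne_zero (pow_ne_zero _ hM.1.ne_zero)) (by
      rw [← AddChar.map_nsmul_eq_pow, ZModModule.char_nsmul_eq_zero, AddChar.map_zero_eq_one]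
      exact isIntegral_one)
  have hAi : ∀ j s t, MemLocalRing M (A j s t) := fun j s t => by
    simp only [A, F, Matrix.of_apply]
    split_ifs
    · refine memLocalRing_sum fun z _ => ?_
      split_ifs
      · exact (localRing M).mul_mem (hψi _) (hint _ _)
      · exact (localRing M).zero_mem
    · exact (localRing M).zero_mem
  -- fixed and non-fixed orbits
  have hdiv : ∀ i x, U i x = x → u x ≠ x → ∃ q : ZMod n, i = (p : ZMod n) * q := by
    intro i x hix hx
    by_cases hp : p ∣ i.val
    · obtain ⟨q, hq⟩ := hp
      exact ⟨q, by rw [← ZMod.natCast_zmod_val i, hq, Nat.cast_mul]⟩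
    · exfalso
      have hcop : i.val.Coprime n :=
        Nat.Coprime.pow_right _ ((hM.1.coprime_iff_not_dvd.mpr hp).symm)
      have hmult : ∀ q : ℕ, U ((q : ZMod n) * i) x = x := by
        intro q
        induction q with
        | zero => rw [Nat.cast_zero, zero_mul, hU0]
        | succ q ih => rw [Nat.cast_succ, add_mul, one_mul, hUadd, hix, ih]
      have h1 := hmult ((i⁻¹ : ZMod n).val)
      rw [ZMod.natCast_zmod_val, ← ZMod.natCast_zmod_val i, mul_comm,
        ZMod.coe_mul_inv_eq_one _ hcop, hU1] at h1
      exact hx h1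
  have hfixU : ∀ i x, u (U i x) = U i x ↔ u x = x := fun i x => by
    rw [← hU1, hUcomm, hU1, (U i).injective.eq_iff]
  have hgoodfix : ∀ j x, u x = x → good j x → j = 0 := by
    intro j x hx hg
    have h := hg 1 (by rw [hU1, hx])
    rw [one_mul, ← AddChar.map_zero_eq_one ψ] at h
    exact ZMod.injective_stdAddChar h
  have hgoodshift : ∀ j d x, (p : ZMod n) * d = 0 → u x ≠ x → good j x → good (j + d) x := by
    intro j d x hd hx hg i hi
    obtain ⟨q, rfl⟩ := hdiv i x hi hx
    rw [mul_add, AddChar.map_add_eq_mul, hg _ hi, one_mul,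
      show (p : ZMod n) * q * d = q * (p * d) by ring, hd, mul_zero, AddChar.map_zero_eq_one]
  have hfixsum : ∀ s t : Quotient st, u s.out = s.out → u t.out ≠ t.out →
      MemLocalIdeal M (∑ y, if orb y = t then E s.out y else 0) := by
    intro s t hs ht
    let P := Subgroup.zpowers u
    have hP : IsPGroup p P := by
      intro g
      obtain ⟨z, hz⟩ := Subgroup.mem_zpowers_iff.mp g.2
      refine ⟨k, Subtype.ext ?_⟩
      rw [SubmonoidClass.coe_pow, ← hz, ← zpow_natCast, ← zpow_mul, mul_comm, zpow_mul,
        zpow_natCast, hu, one_zpow]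
      rfl
    have key := BlocksDefect.memLocalIdeal_sum_sub_fixed (α := X) (P := P) hM hP
      (fun y => if orb y = t then E s.out y else 0) ?_ ?_
    · rw [Finset.sum_eq_zero (s := Finset.univ.filter (· ∈ MulAction.fixedPoints P X)) ?_,
        sub_zero] at key
      · exact key
      · intro y hy
        rw [if_neg]
        intro hyt
        have h := (Finset.mem_filter.mp hy).2 ⟨u, Subgroup.mem_zpowers u⟩
        have h' : u y = y := h
        have e := hI y
        rw [hyt] at e
        rw [← e, hfixU] at h'
        exact ht h'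
    · intro g y
      have hfo : IsOfFinOrder u := isOfFinOrder_iff_pow_eq_one.mpr
        ⟨n, Nat.pos_of_ne_zero (pow_ne_zero _ hM.1.ne_zero), hun⟩
      obtain ⟨q, hq⟩ := hfo.mem_powers_iff_mem_zpowers.mpr g.2
      have hgU : (g : Equiv.Perm X) y = U (q : ZMod n) y := by
        rw [hUnat]
        exact congrFun (congrArg _ hq.symm) y
      change (if orb ((g : Equiv.Perm X) y) = t then E s.out ((g : Equiv.Perm X) y) else 0) = _
      rw [hgU, horbU]
      split_ifs
      · have hsU : U (q : ZMod n) s.out = s.out := by
          rw [hUnat]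
          exact Function.IsFixedPt.perm_pow hs q
        conv_lhs => rw [← hsU, hEU]
      · rfl
    · intro y
      split_ifs
      · exact hint _ _
      · exact (localRing M).zero_mem
  have hpair : ∀ j j', (p : ZMod n) * (j' - j) = 0 → j' ≠ 0 → (A j).trace = (A j').trace := by
    intro j j' hd hj'
    have hQ0 : ∀ s t : Quotient st, u s.out = s.out ∨ u t.out = t.out → A j' s t = 0 := by
      intro s t hst
      simp only [A, Matrix.of_apply]
      rw [if_neg]
      rintro ⟨hs, ht⟩
      exact hj' (hst.elim (fun h => hgoodfix j' _ h hs) fun h => hgoodfix j' _ h ht)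
    have hN : ∀ s t : Quotient st, ¬ (u s.out ≠ s.out ∧ u t.out = t.out) →
        MemLocalIdeal M (A j s t - A j' s t) := by
      intro s t hst
      by_cases hs : u s.out = s.out
      · rw [hQ0 s t (Or.inl hs), sub_zero]
        simp only [A, Matrix.of_apply]
        split_ifs with hg
        · obtain rfl := hgoodfix j _ hs hg.1
          by_cases ht : u t.out = t.out
          · refine memLocalIdeal_sum fun z _ => ?_
            split_ifs with hz
            · refine memLocalIdeal_mul_left (hψi _) (hfix _ _ hs ?_)
              rw [← hI z, hz, hfixU]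
              exact ht
            · exact memLocalIdeal_zero
          · have := hfixsum s t hs ht
            simpa [F, mul_zero, AddChar.map_zero_eq_one] using this
        · exact memLocalIdeal_zero
      · have ht : u t.out ≠ t.out := fun h => hst ⟨hs, h⟩
        have hd' : (p : ZMod n) * (j - j') = 0 := by rw [← neg_sub, mul_neg, hd, neg_zero]
        have hgiff : ∀ x, u x ≠ x → (good j x ↔ good j' x) := fun x hx =>
          ⟨fun h => by simpa using hgoodshift j (j' - j) x hd hx h,
            fun h => by simpa using hgoodshift j' (j - j') x hd' hx h⟩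
        simp only [A, Matrix.of_apply]
        simp only [hgiff _ hs, hgiff _ ht]
        split_ifs
        · simp only [F, ← Finset.sum_sub_distrib]
          refine memLocalIdeal_sum fun z _ => ?_
          split_ifs
          · rw [← sub_mul]
            refine memLocalIdeal_mul_right ?_ (hint _ _)
            rw [show I z * j = I z * j' + I z * (j - j') by ring, AddChar.map_add_eq_mul,
              ← mul_sub_one]
            refine memLocalIdeal_mul_left (hψi _) (memLocalIdeal_sub_one_of_pow hM (k := 1) ?_)
            rw [pow_one, ← AddChar.map_nsmul_eq_pow, nsmul_eq_mul, mul_left_comm, hd', mul_zero,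
              AddChar.map_zero_eq_one]
          · rw [sub_zero]; exact memLocalIdeal_zero
        · rw [sub_zero]; exact memLocalIdeal_zero
    refine trace_eq_of_idempotent_nilpotent (hA j) (hA j') (hAi j) (hAi j') ?_ ?_
    · intro a b c
      by_cases h : u a.out ≠ a.out ∧ u b.out = b.out
      · exact memLocalIdeal_mul_left ((localRing M).sub_mem (hAi j a b) (hAi j' a b))
          (hN b c fun h' => h'.1 h.2)
      · exact memLocalIdeal_mul_right (hN a b h) ((localRing M).sub_mem (hAi j b c) (hAi j' b c))
    · intro a b c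
      by_cases h : u a.out ≠ a.out ∧ u b.out = b.out
      · rw [hQ0 b c (Or.inl h.2), mul_zero]; exact memLocalIdeal_zero
      · exact memLocalIdeal_mul_right (hN a b h) (hAi j' b c)
  set c : ZMod n := ((p ^ k : ℕ) : ZMod n) with hcdef
  have hpc : (p : ZMod n) * c = 0 := by
    rw [hcdef, ← Nat.cast_mul, ← pow_succ', ← hn, ZMod.natCast_self]
  have hc0 : c ≠ 0 := by
    rw [hcdef, Ne, ZMod.natCast_eq_zero_iff]
    intro h
    have := Nat.le_of_dvd (pow_pos hM.1.pos k) h
    rw [hn, pow_succ] at this
    nlinarith [hM.1.two_le, pow_pos hM.1.pos k]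
  have htr : ∀ j, (A (j + c)).trace = (A j).trace := by
    intro j
    by_cases hj : j + c = 0
    · refine hpair (j + c) j ?_ fun h => hc0 (by rw [← hj, h, zero_add])
      rw [sub_add_cancel_left, mul_neg, hpc, neg_zero]
    · exact (hpair j (j + c) (by rw [add_sub_cancel_left, hpc]) hj).symm
  -- diagonal entries
  let stab : Quotient st → Finset (ZMod n) := fun t => Finset.univ.filter fun i => U i t.out = t.out
  have hstab : ∀ t, ((stab t).card : ℂ) ≠ 0 := fun t =>
    Nat.cast_ne_zero.mpr (Finset.card_ne_zero_of_mem
      (Finset.mem_filter.mpr ⟨Finset.mem_univ (0 : ZMod n), hU0 _⟩))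
  have hfib : ∀ (t : Quotient st) (G : X → ℂ), ∑ i, G (U i t.out) =
      (stab t).card * ∑ y, if orb y = t then G y else 0 := by
    intro t G
    rw [← Finset.sum_fiberwise Finset.univ (fun i : ZMod n => U i t.out), Finset.mul_sum]
    refine Finset.sum_congr rfl fun y _ => ?_
    rw [Finset.sum_congr rfl fun i hi => by rw [(Finset.mem_filter.mp hi).2], Finset.sum_const,
      nsmul_eq_mul]
    split_ifs with hy
    · congr 2
      refine (Finset.card_equiv (Equiv.addLeft (I y)) fun i => ?_).symm
      have e := hI y
      rw [hy] at e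
      simp only [stab, Finset.mem_filter, Finset.mem_univ, true_and, Equiv.coe_addLeft, hUadd]
      conv_rhs => rhs; rw [← e]
      exact (U (I y)).injective.eq_iff.symm
    · rw [mul_zero, Finset.card_eq_zero.mpr, Nat.cast_zero, zero_mul]
      refine Finset.filter_eq_empty_iff.mpr fun i _ h => hy ?_
      rw [← h, horbU]
      exact Quotient.out_eq t
  have hdiag : ∀ j t, ((stab t).card : ℂ) * A j t t = ∑ i, ψ (i * j) * E t.out (U i t.out) := by
    intro j t
    by_cases hg : good j t.out
    · simp only [A, Matrix.of_apply, hg, and_self, if_true, F]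
      rw [← hfib t fun y => ψ (I y * j) * E t.out y]
      refine Finset.sum_congr rfl fun i _ => ?_
      congr 1
      refine hgood_eq j t.out hg _ _ ?_
      have e := hI (U i t.out)
      rw [horbU, show orb t.out = t from Quotient.out_eq t] at e
      exact e
    · simp only [A, Matrix.of_apply, hg, and_false, if_false, mul_zero]
      simp only [good, not_forall] at hg
      obtain ⟨a, ha, hψ⟩ := hg
      have h : ∑ i, ψ (i * j) * E t.out (U i t.out) =
          ψ (a * j) * ∑ i, ψ (i * j) * E t.out (U i t.out) := by
        rw [Finset.mul_sum]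
        refine (Fintype.sum_equiv (Equiv.addRight a) _ _ fun i => ?_).symm
        rw [Equiv.coe_addRight, add_mul, AddChar.map_add_eq_mul, hUadd, ha]
        ring
      by_contra h0
      exact hψ (mul_right_cancel₀ (Ne.symm h0) (by rw [one_mul]; exact h.symm))
  have hS : ∑ j, ψ (-j) * (A j).trace = ∑ x, E x (u x) := by
    have hx : ∀ x, E x (u x) = E (orb x).out (u (orb x).out) := fun x => by
      have h1 := hUcomm 1 (I x) (orb x).out
      rw [hI, hU1, hU1] at h1
      calc E x (u x) = E (U (I x) (orb x).out) (U (I x) (u (orb x).out)) := by rw [hI, h1]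
        _ = _ := hEU _ _ _
    rw [Finset.sum_congr rfl fun x _ => hx x,
      ← Finset.sum_fiberwise Finset.univ orb fun x => E (orb x).out (u (orb x).out)]
    simp only [Matrix.trace, Matrix.diag_apply, Finset.mul_sum]
    rw [Finset.sum_comm]
    refine Finset.sum_congr rfl fun t _ => mul_left_cancel₀ (hstab t) ?_
    rw [Finset.sum_filter, Finset.sum_congr rfl fun x _ =>
      show (if orb x = t then E (orb x).out (u (orb x).out) else 0) =
          (if orb x = t then E t.out (u t.out) else 0) by
        split_ifs with h
        · rw [h]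
        · rfl,
      ← hfib t (fun _ => E t.out (u t.out)), Finset.sum_const, Finset.card_univ, ZMod.card,
      nsmul_eq_mul, Finset.mul_sum]
    rw [Finset.sum_congr rfl fun j _ => show ((stab t).card : ℂ) * (ψ (-j) * A j t t) =
        ∑ i, ψ (-j) * (ψ (i * j) * E t.out (U i t.out)) by
      rw [mul_left_comm, hdiag, Finset.mul_sum]]
    rw [Finset.sum_comm, Finset.sum_eq_single 1]
    · rw [Finset.sum_congr rfl fun j _ => by
        rw [one_mul, ← mul_assoc, ← AddChar.map_add_eq_mul, neg_add_cancel,
          AddChar.map_zero_eq_one, one_mul, hU1]]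
      rw [Finset.sum_const, Finset.card_univ, ZMod.card, nsmul_eq_mul]
    · intro i _ hi
      have h := AddChar.sum_mulShift (i - 1) (ZMod.isPrimitive_stdAddChar n)
      rw [if_neg (sub_ne_zero.mpr hi), Nat.cast_zero] at h
      calc ∑ j, ψ (-j) * (ψ (i * j) * E t.out (U i t.out))
          = ∑ j, ψ (j * (i - 1)) * E t.out (U i t.out) := Finset.sum_congr rfl fun j _ => by
            rw [← mul_assoc, ← AddChar.map_add_eq_mul,
              show -j + i * j = j * (i - 1) by ring]
        _ = (∑ j, ψ (j * (i - 1))) * E t.out (U i t.out) := (Finset.sum_mul ..).symm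
        _ = 0 := by
          rw [show ∑ j, ψ (j * (i - 1)) = 0 from h, zero_mul]
    · exact fun h => absurd (Finset.mem_univ _) h
  have hinvS : ∑ j, ψ (-j) * (A j).trace = ψ (-c) * ∑ j, ψ (-j) * (A j).trace := by
    rw [Finset.mul_sum]
    refine (Fintype.sum_equiv (Equiv.addRight c) _ _ fun j => ?_).symm
    rw [Equiv.coe_addRight, htr, neg_add, AddChar.map_add_eq_mul]
    ring
  rw [← hS]
  by_contra h0
  have h1 : ψ (-c) = 1 := mul_right_cancel₀ h0 (by rw [one_mul]; exact hinvS.symm)
  rw [← AddChar.map_zero_eq_one ψ] at h1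
  exact hc0 (neg_eq_zero.mp (ZMod.injective_stdAddChar h1))

end Cfsg.Agent.BlocksCore
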