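import Cfsg.Agent.Lib.BlocksCore.WeakOrth
import Cfsg.Agent.Lib.BlocksDefect.PrincipalSection
import Cfsg.Agent.Lib.BlocksDefect.Kernel
import Mathlib.GroupTheory.Transfer

/-!
# Sections whose centralizer has a normal `p`-complement

If the `p`-regular elements of `C(z)` lie in a normal subgroup `K` of order prime to `p`, the
principal block of `C(z)` has idempotent the average over `K`; hence the members of the principal
block are constant on `z K` and their squares there add up to the index of `K`.
-/

set_option linter.unusedSectionVars false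

namespace Cfsg.Agent.BlocksCore.SectionKernel

open BlocksDefect

variable {p : ℕ} [Fact p.Prime] {M : Ideal AlgInt}

/-- A group with a normal `p`-complement: the idempotent of the principal block. -/
theorem blockCoeff_principal {H : Type*} [Group H] [Finite H] (hM : IsPModular p M) (K : Subgroup H)
    [K.Normal] (hK : ¬ p ∣ Nat.card K) (hreg : ∀ x : H, ¬ p ∣ orderOf x → x ∈ K) :
    blockCoeff (principalBlock M H) = subInd K := by
  classical
  have := isPrime hM
  have := Fintype.ofFinite H
  have := Fintype.ofFinite K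
  have hb : IsPBlock M (principalBlock M H) := isPBlock_principal
  set e₀ := blockCoeff (principalBlock M H) with he₀
  have hconv : conv e₀ (subInd K) = e₀ := by
    refine eq_of_omega_eq (isClassFunction_conv (isClassFunction_blockCoeff _) (isClassFunction_subInd K))
      (isClassFunction_blockCoeff _) fun η => ?_
    rw [omega_conv η (isClassFunction_blockCoeff _) (isClassFunction_subInd K), omega_blockCoeff]
    by_cases hη : η ∈ principalBlock M H
    · rw [Set.indicator_of_mem hη, Pi.one_apply, one_mul, (omega_subInd_eq_one_iff η K).mpr]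
      exact kernel_of_sameBlock hM (χ := oneIrr H) (ψ := η) hη K hK fun _ _ => rfl
    · rw [Set.indicator_of_notMem hη, zero_mul]
  have hsupp : ∀ y : H, y ∉ K → e₀ y = 0 := fun y hy =>
    blockCoeff_eq_zero_of_dvd_orderOf hM hb (by by_contra h; exact hy (hreg y h))
  have hsum : ∑ y, e₀ y = 1 := by
    have h := omega_blockCoeff (principalBlock M H) (oneIrr H)
    rw [Set.indicator_of_mem (oneIrr_mem (M := M)), omega_eq_sum, coe_oneIrr] at h
    simpa [he₀] using h
  funext x
  by_cases hx : x ∈ K
  · rw [subInd_apply_of_mem hx, ← hconv, conv_apply]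
    calc ∑ y, e₀ y * subInd K (y⁻¹ * x) = ∑ y, e₀ y * (Nat.card K : ℂ)⁻¹ := by
          refine Finset.sum_congr rfl fun y _ => ?_
          by_cases hy : y ∈ K
          · rw [subInd_apply_of_mem (K.mul_mem (K.inv_mem hy) hx)]
          · rw [hsupp y hy, zero_mul, zero_mul]
      _ = _ := by rw [← Finset.sum_mul, hsum, one_mul]
  · rw [subInd_apply_of_notMem hx, hsupp x hx]

variable {G : Type*} [Group G] [Fintype G] {z : G} {k : ℕ}
  {K : Subgroup (Subgroup.centralizer ({z} : Set G))} [K.Normal]

/-- The members of the principal block are constant on `z K`. -/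
theorem apply_mul (hM : IsPModular p M) (hz : orderOf z = p ^ k) (hK : ¬ p ∣ Nat.card K)
    (hreg : ∀ x, ¬ p ∣ orderOf x → x ∈ K) {χ : IrrCharacter G} (hχ : χ ∈ principalBlock M G)
    {y : Subgroup.centralizer ({z} : Set G)} (hy : y ∈ K) :
    (χ : G → ℂ) (z * y) = (χ : G → ℂ) z := by
  classical
  have := isPrime hM
  have := Fintype.ofFinite (Subgroup.centralizer ({z} : Set G))
  have hordK : ∀ w ∈ K, ¬ p ∣ orderOf w := fun w hw hd =>
    hK (hd.trans (Subgroup.orderOf_dvd_natCard K hw))
  have key : ∀ w ∈ K, (χ : G → ℂ) (z * (w : G)) =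
      (Nat.card K : ℂ)⁻¹ * ∑ n : K, (χ : G → ℂ) (z * ((n : Subgroup.centralizer ({z} : Set G)) : G)) := by
    intro w hw
    have h := principal_apply_section hM hz hχ w (hordK w hw)
    rw [blockCoeff_principal hM K hK hreg, sum_subInd_mul] at h
    rw [← h]
    congr 1
    refine Fintype.sum_equiv (Equiv.mulRight ⟨w, hw⟩) _ _ fun n => ?_
    show (χ : G → ℂ) _ = (χ : G → ℂ) (z * (((n : Subgroup.centralizer ({z} : Set G)) * w :
      Subgroup.centralizer ({z} : Set G)) : G))
    rw [Subgroup.coe_mul, ← mul_assoc, ← mul_assoc,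
      Subgroup.mem_centralizer_singleton_iff.mp (n : Subgroup.centralizer ({z} : Set G)).2]
  rw [key y hy, ← key 1 K.one_mem]
  rw [OneMemClass.coe_one, mul_one]

/-- Brauer: the norm of the section of `z`. -/
theorem sum_norm (hM : IsPModular p M) (hz : orderOf z = p ^ k) (hK : ¬ p ∣ Nat.card K)
    (hreg : ∀ x, ¬ p ∣ orderOf x → x ∈ K) :
    ∑ χ : IrrCharacter G, (principalBlock M G).indicator
        (fun χ => (χ : G → ℂ) z * (χ : G → ℂ) z⁻¹) χ = (K.index : ℂ) := by
  classical
  have := isPrime hM
  have := Fintype.ofFinite (Subgroup.centralizer ({z} : Set G))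
  have h := sum_principal_section_norm hM hz (1 : Subgroup.centralizer ({z} : Set G))
    (by rw [orderOf_one]; exact (Fact.out : p.Prime).not_dvd_one)
  simp only [OneMemClass.coe_one, mul_one, inv_one] at h
  rw [h, show (K.index : ℂ) = (Nat.card (Subgroup.centralizer ({z} : Set G)) : ℂ) * blockCoeff
      (principalBlock M (Subgroup.centralizer ({z} : Set G))) 1⁻¹ by
    rw [inv_one, blockCoeff_principal hM K hK hreg, subInd_apply_of_mem K.one_mem,
      ← Subgroup.card_mul_index K, Nat.cast_mul]
    field_simp [Nat.cast_ne_zero.mpr (Nat.card_pos (α := K)).ne'],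
    ← sum_degree_mul_eq_blockCoeff]
  refine Finset.sum_congr rfl fun η _ => ?_
  by_cases hη : η ∈ principalBlock M (Subgroup.centralizer ({z} : Set G)) <;> simp [hη]

omit [K.Normal] in
/-- Burnside: the centralizer of `z` has a normal `p`-complement. -/
theorem exists_kernel (P : Sylow p G) (hcomm : ∀ a ∈ (P : Subgroup G), ∀ b ∈ (P : Subgroup G), a * b = b * a)
    (hzP : z ∈ (P : Subgroup G))
    (hN : ∀ n ∈ Subgroup.normalizer ((P : Subgroup G) : Set G),
      n ∈ Subgroup.centralizer ({z} : Set G) → n ∈ Subgroup.centralizer ((P : Subgroup G) : Set G)) :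
    ∃ K : Subgroup (Subgroup.centralizer ({z} : Set G)), K.Normal ∧ ¬ p ∣ Nat.card K ∧
      (∀ x, ¬ p ∣ orderOf x → x ∈ K) ∧ K.index = Nat.card P := by
  classical
  set C := Subgroup.centralizer ({z} : Set G) with hC
  have hPC : (P : Subgroup G) ≤ C := fun a ha =>
    Subgroup.mem_centralizer_singleton_iff.mpr (hcomm a ha z hzP)
  have := Fintype.ofFinite C
  let Q : Sylow p C := P.subtype hPC
  have hQ : (Q : Subgroup C) = (P : Subgroup G).subgroupOf C := rfl
  have hQN : Subgroup.normalizer ((Q : Subgroup C) : Set C) ≤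
      Subgroup.centralizer ((Q : Subgroup C) : Set C) := by
    intro n hn
    rw [hQ] at hn ⊢
    have hn' : (n : G) ∈ Subgroup.normalizer ((P : Subgroup G) : Set G) := by
      refine Subgroup.mem_normalizer_iff.mpr fun a => ?_
      constructor
      · intro ha
        exact (Subgroup.mem_normalizer_iff.mp hn ⟨a, hPC ha⟩).mp ha
      · intro ha
        have haC : a ∈ C := by
          have h1 := C.mul_mem (C.mul_mem (C.inv_mem n.2) (hPC ha)) n.2
          simpa [mul_assoc] using h1
        exact (Subgroup.mem_normalizer_iff.mp hn ⟨a, haC⟩).mpr ha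
    exact Subgroup.mem_centralizer_iff.mpr fun a ha =>
      Subtype.ext (Subgroup.mem_centralizer_iff.mp (hN n hn' n.2) (a : G) ha)
  set K := (MonoidHom.transferSylow Q hQN).ker
  have hKn : ¬ p ∣ Nat.card K := MonoidHom.not_dvd_card_ker_transferSylow Q hQN
  have hidx : K.index = Nat.card P := by
    rw [(MonoidHom.ker_transferSylow_isComplement' Q hQN).symm.index_eq_card, hQ]
    exact Nat.card_congr (Subgroup.subgroupOfEquivOfLe hPC).toEquiv
  refine ⟨K, inferInstance, hKn, fun x hx => ?_, hidx⟩
  rw [MonoidHom.mem_ker]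
  set f := MonoidHom.transferSylow Q hQN
  have h1 : orderOf (f x) ∣ orderOf x := orderOf_map_dvd f x
  obtain ⟨j, hj⟩ := IsPGroup.iff_orderOf.mp Q.2 (f x)
  rcases Nat.eq_zero_or_pos j with hj0 | hj0
  · rw [hj0, pow_zero] at hj
    exact orderOf_eq_one_iff.mp hj
  · exact absurd ((hj ▸ dvd_pow_self p hj0.ne').trans h1) hx

end Cfsg.Agent.BlocksCore.SectionKernel
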