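import Cfsg.Agent.Lib.BlocksCore.StableHom
import Mathlib.LinearAlgebra.Trace
import Mathlib.RepresentationTheory.Irreducible
import Mathlib.RingTheory.SimpleModule.Basic

/-!
# Simple modules attached to the linear characters of the normalizer

For every linear character `lam` of `N = N(P)` trivial on `P` some irreducible representation
has a `lam`-equivariant functional which is no trace.  These representations are pairwise
non-isomorphic, their traces are linearly independent, and a central element with coefficient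
sum one fixes them.
-/

set_option linter.unusedSectionVars false

namespace Cfsg.Agent.BlocksCore.StableHom

open Finset

variable {G : Type*} [Group G] [Finite G] {K : Type*} [Field K] {p : ℕ} [Fact p.Prime] [CharP K p]
  {V : Type*} [AddCommGroup V] [Module K V] {P : Subgroup G} [Fintype P] {z : G}

theorem lam_ne_zero {N : Subgroup G} (lam : N →* K) (n : N) : lam n ≠ 0 := fun h => by
  have := map_mul lam n n⁻¹
  rw [mul_inv_cancel, map_one, h, zero_mul] at this
  exact one_ne_zero this

theorem exists_fin [FiniteDimensional K V] (ρ : Representation K G V) {N : Subgroup G}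
    {lam : N →* K} {f : V →ₗ[K] K} (hf : IsEquiv ρ N lam f) (hfs : ¬ StZero ρ P f) :
    ∃ (ρ' : Representation K G (Fin (Module.finrank K V) → K))
      (f' : (Fin (Module.finrank K V) → K) →ₗ[K] K),
      IsEquiv ρ' N lam f' ∧ ¬ StZero ρ' P f' := by
  set e := (Module.finBasis K V).equivFun
  refine ⟨(e.conjAlgEquiv K).toMonoidHom.comp ρ, f.comp e.symm.toLinearMap, fun n v => ?_,
    fun ⟨ψ, hψ⟩ => hfs ⟨ψ.comp e.toLinearMap, fun v => ?_⟩⟩
  · show f (e.symm (e (ρ n (e.symm v)))) = _
    rw [LinearEquiv.symm_apply_apply, hf]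
    rfl
  · have h := hψ (e v)
    simpa [LinearEquiv.conjAlgEquiv_apply] using h

variable (hs : Setting p P z)

include hs

/-- The induced space carries a functional which is no trace. -/
theorem exists_nonzero_functional (lam : Subgroup.normalizer (P : Set G) →* K)
    (hlam : ∀ n : Subgroup.normalizer (P : Set G), (n : G) ∈ P → lam n = 1) :
    ∃ (n : ℕ) (ρ : Representation K G (Fin n → K)) (f : (Fin n → K) →ₗ[K] K),
      IsEquiv ρ _ lam f ∧ ¬ StZero ρ P f := by
  classical
  haveI := Fintype.ofFinite G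
  let W : Submodule K (G → K) :=
    { carrier := {φ | ∀ (n : Subgroup.normalizer (P : Set G)) (g : G),
        φ ((n : G) * g) = lam n * φ g}
      add_mem' := fun {a b} ha hb n g => by simp [ha n g, hb n g, mul_add]
      zero_mem' := fun n g => by simp
      smul_mem' := fun c a ha n g => by simp [ha n g, mul_left_comm] }
  let ρ : Representation K G W :=
    { toFun := fun x => LinearMap.restrict (LinearMap.funLeft K K (· * x))
        (fun φ (hφ : φ ∈ W) => fun n g => by
          show φ (n * g * x) = lam n * φ (g * x)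
          rw [mul_assoc]
          exact hφ n _)
      map_one' := by
        refine LinearMap.ext fun φ => Subtype.ext (funext fun g => ?_)
        show φ.1 (g * 1) = φ.1 g
        rw [mul_one]
      map_mul' := fun a b => by
        refine LinearMap.ext fun φ => Subtype.ext (funext fun g => ?_)
        show φ.1 (g * (a * b)) = φ.1 (g * a * b)
        rw [mul_assoc] }
  let f : W →ₗ[K] K := (LinearMap.proj 1).comp W.subtype
  have hf : IsEquiv ρ _ lam f := fun n φ => by
    show φ.1 (1 * (n : G)) = lam n * φ.1 1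
    rw [one_mul, ← φ.2 n 1, mul_one]
  have hfs : ¬ StZero ρ P f := by
    rw [stZero_iff hs]
    push Not
    set φ₀ : G → K := fun g => if h : g ∈ Subgroup.normalizer (P : Set G) then lam ⟨g, h⟩ else 0
    have hφ₀ : φ₀ ∈ W := fun n g => by
      by_cases hg : g ∈ Subgroup.normalizer (P : Set G)
      · simp only [φ₀, dif_pos hg, dif_pos (mul_mem n.2 hg), ← map_mul]
        rfl
      · simp only [φ₀, dif_neg hg, dif_neg (fun h => hg ((Subgroup.mul_mem_cancel_left _ n.2).mp h)),
          mul_zero]
    have hzN : z ∈ Subgroup.normalizer (P : Set G) := Subgroup.le_normalizer hs.mem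
    have hfix : (ρ z - 1) ⟨φ₀, hφ₀⟩ = 0 := by
      rw [LinearMap.sub_apply, Module.End.one_apply, sub_eq_zero]
      refine Subtype.ext (funext fun g => ?_)
      show φ₀ (g * z) = φ₀ g
      by_cases hg : g ∈ Subgroup.normalizer (P : Set G)
      · simp only [φ₀, dif_pos hg, dif_pos (mul_mem hg hzN)]
        rw [show (⟨g * z, mul_mem hg hzN⟩ : Subgroup.normalizer (P : Set G)) = ⟨g, hg⟩ * ⟨z, hzN⟩
          from rfl, map_mul, hlam ⟨z, hzN⟩ hs.mem, mul_one]
      · simp only [φ₀, dif_neg hg,
          dif_neg (fun h => hg ((Subgroup.mul_mem_cancel_right _ hzN).mp h))]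
    refine ⟨⟨φ₀, hφ₀⟩, ?_, ?_⟩
    · obtain ⟨i, hi⟩ : ∃ i, p - 1 = i + 1 :=
        ⟨p - 2, by have := (Fact.out : p.Prime).two_le; omega⟩
      rw [hi, pow_succ, Module.End.mul_apply, hfix, map_zero]
    · show φ₀ 1 ≠ 0
      simp only [φ₀, dif_pos (one_mem (Subgroup.normalizer (P : Set G)))]
      exact lam_ne_zero lam _
  exact ⟨_, exists_fin ρ hf hfs⟩

/-- An irreducible representation with a functional which is no trace. -/
theorem exists_simple (lam : Subgroup.normalizer (P : Set G) →* K)
    (hlam : ∀ n : Subgroup.normalizer (P : Set G), (n : G) ∈ P → lam n = 1) :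
    ∃ (n : ℕ) (ρ : Representation K G (Fin n → K)) (f : (Fin n → K) →ₗ[K] K),
      IsIrr ρ ∧ IsEquiv ρ _ lam f ∧ ¬ StZero ρ P f := by
  classical
  have hex := exists_nonzero_functional hs lam hlam
  obtain ⟨n, ⟨ρ, f, hf, hfs⟩, hmin⟩ : ∃ n, (∃ (ρ : Representation K G (Fin n → K))
      (f : (Fin n → K) →ₗ[K] K), IsEquiv ρ _ lam f ∧ ¬ StZero ρ P f) ∧
      ∀ m < n, ¬ ∃ (ρ : Representation K G (Fin m → K))
        (f : (Fin m → K) →ₗ[K] K), IsEquiv ρ _ lam f ∧ ¬ StZero ρ P f :=
    ⟨_, Nat.find_spec hex, fun m hm => Nat.find_min hex hm⟩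
  refine ⟨_, ρ, f, fun A hA => ?_, hf, hfs⟩
  by_contra hAne
  push Not at hAne
  have hlt : Module.finrank K A < n := by
    have := Submodule.finrank_lt (lt_top_iff_ne_top.mpr hAne.2).ne
    rwa [Module.finrank_fintype_fun_eq_card, Fintype.card_fin] at this
  have hlt2 : Module.finrank K ((Fin n → K) ⧸ A) < n := by
    have h1 := A.finrank_quotient_add_finrank
    rw [Module.finrank_fintype_fun_eq_card, Fintype.card_fin] at h1
    have := Submodule.one_le_finrank_iff.mpr hAne.1
    omega
  let ρA : Representation K G A :=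
    { toFun := fun g => LinearMap.restrict (ρ g) (hA g)
      map_one' := LinearMap.ext fun a => Subtype.ext (by
        show ρ 1 a.1 = a.1
        rw [map_one]; rfl)
      map_mul' := fun a b => LinearMap.ext fun v => Subtype.ext (by
        show ρ (a * b) v.1 = ρ a (ρ b v.1)
        rw [map_mul]; rfl) }
  have hfA : IsEquiv ρA _ lam (f.comp A.subtype) := fun m v => hf m v.1
  by_cases hAs : StZero ρA P (f.comp A.subtype)
  swap
  · exact hmin _ hlt (exists_fin ρA hfA hAs)
  obtain ⟨ψ, hψ⟩ := hAs
  obtain ⟨ψ', hψ'⟩ := LinearMap.exists_extend ψ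
  set T₀ : (Fin n → K) →ₗ[K] K := ∑ u : P, ψ'.comp (ρ (u : G)) with hT₀
  have hT₀P : ∀ (w : P) (v : Fin n → K), T₀ (ρ (w : G) v) = T₀ v := fun w v => by
    simp only [hT₀, LinearMap.sum_apply, LinearMap.comp_apply]
    refine Fintype.sum_equiv (Equiv.mulRight w) _ _ fun u => ?_
    show _ = ψ' (ρ ((u * w : P) : G) v)
    rw [Subgroup.coe_mul, map_mul]
    rfl
  haveI := Fintype.ofFinite (Subgroup.normalizer (P : Set G))
  set P' := P.subgroupOf (Subgroup.normalizer (P : Set G)) with hP'
  haveI : P'.Normal := Subgroup.normal_in_normalizer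
  haveI := Fintype.ofFinite ((Subgroup.normalizer (P : Set G)) ⧸ P')
  set m : K := (Fintype.card ((Subgroup.normalizer (P : Set G)) ⧸ P') : K) with hm
  have hm0 : m ≠ 0 := by
    rw [hm, Ne, CharP.cast_eq_zero_iff K p, ← Nat.card_eq_fintype_card]
    exact fun hd => hs.not_dvd_index
      (hd.trans (Subgroup.relIndex_dvd_index_of_le Subgroup.le_normalizer))
  set T : (Fin n → K) →ₗ[K] K := m⁻¹ • ∑ q : (Subgroup.normalizer (P : Set G)) ⧸ P',
    (lam q.out)⁻¹ • T₀.comp (ρ (q.out : G)) with hT
  have hTa : ∀ v, T v = m⁻¹ * ∑ q : (Subgroup.normalizer (P : Set G)) ⧸ P',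
      (lam q.out)⁻¹ * T₀ (ρ (q.out : G) v) := fun v => by
    simp [hT, LinearMap.sum_apply]
  have hTe : IsEquiv ρ _ lam T := fun a v => by
    rw [hTa, hTa, mul_left_comm (lam a), Finset.mul_sum Finset.univ _ (lam a)]
    congr 1
    refine Fintype.sum_equiv (Equiv.mulRight (a : (Subgroup.normalizer (P : Set G)) ⧸ P')) _ _
      fun q => ?_
    rw [Equiv.coe_mulRight]
    set o := (q * (a : (Subgroup.normalizer (P : Set G)) ⧸ P')).out with ho
    have e : (((q.out * a : Subgroup.normalizer (P : Set G))) :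
        (Subgroup.normalizer (P : Set G)) ⧸ P') = (o : _ ⧸ P') := by
      rw [ho, QuotientGroup.out_eq', QuotientGroup.mk_mul, QuotientGroup.out_eq']
    obtain ⟨u, hu, hua⟩ : ∃ u : Subgroup.normalizer (P : Set G), (u : G) ∈ P ∧
        q.out * a = u * o := by
      refine ⟨q.out * a * o⁻¹, ?_, by group⟩
      have h1 := QuotientGroup.eq.mp e.symm
      have h2 := (inferInstance : P'.Normal).conj_mem _ h1 o
      rw [show o * (o⁻¹ * (q.out * a)) * o⁻¹ = q.out * a * o⁻¹ by group] at h2
      exact Subgroup.mem_subgroupOf.mp h2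
    have h1 : lam q.out * lam a = lam o := by
      rw [← map_mul, hua, map_mul, hlam u hu, one_mul]
    have h2 : T₀ (ρ (q.out : G) (ρ (a : G) v)) = T₀ (ρ (o : G) v) := by
      rw [← Module.End.mul_apply, ← map_mul, ← Subgroup.coe_mul, hua, Subgroup.coe_mul, map_mul]
      exact hT₀P ⟨_, hu⟩ _
    rw [h2, ← h1, mul_inv, ← mul_assoc, mul_comm (lam a), mul_assoc (lam q.out)⁻¹,
      inv_mul_cancel₀ (lam_ne_zero lam a), mul_one]
  have hTs : StZero ρ P T := by
    rw [stZero_iff hs]
    intro v hv
    rw [hTa, Finset.sum_eq_zero, mul_zero]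
    intro q _
    rw [(stZero_iff hs ρ T₀).mp ⟨ψ', fun w => by simp [hT₀, LinearMap.sum_apply]⟩ _
      (pow_apply_eq_zero hs ρ q.out.2 hv), mul_zero]
  have hTA : ∀ a ∈ A, T a = f a := by
    intro a ha
    have h0 : ∀ b ∈ A, T₀ b = f b := fun b hb => by
      have := hψ ⟨b, hb⟩
      rw [LinearMap.comp_apply, Submodule.subtype_apply] at this
      rw [this, hT₀, LinearMap.sum_apply]
      refine Finset.sum_congr rfl fun u _ => ?_
      rw [← hψ']
      rfl
    rw [hTa, Finset.sum_eq_card_nsmul (b := f a), Finset.card_univ, nsmul_eq_mul, ← hm,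
      ← mul_assoc, inv_mul_cancel₀ hm0, one_mul]
    intro q _
    rw [h0 _ (hA _ a ha), hf, ← mul_assoc, inv_mul_cancel₀ (lam_ne_zero lam _), one_mul]
  let ρq : Representation K G ((Fin n → K) ⧸ A) :=
    { toFun := fun g => A.mapQ A (ρ g) (hA g)
      map_one' := Submodule.linearMap_qext _ (LinearMap.ext fun v => by
        show Submodule.Quotient.mk (ρ 1 v) = Submodule.Quotient.mk v
        rw [map_one]; rfl)
      map_mul' := fun a b => Submodule.linearMap_qext _ (LinearMap.ext fun v => by
        show Submodule.Quotient.mk (ρ (a * b) v) = Submodule.Quotient.mk (ρ a (ρ b v))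
        rw [map_mul]; rfl) }
  let fq : ((Fin n → K) ⧸ A) →ₗ[K] K :=
    A.liftQ (f - T) fun a ha => by
      rw [LinearMap.mem_ker, LinearMap.sub_apply, hTA a ha, sub_self]
  have hfq : IsEquiv ρq _ lam fq := fun a v => by
    obtain ⟨v, rfl⟩ := Submodule.Quotient.mk_surjective A v
    show f (ρ a v) - T (ρ a v) = lam a * (f v - T v)
    rw [hf, hTe, mul_sub]
  refine hmin _ hlt2 (exists_fin ρq hfq fun ⟨χ, hχ⟩ => hfs ?_)
  obtain ⟨φ, hφ⟩ := hTs
  refine ⟨χ.comp A.mkQ + φ, fun v => ?_⟩
  have h1 : f v - T v = ∑ u : P, χ (A.mkQ (ρ (u : G) v)) := hχ (Submodule.Quotient.mk v)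
  simp only [LinearMap.add_apply, LinearMap.comp_apply, Finset.sum_add_distrib, ← h1, ← hφ,
    sub_add_cancel]

/-- A central element of coefficient sum one fixes these representations. -/
theorem sum_smul_eq_one [IsAlgClosed K] [FiniteDimensional K V] [Fintype G]
    (ρ : Representation K G V) (hirr : IsIrr ρ) {lam : Subgroup.normalizer (P : Set G) →* K}
    (hlamC : ∀ n : Subgroup.normalizer (P : Set G),
      (n : G) ∈ Subgroup.centralizer (P : Set G) → lam n = 1)
    {f : V →ₗ[K] K} (hf : IsEquiv ρ _ lam f) (hfs : ¬ StZero ρ P f) (ε : G → K)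
    (hε : ∀ g h, ε (h * g * h⁻¹) = ε g) (hsum : ∑ g, ε g = 1) :
    ∑ g, ε g • ρ g = 1 := by
  classical
  haveI : Nontrivial V := by
    by_contra hnt
    rw [not_nontrivial_iff_subsingleton] at hnt
    exact hfs ⟨0, fun v => by simp [Subsingleton.elim v 0]⟩
  set E := ∑ g, ε g • ρ g with hE
  have hEc : ∀ x, ρ x * E = E * ρ x := fun x => by
    rw [hE, Finset.mul_sum, Finset.sum_mul]
    refine Fintype.sum_equiv (MulAut.conj x).toEquiv _ _ fun g => ?_
    show ρ x * (ε g • ρ g) = ε (x * g * x⁻¹) • ρ (x * g * x⁻¹) * ρ x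
    rw [hε, mul_smul_comm, smul_mul_assoc, ← map_mul, ← map_mul, inv_mul_cancel_right]
  obtain ⟨c, hc⟩ := Module.End.exists_eigenvalue E
  have hEv : ∀ v, E v = c • v := by
    have hA := hirr (Module.End.eigenspace E c) fun g v hv => by
      rw [Module.End.mem_eigenspace_iff] at hv ⊢
      rw [← Module.End.mul_apply, ← hEc g, Module.End.mul_apply, hv, map_smul]
    exact fun v => Module.End.mem_eigenspace_iff.mp (hA.resolve_left hc ▸ Submodule.mem_top)
  suffices c = 1 by
    refine LinearMap.ext fun v => ?_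
    rw [hEv, this, one_smul, Module.End.one_apply]
  set C := Subgroup.centralizer (P : Set G) with hC
  have hCN : C ≤ Subgroup.normalizer (P : Set G) := Subgroup.centralizer_le_normalizer _
  have hPC : ∀ u ∈ P, u ∈ C := by
    intro u hu
    rw [hC, Subgroup.mem_centralizer_iff]
    intro v hv
    obtain ⟨a, rfl⟩ := hs.exists_pow hu
    obtain ⟨b, rfl⟩ := hs.exists_pow hv
    rw [← pow_add, ← pow_add, add_comm]
  have hfP : ∀ u : P, ∀ v, f (ρ (u : G) v) = f v := fun u v => by
    have h := hf ⟨u, Subgroup.le_normalizer u.2⟩ v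
    rwa [hlamC _ (hPC _ u.2), one_mul] at h
  let S := {g : G // g ∉ C}
  let _ : MulAction P S :=
    { smul := fun u g => ⟨(u : G) * g.1 * (u : G)⁻¹, fun h => g.2 (by
        have := mul_mem (mul_mem (inv_mem (hPC _ u.2)) h) (hPC _ u.2)
        simpa [mul_assoc] using this)⟩
      one_smul := fun g => Subtype.ext (by show (1 : G) * g.1 * (1 : G)⁻¹ = g.1; simp)
      mul_smul := fun u v g => Subtype.ext (by
        show (u : G) * v * g.1 * ((u : G) * v)⁻¹ = u * (v * g.1 * (v : G)⁻¹) * (u : G)⁻¹
        group) }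
  have hfree : ∀ (u : P) (g : S), u • g = g → u = 1 := by
    intro u g h
    by_contra hu
    refine g.2 ?_
    have h1 : (u : G) * g.1 * (u : G)⁻¹ = g.1 := congrArg Subtype.val h
    show g.1 ∈ Subgroup.centralizer (P : Set G)
    rw [Subgroup.mem_centralizer_iff]
    intro v hv
    have hv' : v ∈ Subgroup.zpowers (u : G) :=
      (hs.zpowers_eq_of_mem u.2 (fun h => hu (Subtype.ext h))).symm ▸ hv
    obtain ⟨i, rfl⟩ := Subgroup.mem_zpowers_iff.mp hv'
    exact (Commute.zpow_left (show Commute (u : G) g.1 from mul_inv_eq_iff_eq_mul.mp h1) i).eq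
  haveI := Fintype.ofFinite (Quotient (MulAction.orbitRel P S))
  have hoff : ∀ φ : G → K, (∀ q : S, ∑ u : P, φ ((u • q).1) = 0) →
      ∑ g : S, φ g.1 = 0 := by
    intro φ hφ
    rw [sum_eq_sum_free hfree, Finset.sum_comm]
    exact Finset.sum_eq_zero fun q _ => hφ q.out
  have hsplit : ∀ φ : G → K, ∑ g, φ g =
      (∑ g : {g : G // g ∈ C}, φ g.1) + ∑ g : S, φ g.1 := fun φ =>
    (Fintype.sum_subtype_add_sum_subtype (· ∈ C) φ).symm
  have hεC : ∑ g : {g : G // g ∈ C}, ε g.1 = 1 := by
    rw [← hsum, hsplit ε, hoff ε, add_zero]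
    intro q
    show ∑ u : P, ε ((u : G) * q.1 * (u : G)⁻¹) = 0
    rw [Finset.sum_eq_card_nsmul (b := ε q.1) (fun u _ => hε _ _), Finset.card_univ, nsmul_eq_mul,
      ← Nat.card_eq_fintype_card, hs.card_eq, CharP.cast_eq_zero, zero_mul]
  obtain ⟨w, hw, hfw⟩ : ∃ w, ((ρ z - 1) ^ (p - 1)) w = 0 ∧ f w ≠ 0 := by
    rw [stZero_iff hs] at hfs
    push Not at hfs
    exact hfs
  have h1 : f (E w) = f w := by
    rw [hE, LinearMap.sum_apply, map_sum, hsplit, hoff (fun g => f ((ε g • ρ g) w))]
    · rw [add_zero]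
      simp only [LinearMap.smul_apply, map_smul, smul_eq_mul]
      rw [Finset.sum_congr rfl fun g _ => show ε g.1 * f (ρ g.1 w) = ε g.1 * f w by
        rw [show f (ρ g.1 w) = f w by
          have h := hf ⟨g.1, hCN g.2⟩ w
          rwa [hlamC _ g.2, one_mul] at h], ← Finset.sum_mul, hεC, one_mul]
    · intro q
      simp only [LinearMap.smul_apply, map_smul, smul_eq_mul]
      have he : ∀ u : P, ε (u • q).1 * f (ρ (u • q).1 w) =
          ε q.1 * f (ρ q.1 (ρ ((u⁻¹ : P) : G) w)) := fun u => by
        show ε ((u : G) * q.1 * (u : G)⁻¹) * f (ρ ((u : G) * q.1 * (u : G)⁻¹) w) = _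
        rw [hε, map_mul, map_mul, Module.End.mul_apply, Module.End.mul_apply, hfP]
        rfl
      rw [Finset.sum_congr rfl fun u _ => he u, ← Finset.mul_sum, ← map_sum, ← map_sum,
        Fintype.sum_equiv (Equiv.inv P) (fun u : P => ρ ((u⁻¹ : P) : G) w)
          (fun u : P => ρ (u : G) w) (fun u => rfl), sum_apply_eq hs, hw, map_zero, map_zero,
        mul_zero]
  rw [hEv, map_smul, smul_eq_mul] at h1
  exact mul_right_cancel₀ hfw (h1.trans (one_mul _).symm)

variable [IsAlgClosed K] {ι : Type*} [Fintype ι] {n : ι → ℕ}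
  (ρ : ∀ i, Representation K G (Fin (n i) → K)) (lam : ι → (Subgroup.normalizer (P : Set G) →* K))
  (f : ∀ i, (Fin (n i) → K) →ₗ[K] K)
  (hirr : ∀ i, IsIrr (ρ i))
  (hlam : ∀ i, ∀ n : Subgroup.normalizer (P : Set G), (n : G) ∈ P → lam i n = 1)
  (hinj : Function.Injective lam) (hf : ∀ i, IsEquiv (ρ i) _ (lam i) (f i))
  (hfs : ∀ i, ¬ StZero (ρ i) P (f i))

include hirr hlam hinj hf hfs

theorem eq_zero_of_intertwine {i j : ι} (hij : i ≠ j)
    (φ : (Fin (n i) → K) →ₗ[K] (Fin (n j) → K)) (hφ : ∀ g v, φ (ρ i g v) = ρ j g (φ v)) :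
    φ = 0 := by
  rcases hirr i (LinearMap.ker φ) fun g v hv => by
      rw [LinearMap.mem_ker] at hv ⊢
      rw [hφ, hv, map_zero] with hk | hk
  swap
  · exact LinearMap.ker_eq_top.mp hk
  rcases hirr j (LinearMap.range φ) fun g v hv => by
      obtain ⟨w, rfl⟩ := hv
      exact ⟨ρ i g w, hφ g w⟩ with hr | hr
  · exact LinearMap.range_eq_bot.mp hr
  exfalso
  set e := LinearEquiv.ofBijective φ ⟨LinearMap.ker_eq_bot.mp hk, LinearMap.range_eq_top.mp hr⟩
  refine false_of_two hs (ρ i) (hirr i) (hlam i) (hlam j) (fun h => hij (hinj h)) (hf i)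
    (g := (f j).comp φ) (fun a v => by rw [LinearMap.comp_apply, hφ, hf j]; rfl) (hfs i) ?_
  rintro ⟨ψ, hψ⟩
  refine hfs j ⟨ψ.comp e.symm.toLinearMap, fun v => ?_⟩
  obtain ⟨w, rfl⟩ := e.surjective v
  refine (hψ w).trans (Finset.sum_congr rfl fun u _ => ?_)
  show _ = ψ (e.symm (ρ j (u : G) (φ w)))
  rw [← hφ]
  exact congrArg ψ (e.symm_apply_apply _).symm

/-- The traces of these representations are linearly independent. -/
theorem traces_independent (a : ι → K)
    (ha : ∀ g : G, ∑ i, a i * LinearMap.trace K _ (ρ i g) = 0) : a = 0 := by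
  classical
  funext j
  haveI : Nontrivial (Fin (n j) → K) := by
    by_contra hnt
    rw [not_nontrivial_iff_subsingleton] at hnt
    exact hfs j ⟨0, fun v => by simp [Subsingleton.elim v 0]⟩
  haveI hsimple : ∀ i, IsSimpleModule (MonoidAlgebra K G) (ρ i).asModule := by
    intro i
    rw [← Representation.irreducible_iff_isSimpleModule_asModule]
    haveI : Nontrivial (Fin (n i) → K) := by
      by_contra hnt
      rw [not_nontrivial_iff_subsingleton] at hnt
      exact hfs i ⟨0, fun v => by simp [Subsingleton.elim v 0]⟩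
    haveI : Nontrivial (Subrepresentation (ρ i)) := ⟨⟨⊥, ⊤, fun h => by
      have := congrArg Subrepresentation.toSubmodule h
      exact bot_ne_top this⟩⟩
    refine ⟨fun A => ?_⟩
    rcases hirr i A.toSubmodule A.apply_mem_toSubmodule with h | h
    · exact Or.inl (Subrepresentation.toSubmodule_injective h)
    · exact Or.inr (Subrepresentation.toSubmodule_injective h)
  have hsm : ∀ (i : ι) (g : G) (v : Fin (n i) → K),
      (MonoidAlgebra.of K G g • (show (ρ i).asModule from v) : (ρ i).asModule) = ρ i g v := by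
    intro i g v
    exact ((ρ i).asModuleEquiv_map_smul _ _).trans (by rw [Representation.asAlgebraHom_of]; rfl)
  -- endomorphisms of the sum are diagonal scalars
  have hdiag : ∀ φ : Module.End (MonoidAlgebra K G) (∀ i, (ρ i).asModule),
      ∀ i, ∃ c : K, ∀ m, (ρ i).asModuleEquiv (φ m i) = c • (ρ i).asModuleEquiv (m i) := by
    intro φ i
    let comp : ∀ k, (Fin (n k) → K) →ₗ[K] (Fin (n i) → K) := fun k =>
      { toFun := fun v => φ (Pi.single k (show (ρ k).asModule from v)) i
        map_add' := fun v w => by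
          exact (congrArg (fun m => φ m i) (Pi.single_add k _ _)).trans
            (by rw [map_add]; rfl)
        map_smul' := fun c v => by
          have h : (Pi.single k (show (ρ k).asModule from (c • v : Fin (n k) → K)) :
              ∀ i, (ρ i).asModule) =
              (MonoidAlgebra.single 1 c : MonoidAlgebra K G) •
                Pi.single k (show (ρ k).asModule from v) := by
            rw [← Pi.single_smul]
            congr 1
            exact ((Representation.single_smul (ρ k) c 1 _).trans (by rw [map_one]; rfl)).symm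
          rw [h, map_smul, Pi.smul_apply, Representation.single_smul, map_one]
          rfl }
    have hcomp : ∀ k g v, comp k (ρ k g v) = ρ i g (comp k v) := by
      intro k g v
      show φ (Pi.single k (show (ρ k).asModule from ρ k g v)) i = _
      rw [← hsm k g v, Pi.single_smul, map_smul, Pi.smul_apply]
      exact hsm i g _
    haveI : Nontrivial (Fin (n i) → K) := by
      by_contra hnt
      rw [not_nontrivial_iff_subsingleton] at hnt
      exact hfs i ⟨0, fun v => by simp [Subsingleton.elim v 0]⟩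
    obtain ⟨c, hc⟩ := Module.End.exists_eigenvalue (comp i)
    have hA := hirr i (Module.End.eigenspace (comp i) c) fun g v hv => by
      rw [Module.End.mem_eigenspace_iff] at hv ⊢
      rw [hcomp, hv, map_smul]
    have hci : ∀ v, comp i v = c • v := fun v =>
      Module.End.mem_eigenspace_iff.mp (hA.resolve_left hc ▸ Submodule.mem_top)
    refine ⟨c, fun m => ?_⟩
    conv_lhs => rw [← Finset.univ_sum_single m]
    rw [map_sum, Finset.sum_apply, Finset.sum_eq_single i]
    · exact hci _
    · intro k _ hk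
      exact LinearMap.congr_fun
        (eq_zero_of_intertwine hs ρ lam f hirr hlam hinj hf hfs hk (comp k) (hcomp k)) (m k)
    · simp
  obtain ⟨x₀⟩ : Nonempty (Fin (n j)) := by
    by_contra h
    rw [not_nonempty_iff] at h
    exact not_subsingleton (Fin (n j) → K) inferInstance
  -- an element acting as a rank one projection on the `j`-th summand and as zero elsewhere
  let Tj : Module.End K (Fin (n j) → K) :=
    (LinearMap.proj x₀).smulRight (Pi.single x₀ (1 : K))
  let U : ∀ i, Module.End K (Fin (n i) → K) := Function.update 0 j Tj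
  let F : Module.End (Module.End (MonoidAlgebra K G) (∀ i, (ρ i).asModule))
      (∀ i, (ρ i).asModule) :=
    { toFun := fun m i => (ρ i).asModuleEquiv.symm (U i ((ρ i).asModuleEquiv (m i)))
      map_add' := fun a b => funext fun i => by simp only [Pi.add_apply, map_add]
      map_smul' := fun φ m => funext fun i => by
        obtain ⟨c, hc⟩ := hdiag φ i
        refine (ρ i).asModuleEquiv.injective ?_
        simp only [RingHom.id_apply, Module.End.smul_def, LinearEquiv.apply_symm_apply, hc,
          map_smul] }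
  obtain ⟨r, hr⟩ := jacobson_density F (Finset.univ.image fun ix : Σ i, Fin (n i) =>
    (Pi.single ix.1 (show (ρ ix.1).asModule from (Pi.single ix.2 1 : Fin (n ix.1) → K)) :
      ∀ i, (ρ i).asModule))
  have hact : ∀ i, (ρ i).asAlgebraHom r = U i := by
    intro i
    refine LinearMap.pi_ext' fun x => LinearMap.ext_ring ?_
    have h := congrFun (hr _ (Finset.mem_image.mpr ⟨⟨i, x⟩, Finset.mem_univ _, rfl⟩)) i
    simp only [Pi.smul_apply, Pi.single_eq_same] at h
    have h2 := congrArg (ρ i).asModuleEquiv h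
    rw [Representation.asModuleEquiv_map_smul] at h2
    have e : (Pi.single i (show (ρ i).asModule from (Pi.single x 1 : Fin (n i) → K)) :
        ∀ i, (ρ i).asModule) i = (show (ρ i).asModule from (Pi.single x 1 : Fin (n i) → K)) :=
      Pi.single_eq_same _ _
    refine Eq.trans ?_ (h2.symm.trans ?_)
    · rw [e]; rfl
    · show (ρ i).asModuleEquiv ((ρ i).asModuleEquiv.symm _) = _
      rw [LinearEquiv.apply_symm_apply, e]
      rfl
  have hlin : ∀ r : MonoidAlgebra K G,
      ∑ i, a i * LinearMap.trace K _ ((ρ i).asAlgebraHom r) = 0 := by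
    intro r
    induction r using MonoidAlgebra.induction_on with
    | of g => simpa [Representation.asAlgebraHom_of] using ha g
    | add u v hu hv => simp [mul_add, Finset.sum_add_distrib, hu, hv]
    | smul c u hu =>
      simp only [map_smul, smul_eq_mul, mul_left_comm, ← Finset.mul_sum, hu, mul_zero]
  have htr : LinearMap.trace K _ Tj = 1 := by
    simp [Tj]
  have h := hlin r
  simp only [hact] at h
  rw [Finset.sum_eq_single j (fun i _ hi => by simp [U, Function.update_of_ne hi]) (by simp)] at h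
  simpa [U, htr] using h

end Cfsg.Agent.BlocksCore.StableHom
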